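import Mathlib
import Cfsg.Prelude.Def_OddOrderLocal
import Cfsg.Agent.Helper51.Replace
import Cfsg.Agent.Helper72.BG13NB8

/-!
# CALL S1356 (BG56), piece EXC (helper12): a `K`-invariant complement of the Sylow `q`-subgroup
`Q` of `S` (`S` normal in the solvable `M`, `K ≤ M` a `q'`-group).
-/

set_option autoImplicit false

namespace Cfsg.Agent.Helper12

open Cfsg Subgroup

universe u

variable {G : Type u} [Group G] [Finite G]

/-- EXC [M-L, PURE + Hall]. A `K`-invariant complement of the Sylow `q`-subgroup `Q` of `S`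
(`S` normal in the solvable `M`, `K ≤ M` a `q'`-group). -/
theorem bg56_exists_compl {M S Q K : Subgroup G} {q : ℕ} (hq : q.Prime)
    (hsol : Group.IsSolvable ↥M) (hSM : S ≤ M) (hSn : M ≤ normalizer (S : Set G)) (hQS : Q ≤ S)
    (hQ : IsPGroup q Q) (hQi : ¬ q ∣ Q.relIndex S) (hKM : K ≤ M) (hKq : ¬ q ∣ Nat.card K) :
    ∃ D : Subgroup G, IsComplIn Q D S ∧ K ≤ normalizer (D : Set G) := by
  classical
  haveI : Fact q.Prime := ⟨hq⟩
  obtain ⟨C, hC, hKC⟩ := Cfsg.Agent.Helper72.bg13nb_exists_hall_ge hsol {r | r ≠ q} hKM (by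
    intro p hp hpK
    show p ≠ q
    rintro rfl
    exact hKq hpK)
  obtain ⟨hCM, hCπ, hCi⟩ := hC
  -- the index of `C` in `M` is a power of `q`
  have hidx : ∃ b : ℕ, C.relIndex M = q ^ b := by
    have hne : C.relIndex M ≠ 0 := by
      have h := relIndex_mul_relIndex ⊥ C M bot_le hCM
      rw [relIndex_bot_left, relIndex_bot_left] at h
      intro h0
      rw [h0, mul_zero] at h
      exact (Nat.card_pos (α := ↥M)).ne' h.symm
    exact ⟨_, Nat.eq_prime_pow_of_unique_prime_dvd hne (fun {d} hd hdvd => by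
      by_contra hdq
      exact hCi d hd hdq hdvd)⟩
  obtain ⟨b', hb'⟩ := hidx
  have hCn : C ≤ normalizer (S : Set G) := hCM.trans hSn
  -- `|S| = q^b |C ⊓ S|`
  have hcard : ∃ b : ℕ, q ^ b * Nat.card ↥(C ⊓ S) = Nat.card S := by
    have h1 := Cfsg.Agent.Helper51.card_sup_mul_card_inf_of_le_normalizer C S hCn
    have hle : C ⊔ S ≤ M := sup_le hCM hSM
    have h2 := relIndex_mul_relIndex C (C ⊔ S) M le_sup_left hle
    have h3 : Nat.card C * C.relIndex (C ⊔ S) = Nat.card ↥(C ⊔ S) := by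
      have := relIndex_mul_relIndex ⊥ C (C ⊔ S) bot_le le_sup_left
      rwa [relIndex_bot_left, relIndex_bot_left] at this
    have h4 : C.relIndex (C ⊔ S) ∣ q ^ b' := by
      rw [← hb', ← h2]
      exact Dvd.intro _ rfl
    obtain ⟨b, -, hb⟩ := (Nat.dvd_prime_pow hq).mp h4
    refine ⟨b, ?_⟩
    have hCpos : 0 < Nat.card C := Nat.card_pos
    apply Nat.eq_of_mul_eq_mul_left hCpos
    rw [← mul_assoc, ← hb, h3, h1]
  obtain ⟨b, hb⟩ := hcard
  have hQt : Nat.card Q * Q.relIndex S = Nat.card S := by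
    have := relIndex_mul_relIndex ⊥ Q S bot_le hQS
    rwa [relIndex_bot_left, relIndex_bot_left] at this
  have htD : Q.relIndex S ≤ Nat.card ↥(C ⊓ S) := by
    have hcop : (Q.relIndex S).Coprime (q ^ b) :=
      Nat.Coprime.pow_right _ ((Nat.coprime_comm.mp ((Nat.Prime.coprime_iff_not_dvd hq).mpr hQi)))
    have hdvd : Q.relIndex S ∣ q ^ b * Nat.card ↥(C ⊓ S) := by
      rw [hb, ← hQt]
      exact Dvd.intro_left _ rfl
    exact Nat.le_of_dvd Nat.card_pos (hcop.dvd_of_dvd_mul_left hdvd)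
  -- `Q ⊓ (C ⊓ S) = ⊥`
  have hinf : Q ⊓ (C ⊓ S) = ⊥ := by
    rw [eq_bot_iff]
    intro x hx
    rw [mem_bot]
    by_contra hx1
    obtain ⟨k, hk⟩ := (IsPGroup.iff_orderOf.mp hQ) ⟨x, hx.1⟩
    rw [Subgroup.orderOf_mk] at hk
    have hk0 : k ≠ 0 := by
      intro h0
      rw [h0, pow_zero, orderOf_eq_one_iff] at hk
      exact hx1 hk
    have hqx : q ∣ orderOf x := by
      rw [hk]
      exact dvd_pow_self q hk0
    have hxC : orderOf x ∣ Nat.card C := by
      have := orderOf_dvd_natCard (⟨x, hx.2.1⟩ : ↥C)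
      rwa [Subgroup.orderOf_mk] at this
    exact hCπ q hq (hqx.trans hxC) rfl
  refine ⟨C ⊓ S, ⟨hQS, inf_le_right, hinf, ?_⟩, ?_⟩
  · -- counting
    let f : ↥Q × ↥(C ⊓ S) → ↥S := fun p => ⟨(p.1 : G) * (p.2 : G),
      S.mul_mem (hQS p.1.2) p.2.2.2⟩
    have hf : Function.Injective f := by
      rintro ⟨a, d⟩ ⟨a', d'⟩ h
      have h1 : (a : G) * d = a' * d' := congrArg Subtype.val h
      have h2 : (a' : G)⁻¹ * a = d' * (d : G)⁻¹ := by
        calc (a' : G)⁻¹ * a = (a' : G)⁻¹ * ((a : G) * d) * (d : G)⁻¹ := by group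
          _ = (a' : G)⁻¹ * ((a' : G) * d') * (d : G)⁻¹ := by rw [h1]
          _ = d' * (d : G)⁻¹ := by group
      have h3 : (a' : G)⁻¹ * a ∈ Q ⊓ (C ⊓ S) :=
        ⟨Q.mul_mem (Q.inv_mem a'.2) a.2, h2 ▸ (C ⊓ S).mul_mem d'.2 ((C ⊓ S).inv_mem d.2)⟩
      rw [hinf, mem_bot] at h3
      have h4 : (a : G) = a' := by
        calc (a : G) = a' * ((a' : G)⁻¹ * a) := by group
          _ = a' := by rw [h3, mul_one]
      have h5 : (d : G) = d' := by
        have : (d' : G) * (d : G)⁻¹ = 1 := by rw [← h2, h3]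
        calc (d : G) = ((d' : G) * (d : G)⁻¹)⁻¹ * d' := by group
          _ = d' := by rw [this, inv_one, one_mul]
      exact Prod.ext (Subtype.ext h4) (Subtype.ext h5)
    have hle : Nat.card ↥S ≤ Nat.card (↥Q × ↥(C ⊓ S)) := by
      rw [Nat.card_prod, ← hQt]
      exact Nat.mul_le_mul_left _ htD
    have hbij := hf.bijective_of_nat_card_le hle
    intro m hm
    obtain ⟨⟨a, d⟩, had⟩ := hbij.2 ⟨m, hm⟩
    exact ⟨a, a.2, d, d.2, (congrArg Subtype.val had).symm⟩
  · intro k hk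
    have hkC : k ∈ normalizer (C : Set G) := le_normalizer (hKC hk)
    have hkS : k ∈ normalizer (S : Set G) := hSn (hKM hk)
    rw [mem_normalizer_iff] at hkC hkS ⊢
    intro h
    rw [mem_inf, mem_inf, hkC h, hkS h]

end Cfsg.Agent.Helper12
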