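import Mathlib
import Cfsg.Agent.Helper56.ZEnd
import Cfsg.Agent.Helper69.Q8

set_option autoImplicit false

/-!
# Minimal non-abelian normal subgroups of fixed-point-free groups

A group `G` with a fixed-point-free ring representation, of class two, in which every proper
subgroup invariant under a given set of automorphisms is central, is the quaternion group of
order eight.  Consequence: a minimal non-abelian normal subgroup centralising a maximal normal
abelian subgroup is `Q₈` or `SL(2,5)`.
-/

namespace Cfsg.Agent.Helper12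

open Cfsg.Agent.Helper56
open scoped commutatorElement

section Class2

variable {G : Type*} [Group G]

theorem c2_comm_mul_left (hc : ∀ x y w : G, ⁅x, y⁆ * w = w * ⁅x, y⁆) (x y w : G) :
    ⁅x * y, w⁆ = ⁅x, w⁆ * ⁅y, w⁆ := by
  have h1 : ⁅x * y, w⁆ = x * ⁅y, w⁆ * x⁻¹ * ⁅x, w⁆ := by
    simp only [commutatorElement_def]; group
  have h2 : x * ⁅y, w⁆ * x⁻¹ = ⁅y, w⁆ := by
    rw [← hc y w x, mul_assoc, mul_inv_cancel, mul_one]
  rw [h1, h2]
  exact hc y w _

theorem c2_comm_inv_left (hc : ∀ x y w : G, ⁅x, y⁆ * w = w * ⁅x, y⁆) (x w : G) :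
    ⁅x⁻¹, w⁆ = ⁅x, w⁆⁻¹ := by
  have h := c2_comm_mul_left hc x⁻¹ x w
  rw [inv_mul_cancel, commutatorElement_one_left] at h
  exact eq_inv_of_mul_eq_one_left h.symm

theorem c2_sq_mul (hc : ∀ x y w : G, ⁅x, y⁆ * w = w * ⁅x, y⁆) (x y : G) :
    (x * y) * (x * y) = x * x * (y * y) * ⁅y, x⁆ := by
  have h : y * x = ⁅y, x⁆ * (x * y) := by
    simp only [commutatorElement_def]; group
  calc (x * y) * (x * y) = x * (y * x) * y := by group
    _ = x * (⁅y, x⁆ * (x * y)) * y := by rw [h]
    _ = (x * ⁅y, x⁆) * (x * y * y) := by group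
    _ = (⁅y, x⁆ * x) * (x * y * y) := by rw [hc y x x]
    _ = ⁅y, x⁆ * (x * x * (y * y)) := by group
    _ = x * x * (y * y) * ⁅y, x⁆ := hc y x _

end Class2

theorem q8_gen_facts : ∀ g : QuaternionGroup 2, g ≠ 1 →
    g = QuaternionGroup.a 2 ∨ g * g = QuaternionGroup.a 2 := by decide

theorem q8_of_class_two {G : Type*} [Group G] [Finite G] {R : Type*} [Ring R] [Nontrivial R]
    {ρ : G →* R} (hρ : Fpf ρ) (Φ : Set (MulAut G))
    (hmin : ∀ M : Subgroup G, (∀ φ ∈ Φ, ∀ x ∈ M, φ x ∈ M) → M ≠ ⊤ → M ≤ Subgroup.center G)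
    (hc : ∀ x y w : G, ⁅x, y⁆ * w = w * ⁅x, y⁆) (hna : ∃ x y : G, x * y ≠ y * x) :
    Nonempty (G ≃* QuaternionGroup 2) := by
  classical
  obtain ⟨x, y, hxy⟩ := hna
  have hchar : ∀ M : Subgroup G, M.Characteristic → M ≠ ⊤ → M ≤ Subgroup.center G := by
    intro M hM
    apply hmin
    intro φ _ g hg
    exact (Subgroup.characteristic_iff_map_le.mp hM φ) (Subgroup.mem_map_of_mem _ hg)
  have hcomm_le : commutator G ≤ Subgroup.center G := by
    show ⁅(⊤ : Subgroup G), ⊤⁆ ≤ _
    rw [Subgroup.commutator_le]
    intro g₁ _ g₂ _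
    rw [Subgroup.mem_center_iff]
    intro w
    exact (hc g₁ g₂ w).symm
  have hnil : Group.IsNilpotent G := by
    rw [Subgroup.nilpotent_iff_lowerCentralSeries]
    refine ⟨2, Subgroup.lowerCentralSeries_succ_eq_bot ⊤ ?_⟩
    rw [Subgroup.top_lowerCentralSeries_one]
    exact hcomm_le
  have hpgrp : ∃ r : ℕ, ∃ _ : Fact r.Prime, IsPGroup r G := by
    by_contra hcon
    obtain ⟨e⟩ := ((Group.isNilpotent_of_finite_tfae (G := G)).out 0 4).mp hnil
    have hcen : ∀ (q : (Nat.card G).primeFactors) (P : Sylow q G),
        (P : Subgroup G) ≤ Subgroup.center G := by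
      intro q P
      haveI : Fact (q : ℕ).Prime := ⟨Nat.prime_of_mem_primeFactors q.2⟩
      have hPn : (P : Subgroup G).Normal := inferInstance
      apply hchar _ (Sylow.characteristic_of_normal P hPn)
      intro htop
      apply hcon
      refine ⟨q, ‹_›, ?_⟩
      intro g
      obtain ⟨k, hk⟩ := P.isPGroup' ⟨g, by rw [htop]; exact Subgroup.mem_top g⟩
      exact ⟨k, congrArg Subtype.val hk⟩
    apply hxy
    obtain ⟨a, rfl⟩ := e.surjective x
    obtain ⟨b, rfl⟩ := e.surjective y
    rw [← map_mul, ← map_mul]
    congr 1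
    funext q P
    apply Subtype.ext
    exact Subgroup.mem_center_iff.mp (hcen q P (b q P).2) (a q P)
  obtain ⟨r, hr, hG⟩ := hpgrp
  have hr2 : r = 2 := by
    by_contra hne
    haveI := hr
    have hcyc := hρ.isCyclic_of_odd hne hG
    obtain ⟨g, hg⟩ := hcyc.exists_generator
    obtain ⟨a, rfl⟩ := Subgroup.mem_zpowers_iff.mp (hg x)
    obtain ⟨b, rfl⟩ := Subgroup.mem_zpowers_iff.mp (hg y)
    exact hxy (zpow_mul_comm g a b)
  subst hr2
  have hx1 : x ≠ 1 := by rintro rfl; exact hxy (by rw [one_mul, mul_one])
  obtain ⟨z, hz, hz2⟩ : ∃ z : G, z ≠ 1 ∧ z * z = 1 := by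
    obtain ⟨n, hn⟩ := IsPGroup.iff_card.mp hG
    have h2 : 2 ∣ Nat.card G := by
      rcases n with _ | n
      · exfalso
        rw [pow_zero] at hn
        haveI := (Nat.card_eq_one_iff_unique.mp hn).1
        exact hx1 (Subsingleton.elim x 1)
      · rw [hn]; exact dvd_pow_self 2 (Nat.succ_ne_zero n)
    obtain ⟨z, hz⟩ := exists_prime_orderOf_dvd_card' 2 h2
    refine ⟨z, ?_, ?_⟩
    · rintro rfl; rw [orderOf_one] at hz; omega
    · rw [← sq, ← hz, pow_orderOf_eq_one]
  have hzc : ∀ g : G, g * z = z * g := fun g => hρ.invol_comm hz hz2 g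
  have hsq1 : ∀ g : G, g * g = 1 → g = 1 ∨ g = z := fun g hg => hρ.sq_eq_one hz hz2 hg
  have hxnc : x ∉ Subgroup.center G := fun hx => hxy ((Subgroup.mem_center_iff.mp hx y).symm)
  have hync : y ∉ Subgroup.center G := fun hy => hxy (Subgroup.mem_center_iff.mp hy x)
  -- commutators have order at most two
  have hcsq : ∀ g w : G, ⁅g, w⁆ * ⁅g, w⁆ = 1 := by
    let M : Subgroup G :=
      { carrier := {g | ∀ w : G, ⁅g, w⁆ * ⁅g, w⁆ = 1}
        mul_mem' := by
          intro a b ha hb w
          rw [c2_comm_mul_left hc]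
          calc ⁅a, w⁆ * ⁅b, w⁆ * (⁅a, w⁆ * ⁅b, w⁆)
              = ⁅a, w⁆ * (⁅b, w⁆ * ⁅a, w⁆) * ⁅b, w⁆ := by group
            _ = ⁅a, w⁆ * (⁅a, w⁆ * ⁅b, w⁆) * ⁅b, w⁆ := by rw [hc b w]
            _ = (⁅a, w⁆ * ⁅a, w⁆) * (⁅b, w⁆ * ⁅b, w⁆) := by group
            _ = 1 := by rw [ha w, hb w, mul_one]
        one_mem' := by intro w; rw [commutatorElement_one_left, mul_one]
        inv_mem' := by
          intro a ha w
          rw [c2_comm_inv_left hc, ← mul_inv_rev, ha w, inv_one] }
    have hMchar : ∀ φ ∈ Φ, ∀ g ∈ M, φ g ∈ M := by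
      intro φ _ g hg w
      have h1 : ⁅φ g, w⁆ = φ ⁅g, φ.symm w⁆ := by
        rw [map_commutatorElement, MulEquiv.apply_symm_apply]
      rw [h1, ← map_mul, hg, map_one]
    by_contra hcon
    have hMtop : M ≠ ⊤ := by
      intro htop
      apply hcon
      intro g w
      have hgM : g ∈ M := by rw [htop]; exact Subgroup.mem_top g
      exact hgM w
    have hMle := hmin M hMchar hMtop
    obtain ⟨k, hk⟩ := (IsPGroup.iff_orderOf.mp hG) x
    have hex : ∃ m : ℕ, x ^ (2 ^ m) ∈ Subgroup.center G :=
      ⟨k, by rw [← hk, pow_orderOf_eq_one]; exact Subgroup.one_mem _⟩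
    have hm0 : Nat.find hex ≠ 0 := by
      intro h0
      have hsp := Nat.find_spec hex
      rw [h0, pow_zero, pow_one] at hsp
      exact hxnc hsp
    obtain ⟨m, hm⟩ := Nat.exists_eq_succ_of_ne_zero hm0
    have hnot : x ^ (2 ^ m) ∉ Subgroup.center G := Nat.find_min hex (by omega)
    have hsqc : x ^ (2 ^ m) * x ^ (2 ^ m) ∈ Subgroup.center G := by
      have hsp := Nat.find_spec hex
      rw [hm, pow_succ, pow_mul, sq] at hsp
      exact hsp
    apply hnot
    apply hMle
    intro w
    rw [← c2_comm_mul_left hc, commutatorElement_eq_one_iff_commute]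
    exact (Subgroup.mem_center_iff.mp hsqc w).symm
  have hcz : ∀ g w : G, ⁅g, w⁆ = 1 ∨ ⁅g, w⁆ = z := fun g w => hsq1 _ (hcsq g w)
  have hsqcen : ∀ g : G, g * g ∈ Subgroup.center G := by
    intro g
    rw [Subgroup.mem_center_iff]
    intro w
    have h1 : ⁅g * g, w⁆ = 1 := by rw [c2_comm_mul_left hc, hcsq]
    exact ((commutatorElement_eq_one_iff_commute.mp h1).eq).symm
  have hzcen : z ∈ Subgroup.center G := Subgroup.mem_center_iff.mpr hzc
  have hA : ∀ g : G, ∀ u ∈ Subgroup.center G, g * g = u * u → g ∈ Subgroup.center G := by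
    intro g u hu hgu
    have hug : ∀ w : G, w * u = u * w := Subgroup.mem_center_iff.mp hu
    have h1 : (g * u⁻¹) * (g * u⁻¹) = 1 := by
      have h0 : (g * u⁻¹) * (g * u⁻¹) = g * (u⁻¹ * g) * u⁻¹ := by group
      have h2 : u⁻¹ * g = g * u⁻¹ := by
        rw [inv_mul_eq_iff_eq_mul, ← mul_assoc, ← hug g, mul_assoc, mul_inv_cancel, mul_one]
      rw [h0, h2, ← mul_assoc, hgu]; group
    rcases hsq1 _ h1 with h | h
    · have hgu' : g = u := by rw [mul_inv_eq_one] at h; exact h
      rw [hgu']; exact hu
    · have hgu' : g = z * u := by rw [mul_inv_eq_iff_eq_mul] at h; exact h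
      rw [hgu']; exact Subgroup.mul_mem _ hzcen hu
  have hcyx : ⁅y, x⁆ = z := by
    rcases hcz y x with h | h
    · exfalso; exact hxy ((commutatorElement_eq_one_iff_commute.mp h).eq.symm)
    · exact h
  have hcxy : ⁅x, y⁆ = z := by
    rw [← commutatorElement_inv, hcyx]; exact inv_eq_of_mul_eq_one_right hz2
  -- either `z` is a square in the centre, or the centre is `{1, z}`
  have hzsq_or : (∃ t ∈ Subgroup.center G, z = t * t) ∨
      ∀ u ∈ Subgroup.center G, u = 1 ∨ u = z := by
    by_cases hzs : ∃ t ∈ Subgroup.center G, z = t * t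
    · exact Or.inl hzs
    · right
      intro u hu
      obtain ⟨k, hk⟩ := (IsPGroup.iff_orderOf.mp hG) u
      rcases k with _ | _ | k
      · left; rw [pow_zero, orderOf_eq_one_iff] at hk; exact hk
      · have huu : u * u = 1 := by
          rw [← sq]
          have := pow_orderOf_eq_one u
          rw [hk] at this
          simpa using this
        exact hsq1 u huu
      · exfalso
        apply hzs
        refine ⟨u ^ (2 ^ k), Subgroup.pow_mem _ hu _, ?_⟩
        have h4 : (u ^ (2 ^ k) * u ^ (2 ^ k)) * (u ^ (2 ^ k) * u ^ (2 ^ k)) = 1 := by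
          have := pow_orderOf_eq_one u
          rw [hk] at this
          rw [← this, ← pow_add, ← pow_add]
          congr 1
          ring
        rcases hsq1 _ h4 with h | h
        · exfalso
          have hd : orderOf u ∣ 2 ^ (k + 1) := by
            apply orderOf_dvd_of_pow_eq_one
            rw [← h, ← pow_add]
            congr 1
            ring
          rw [hk] at hd
          have hle := Nat.le_of_dvd (by positivity) hd
          have : 2 ^ (k + 1 + 1) = 2 * 2 ^ (k + 1) := by ring
          omega
        · exact h.symm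
  -- the product of two non-squares of the centre is a square
  have hnsq : ∀ a ∈ Subgroup.center G, ∀ b ∈ Subgroup.center G,
      (¬ ∃ u ∈ Subgroup.center G, a = u * u) → (¬ ∃ u ∈ Subgroup.center G, b = u * u) →
      ∃ u ∈ Subgroup.center G, a * b = u * u := by
    intro a ha b hb hna hnb
    let sqH : Subgroup.center G →* Subgroup.center G :=
      { toFun := fun u => u * u
        map_one' := by rw [one_mul]
        map_mul' := by
          intro u v
          apply Subtype.ext
          show (u : G) * v * (u * v) = u * u * (v * v)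
          have huv := Subgroup.mem_center_iff.mp v.2 (u : G)
          calc (u : G) * v * (u * v) = u * (v * u) * v := by group
            _ = u * (u * v) * v := by rw [← huv]
            _ = u * u * (v * v) := by group }
    have hsqH : ∀ u : Subgroup.center G,
        ((sqH u : Subgroup.center G) : G) = (u : G) * (u : G) := fun u => rfl
    have hker : Nat.card sqH.ker = 2 := by
      rw [Nat.card_eq_two_iff]
      refine ⟨1, ⟨⟨z, hzcen⟩, ?_⟩, ?_, ?_⟩
      · rw [MonoidHom.mem_ker]
        apply Subtype.ext
        rw [hsqH]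
        exact hz2
      · intro h
        apply hz
        have := congrArg (fun t : sqH.ker => ((t : Subgroup.center G) : G)) h
        exact this.symm
      · ext ⟨⟨u, hu⟩, hmem⟩
        simp only [Set.mem_insert_iff, Set.mem_singleton_iff, Set.mem_univ, iff_true]
        rw [MonoidHom.mem_ker] at hmem
        have hu2 : u * u = 1 := by
          have := congrArg Subtype.val hmem
          rw [hsqH] at this
          exact this
        rcases hsq1 u hu2 with h | h
        · left; apply Subtype.ext; apply Subtype.ext; exact h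
        · right; apply Subtype.ext; apply Subtype.ext; exact h
    have h1 := Subgroup.card_mul_index sqH.ker
    have h2 := Subgroup.index_ker sqH
    have h3 := Subgroup.card_mul_index sqH.range
    have hidx : sqH.range.index = 2 := by
      rw [hker, h2] at h1
      have hpos : 0 < Nat.card sqH.range := Nat.card_pos
      have : Nat.card sqH.range * sqH.range.index = Nat.card sqH.range * 2 := by
        rw [h3, ← h1, mul_comm]
      exact Nat.eq_of_mul_eq_mul_left hpos this
    have hmem : (⟨a, ha⟩ : Subgroup.center G) * ⟨b, hb⟩ ∈ sqH.range := by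
      rw [Subgroup.mul_mem_iff_of_index_two hidx]
      constructor
      · rintro ⟨u, hu⟩
        exfalso
        exact hna ⟨u.1, u.2, by have := congrArg Subtype.val hu; rw [hsqH] at this; exact this.symm⟩
      · rintro ⟨u, hu⟩
        exfalso
        exact hnb ⟨u.1, u.2, by have := congrArg Subtype.val hu; rw [hsqH] at this; exact this.symm⟩
    obtain ⟨u, hu⟩ := hmem
    refine ⟨u.1, u.2, ?_⟩
    have := congrArg Subtype.val hu
    rw [hsqH] at this
    exact this.symm
  have hxns : ¬ ∃ u ∈ Subgroup.center G, x * x = u * u := fun ⟨u, hu, h⟩ => hxnc (hA x u hu h)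
  have hyns : ¬ ∃ u ∈ Subgroup.center G, y * y = u * u := fun ⟨u, hu, h⟩ => hync (hA y u hu h)
  obtain ⟨u, hu, huab⟩ := hnsq _ (hsqcen x) _ (hsqcen y) hxns hyns
  have hxync : x * y ∉ Subgroup.center G := by
    intro h
    have h1 := Subgroup.mem_center_iff.mp h x
    apply hxy
    have h2 : x * (x * y) = x * (y * x) := by rw [h1, mul_assoc]
    exact mul_left_cancel h2
  have hcenter : ∀ u ∈ Subgroup.center G, u = 1 ∨ u = z := by
    rcases hzsq_or with ⟨t, ht, hzt⟩ | h
    · exfalso
      apply hxync
      apply hA (x * y) (u * t) (Subgroup.mul_mem _ hu ht)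
      rw [c2_sq_mul hc, hcyx, huab, hzt]
      have htu := Subgroup.mem_center_iff.mp ht u
      calc u * u * (t * t) = u * (u * t) * t := by group
        _ = u * (t * u) * t := by rw [htu]
        _ = u * t * (u * t) := by group
    · exact h
  have hsqz : ∀ g : G, g ∉ Subgroup.center G → g * g = z := by
    intro g hg
    rcases hcenter _ (hsqcen g) with h | h
    · exfalso
      rcases hsq1 g h with h' | h'
      · exact hg (h' ▸ Subgroup.one_mem _)
      · exact hg (h' ▸ hzcen)
    · exact h
  have hxx : x * x = z := hsqz x hxnc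
  have hyy : y * y = z := hsqz y hync
  have hx4 : x ^ 4 = 1 := by
    have h0 : x ^ 4 = (x * x) * (x * x) := by
      simp only [pow_succ, pow_zero, one_mul, mul_assoc]
    rw [h0, hxx, hz2]
  have hb : y ^ 2 = x ^ 2 := by rw [sq, sq, hyy, hxx]
  have hxinv : x⁻¹ = z * x :=
    inv_eq_of_mul_eq_one_right (by rw [← mul_assoc, hzc x, mul_assoc, hxx, hz2])
  have hba : y * x * y⁻¹ = x⁻¹ := by
    have h0 : y * x * y⁻¹ = ⁅y, x⁆ * x := by rw [commutatorElement_def]; group
    rw [h0, hcyx, hxinv]
  let f : QuaternionGroup 2 →* G :=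
    { toFun := Cfsg.Agent.Helper69.q8map x y hx4
      map_one' := by
        show Cfsg.Agent.Helper69.q8map x y hx4 (QuaternionGroup.a 0) = 1
        exact Cfsg.Agent.Helper69.q8pow_zero x hx4
      map_mul' := Cfsg.Agent.Helper69.q8map_mul x y hx4 hb hba }
  have hfx : f (QuaternionGroup.a 1) = x := Cfsg.Agent.Helper69.q8pow_one x hx4
  have hfy : f (QuaternionGroup.xa 0) = y := by
    show y * (Cfsg.Agent.Helper69.q8pow x hx4 0).toMul = y
    rw [Cfsg.Agent.Helper69.q8pow_zero, mul_one]
  have hxr : x ∈ f.range := ⟨_, hfx⟩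
  have hyr : y ∈ f.range := ⟨_, hfy⟩
  have hzr : z ∈ f.range := by rw [← hxx]; exact f.range.mul_mem hxr hxr
  have hcent : ∀ w : G, ⁅w, x⁆ = 1 → ⁅w, y⁆ = 1 → w ∈ f.range := by
    intro w hwx hwy
    have hwxc : w * x = x * w := (commutatorElement_eq_one_iff_commute.mp hwx).eq
    have hwyc : w * y = y * w := (commutatorElement_eq_one_iff_commute.mp hwy).eq
    by_cases hw : w ∈ Subgroup.center G
    · rcases hcenter w hw with h | h
      · rw [h]; exact f.range.one_mem
      · rw [h]; exact hzr
    · exfalso
      have hww := hsqz w hw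
      have h1 : (w * x) * (w * x) = 1 := by
        calc (w * x) * (w * x) = w * (x * w) * x := by group
          _ = w * (w * x) * x := by rw [hwxc]
          _ = (w * w) * (x * x) := by group
          _ = 1 := by rw [hww, hxx, hz2]
      have hxy' : x⁻¹ * y = y * x⁻¹ := by
        rcases hsq1 _ h1 with h | h
        · have hw' : w = x⁻¹ := eq_inv_of_mul_eq_one_left h
          rw [hw'] at hwyc
          exact hwyc
        · have hw' : w = z * x⁻¹ := by rw [← h]; group
          rw [hw'] at hwyc
          have h3 : z * (x⁻¹ * y) = z * (y * x⁻¹) := by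
            rw [← mul_assoc, hwyc, ← mul_assoc, ← mul_assoc, hzc y]
          exact mul_left_cancel h3
      apply hxy
      calc x * y = x * (y * x⁻¹) * x := by group
        _ = x * (x⁻¹ * y) * x := by rw [hxy']
        _ = y * x := by group
  have hsurj : Function.Surjective f := by
    intro w
    have hmemr : w ∈ f.range := by
      rcases hcz w x with h1 | h1 <;> rcases hcz w y with h2 | h2
      · exact hcent w h1 h2
      · have h3 : w * x ∈ f.range := by
          apply hcent
          · rw [c2_comm_mul_left hc, h1, one_mul, commutatorElement_self]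
          · rw [c2_comm_mul_left hc, h2, hcxy, hz2]
        have h4 : w = (w * x) * x⁻¹ := by group
        rw [h4]; exact f.range.mul_mem h3 (f.range.inv_mem hxr)
      · have h3 : w * y ∈ f.range := by
          apply hcent
          · rw [c2_comm_mul_left hc, h1, hcyx, hz2]
          · rw [c2_comm_mul_left hc, h2, one_mul, commutatorElement_self]
        have h4 : w = (w * y) * y⁻¹ := by group
        rw [h4]; exact f.range.mul_mem h3 (f.range.inv_mem hyr)
      · have h3 : w * x * y ∈ f.range := by
          apply hcent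
          · rw [c2_comm_mul_left hc, c2_comm_mul_left hc, h1, commutatorElement_self, mul_one,
              hcyx, hz2]
          · rw [c2_comm_mul_left hc, c2_comm_mul_left hc, h2, commutatorElement_self, mul_one,
              hcxy, hz2]
        have h4 : w = (w * x * y) * y⁻¹ * x⁻¹ := by group
        rw [h4]
        exact f.range.mul_mem (f.range.mul_mem h3 (f.range.inv_mem hyr)) (f.range.inv_mem hxr)
    exact hmemr
  have hinj : Function.Injective f := by
    rw [injective_iff_map_eq_one]
    intro g hg
    by_contra hg1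
    have ha2 : f (QuaternionGroup.a 2) = 1 := by
      rcases q8_gen_facts g hg1 with h | h
      · rw [← h]; exact hg
      · rw [← h, map_mul, hg, mul_one]
    have h2 : (QuaternionGroup.a 2 : QuaternionGroup 2) =
        QuaternionGroup.a 1 * QuaternionGroup.a 1 := by decide
    rw [h2, map_mul, hfx, hxx] at ha2
    exact hz ha2
  exact ⟨(MulEquiv.ofBijective f ⟨hinj, hsurj⟩).symm⟩

theorem isMulComm_sub_iff {H : Type*} [Group H] (K : Subgroup H) :
    IsMulCommutative K ↔ ∀ a ∈ K, ∀ b ∈ K, a * b = b * a := by
  rw [isMulCommutative_iff]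
  constructor
  · intro h a ha b hb
    exact congrArg Subtype.val (h ⟨a, ha⟩ ⟨b, hb⟩)
  · intro h a b
    exact Subtype.ext (h a a.2 b b.2)

/-- Proper `H`-normal subgroups of a minimal non-abelian normal subgroup `N` centralising the
maximal normal abelian subgroup `A` lie in `A`. -/
theorem min_nonab_le {H : Type*} [Group H] (A : Subgroup H) (hAn : A.Normal)
    (hAc : IsMulCommutative A)
    (hAmax : ∀ B : Subgroup H, B.Normal → IsMulCommutative B → A ≤ B → B = A) (N : Subgroup H)
    (hNle : N ≤ Subgroup.centralizer (A : Set H))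
    (hNmin : ∀ M : Subgroup H, M.Normal → M ≤ N → ¬ IsMulCommutative M → M = N)
    (M : Subgroup H) (hMn : M.Normal) (hMN : M ≤ N) (hne : M ≠ N) : M ≤ A := by
  have hMc : IsMulCommutative M := by
    by_contra h
    exact hne (hNmin M hMn hMN h)
  rw [isMulComm_sub_iff] at hMc hAc
  have hMA : ∀ m ∈ M, ∀ a ∈ A, m * a = a * m := by
    intro m hm a ha
    exact ((Subgroup.mem_centralizer_iff.mp (hNle (hMN hm))) a ha).symm
  have hsup : IsMulCommutative (M ⊔ A : Subgroup H) := by
    rw [isMulComm_sub_iff]
    have h1 : M ⊔ A ≤ Subgroup.centralizer ((M ⊔ A : Subgroup H) : Set H) := by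
      apply sup_le
      · intro m hm
        rw [Subgroup.mem_centralizer_iff]
        have h2 : M ⊔ A ≤ Subgroup.centralizer ({m} : Set H) := by
          apply sup_le
          · intro m' hm'
            rw [Subgroup.mem_centralizer_iff]
            intro g hg
            rw [Set.mem_singleton_iff] at hg
            subst hg
            exact hMc _ hm _ hm'
          · intro a ha
            rw [Subgroup.mem_centralizer_iff]
            intro g hg
            rw [Set.mem_singleton_iff] at hg
            subst hg
            exact hMA _ hm a ha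
        intro g hg
        exact (Subgroup.mem_centralizer_iff.mp (h2 hg) m (Set.mem_singleton m)).symm
      · intro a ha
        rw [Subgroup.mem_centralizer_iff]
        have h2 : M ⊔ A ≤ Subgroup.centralizer ({a} : Set H) := by
          apply sup_le
          · intro m' hm'
            rw [Subgroup.mem_centralizer_iff]
            intro g hg
            rw [Set.mem_singleton_iff] at hg
            subst hg
            exact (hMA _ hm' _ ha).symm
          · intro a' ha'
            rw [Subgroup.mem_centralizer_iff]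
            intro g hg
            rw [Set.mem_singleton_iff] at hg
            subst hg
            exact hAc _ ha _ ha'
        intro g hg
        exact (Subgroup.mem_centralizer_iff.mp (h2 hg) a (Set.mem_singleton a)).symm
    intro a ha b hb
    exact Subgroup.mem_centralizer_iff.mp (h1 hb) a ha
  haveI := hMn
  haveI := hAn
  have hnorm : (M ⊔ A).Normal := inferInstance
  have hMA' := hAmax (M ⊔ A) hnorm hsup le_sup_right
  rw [← hMA']
  exact le_sup_left

/-- **Passman 19.?**: in a group with a fixed-point-free ring representation, a minimal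
non-abelian normal subgroup centralising a maximal normal abelian subgroup is `Q₈` (if it is
not perfect) or `SL(2,5)` (if it is perfect). -/
theorem fpf_min_nonabelian {H : Type*} [Group H] [Finite H] {R : Type*} [Ring R] [Nontrivial R]
    {ρ : H →* R} (hρ : Fpf ρ) (A : Subgroup H) (hAn : A.Normal) (hAc : IsMulCommutative A)
    (hAmax : ∀ B : Subgroup H, B.Normal → IsMulCommutative B → A ≤ B → B = A) (N : Subgroup H)
    (hNn : N.Normal) (hNle : N ≤ Subgroup.centralizer (A : Set H))
    (hNna : ¬ IsMulCommutative N)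
    (hNmin : ∀ M : Subgroup H, M.Normal → M ≤ N → ¬ IsMulCommutative M → M = N) :
    (commutator N ≠ ⊤ ∧ Nonempty (N ≃* QuaternionGroup 2)) ∨
      (commutator N = ⊤ ∧ Nonempty (N ≃* SL25)) := by
  have hρN : Fpf (ρ.comp N.subtype) := hρ.subgroup N
  have hna : ∃ x y : N, x * y ≠ y * x := by
    by_contra h
    push_neg at h
    exact hNna (isMulCommutative_iff.mpr h)
  by_cases hperf : commutator N = ⊤
  · right
    refine ⟨hperf, ?_⟩
    haveI : Nontrivial N := by
      obtain ⟨x, y, hxy⟩ := hna
      exact ⟨⟨x, y, fun h => hxy (by rw [h])⟩⟩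
    exact zassenhaus_ring hρN hperf
  · left
    refine ⟨hperf, ?_⟩
    haveI := hNn
    let Φ : Set (MulAut N) := Set.range (fun h : H => MulAut.conjNormal h)
    have hmin : ∀ M : Subgroup N, (∀ φ ∈ Φ, ∀ x ∈ M, φ x ∈ M) → M ≠ ⊤ →
        M ≤ Subgroup.center N := by
      intro M hM hMtop
      have hMn : (M.map N.subtype).Normal := by
        constructor
        intro n hn g
        obtain ⟨m, hm, rfl⟩ := Subgroup.mem_map.mp hn
        refine Subgroup.mem_map.mpr ⟨MulAut.conjNormal g m, hM _ ⟨g, rfl⟩ m hm, ?_⟩
        rw [Subgroup.coe_subtype, MulAut.conjNormal_apply]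
      have hMle : M.map N.subtype ≤ N := by
        rintro _ ⟨m, _, rfl⟩
        exact m.2
      have hMne : M.map N.subtype ≠ N := by
        intro h
        apply hMtop
        rw [eq_top_iff]
        intro n _
        have hn : (n : H) ∈ M.map N.subtype := by rw [h]; exact n.2
        obtain ⟨m, hm, hmn⟩ := Subgroup.mem_map.mp hn
        have hmn' : m = n := Subtype.ext hmn
        rw [← hmn']; exact hm
      have hMA := min_nonab_le A hAn hAc hAmax N hNle hNmin _ hMn hMle hMne
      intro m hm
      rw [Subgroup.mem_center_iff]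
      intro g
      apply Subtype.ext
      have hmA : (m : H) ∈ A := hMA (Subgroup.mem_map_of_mem _ hm)
      exact ((Subgroup.mem_centralizer_iff.mp (hNle g.2)) _ hmA).symm
    have hc : ∀ x y w : N, ⁅x, y⁆ * w = w * ⁅x, y⁆ := by
      have hle : commutator N ≤ Subgroup.center N := by
        apply hmin _ _ hperf
        intro φ _ x hx
        exact (Subgroup.characteristic_iff_map_le.mp inferInstance φ)
          (Subgroup.mem_map_of_mem _ hx)
      intro x y w
      have hmem : ⁅x, y⁆ ∈ commutator N :=
        Subgroup.commutator_mem_commutator (Subgroup.mem_top x) (Subgroup.mem_top y)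
      exact (Subgroup.mem_center_iff.mp (hle hmem) w).symm
    exact q8_of_class_two hρN Φ hmin hc hna

end Cfsg.Agent.Helper12
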