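import Mathlib

set_option autoImplicit false

/-!
# Quaternion subgroups of fixed-point-free linear groups over a prime field

If `i`, `j` are two anticommuting square roots of `-1` in a linear group `H` over `ZMod p`
(`p` odd) which acts without fixed points on the nonzero vectors, then `|V| = q²` and the
centraliser of `{i, j}` in `H` has order dividing `q - 1` and not divisible by `4`.
-/

namespace Cfsg.Agent.Helper12

/-- If all point stabilisers are equal to `K`, the index of `K` divides the number of points. -/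
theorem index_dvd_card_of_stabilizer_eq {G X : Type*} [Group G] [MulAction G X]
    (K : Subgroup G) (hK : ∀ x : X, MulAction.stabilizer G x = K) : K.index ∣ Nat.card X := by
  classical
  have e1 := MulAction.selfEquivSigmaOrbitsQuotientStabilizer' G X (φ := Quotient.out)
    (fun ω => Quotient.out_eq' ω)
  have e2 : (Σ ω : MulAction.orbitRel.Quotient G X,
      G ⧸ MulAction.stabilizer G (Quotient.out ω)) ≃
      (MulAction.orbitRel.Quotient G X) × (G ⧸ K) :=
    (Equiv.sigmaCongrRight fun ω => Subgroup.quotientEquivOfEq (hK _)).trans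
      (Equiv.sigmaEquivProd _ _)
  rw [Nat.card_congr (e1.trans e2), Nat.card_prod]
  exact dvd_mul_left _ _

section QuatLin

variable {p : ℕ} [Fact p.Prime] {V : Type*} [AddCommGroup V] [Module (ZMod p) V]

theorem two_ne_zero_zmod (hp2 : p ≠ 2) : (2 : ZMod p) ≠ 0 := by
  intro h0
  have h1 : ((2 : ℕ) : ZMod p) = 0 := by exact_mod_cast h0
  rw [ZMod.natCast_eq_zero_iff] at h1
  exact hp2 ((Nat.prime_dvd_prime_iff_eq (Fact.out : p.Prime) Nat.prime_two).mp h1)

theorem eq_zero_of_eq_neg_zmod (hp2 : p ≠ 2) {v : V} (h : v = -v) : v = 0 := by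
  have h2 : (2 : ZMod p) • v = 0 := by
    rw [two_smul]
    nth_rewrite 2 [h]
    exact add_neg_cancel v
  exact (smul_eq_zero.mp h2).resolve_left (two_ne_zero_zmod hp2)

/-- Two anticommuting square roots of `-1` split `V` into two halves of equal size, and every
linear map commuting with both preserves the first half. -/
theorem quat_decomp [Finite V] (hp2 : p ≠ 2) (I J : V →ₗ[ZMod p] V) (hI : ∀ v, I (I v) = -v)
    (hJ : ∀ v, J (J v) = -v) (hIJ : ∀ v, I (J v) = -(J (I v))) :
    ∃ W : Submodule (ZMod p) V, Nat.card V = Nat.card W * Nat.card W ∧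
      ∀ T : V →ₗ[ZMod p] V, (∀ v, T (I v) = I (T v)) → (∀ v, T (J v) = J (T v)) →
        ∀ w ∈ W, T w ∈ W := by
  obtain ⟨a, b, hab⟩ := ZMod.sq_add_sq p (-1)
  let τ : V →ₗ[ZMod p] V := a • I + b • J
  have hτdef : ∀ v, τ v = a • I v + b • J v := fun v => rfl
  have hτ : ∀ v, τ (τ v) = v := by
    intro v
    rw [hτdef, hτdef, map_add, map_add, map_smul, map_smul, map_smul, map_smul, hI, hJ, hIJ]
    have : a • (a • -v + b • -(J (I v))) + b • (a • J (I v) + b • -v) =
        (-(a ^ 2 + b ^ 2)) • v := by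
      module
    rw [this, hab, neg_neg, one_smul]
  let K : V →ₗ[ZMod p] V := I ∘ₗ J
  have hKdef : ∀ v, K v = I (J v) := fun v => rfl
  have hJIJ : ∀ v, J (I (J v)) = I v := by
    intro v; rw [hIJ, map_neg, hJ, neg_neg]
  have hIJI : ∀ v, I (J (I v)) = J v := by
    intro v; rw [hIJ, hI, map_neg, neg_neg]
  have hKK : ∀ v, K (K v) = -v := by
    intro v; rw [hKdef, hKdef, hJIJ, hI]
  have hτK : ∀ v, τ (K v) = -(K (τ v)) := by
    intro v
    simp only [hτdef, hKdef, map_add, map_smul, map_neg, hI, hJ, hJIJ, hIJI]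
    module
  have hmem : ∀ v, v ∈ LinearMap.eqLocus τ LinearMap.id ↔ τ v = v := fun v => by
    rw [LinearMap.mem_eqLocus]; rfl
  refine ⟨LinearMap.eqLocus τ LinearMap.id, ?_, ?_⟩
  · let f : (LinearMap.eqLocus τ LinearMap.id) × (LinearMap.eqLocus τ LinearMap.id) → V :=
      fun x => (x.1 : V) + K (x.2 : V)
    have hf : Function.Bijective f := by
      constructor
      · rintro ⟨⟨u, hu⟩, ⟨w, hw⟩⟩ ⟨⟨u', hu'⟩, ⟨w', hw'⟩⟩ h
        have h' : u + K w = u' + K w' := h
        rw [hmem] at hu hw hu' hw'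
        have hd : u - u' = K (w' - w) := by
          rw [map_sub, sub_eq_sub_iff_add_eq_add, h', add_comm]
        have h1 : τ (u - u') = u - u' := by rw [map_sub, hu, hu']
        have h2 : τ (u - u') = -(u - u') := by rw [hd, hτK, map_sub, hw, hw']
        have h3 : u - u' = 0 := eq_zero_of_eq_neg_zmod hp2 (h1.symm.trans h2)
        have h4 : K (w' - w) = 0 := by rw [← hd, h3]
        have h5 : w' - w = 0 := by
          have := hKK (w' - w)
          rw [h4, map_zero] at this
          exact neg_eq_zero.mp this.symm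
        have e1 : u = u' := sub_eq_zero.mp h3
        have e2 : w = w' := (sub_eq_zero.mp h5).symm
        subst e1 e2
        rfl
      · intro v
        have h2ne := two_ne_zero_zmod hp2
        have hc : (2 : ZMod p)⁻¹ * 2 = 1 := inv_mul_cancel₀ h2ne
        refine ⟨(⟨(2 : ZMod p)⁻¹ • (v + τ v), ?_⟩, ⟨-(K ((2 : ZMod p)⁻¹ • (v - τ v))), ?_⟩), ?_⟩
        · rw [hmem, map_smul, map_add, hτ, add_comm]
        · rw [hmem, map_neg, hτK, map_smul, map_sub, hτ, neg_neg, ← map_neg, ← smul_neg,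
            neg_sub]
        · show (2 : ZMod p)⁻¹ • (v + τ v) + K (-(K ((2 : ZMod p)⁻¹ • (v - τ v)))) = v
          rw [map_neg, hKK, neg_neg]
          have : (2 : ZMod p)⁻¹ • (v + τ v) + (2 : ZMod p)⁻¹ • (v - τ v) =
              ((2 : ZMod p)⁻¹ * 2) • v := by module
          rw [this, hc, one_smul]
    rw [← Nat.card_prod, Nat.card_congr (Equiv.ofBijective f hf)]
  · intro T hTI hTJ w hw
    rw [hmem] at hw ⊢
    have hcomm : τ (T w) = T (τ w) := by
      rw [hτdef, hτdef, map_add, map_smul, map_smul, hTI, hTJ]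
    rw [hcomm, hw]

/-- In a fixed-point-free linear group over `ZMod p` (`p` odd), the centraliser of two
anticommuting square roots of `-1` has order dividing `q - 1`, where `|V| = q²`. -/
theorem quat_centralizer_card [Finite V] (hp2 : p ≠ 2) (H : Subgroup (V ≃ₗ[ZMod p] V))
    (hfix : ∀ (h : H) (v : V), v ≠ 0 → (h : V ≃ₗ[ZMod p] V) v = v → h = 1) (i j : H)
    (hi : ∀ v, (i : V ≃ₗ[ZMod p] V) ((i : V ≃ₗ[ZMod p] V) v) = -v)
    (hj : ∀ v, (j : V ≃ₗ[ZMod p] V) ((j : V ≃ₗ[ZMod p] V) v) = -v)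
    (hij : ∀ v, (i : V ≃ₗ[ZMod p] V) ((j : V ≃ₗ[ZMod p] V) v) =
      -((j : V ≃ₗ[ZMod p] V) ((i : V ≃ₗ[ZMod p] V) v))) :
    ∃ k : ℕ, Nat.card V = p ^ k * p ^ k ∧
      Nat.card (Subgroup.centralizer ({i, j} : Set H)) ∣ p ^ k - 1 := by
  obtain ⟨W, hcard, hinv⟩ := quat_decomp hp2 ((i : V ≃ₗ[ZMod p] V) : V →ₗ[ZMod p] V)
    ((j : V ≃ₗ[ZMod p] V) : V →ₗ[ZMod p] V) hi hj hij
  have hWcard : Nat.card W = p ^ Module.finrank (ZMod p) W := by
    rw [Module.natCard_eq_pow_finrank (K := ZMod p), Nat.card_zmod]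
  refine ⟨Module.finrank (ZMod p) W, by rw [hcard, hWcard], ?_⟩
  rw [← hWcard]
  have hCinv : ∀ (c : Subgroup.centralizer ({i, j} : Set H)) (w : V), w ∈ W →
      ((c : H) : V ≃ₗ[ZMod p] V) w ∈ W := by
    intro c w hw
    have hci : i * (c : H) = (c : H) * i :=
      (Subgroup.mem_centralizer_iff.mp c.2) i (by simp)
    have hcj : j * (c : H) = (c : H) * j :=
      (Subgroup.mem_centralizer_iff.mp c.2) j (by simp)
    refine hinv (((c : H) : V ≃ₗ[ZMod p] V) : V →ₗ[ZMod p] V) ?_ ?_ w hw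
    · intro v
      exact (congrArg (fun g : H => (g : V ≃ₗ[ZMod p] V) v) hci).symm
    · intro v
      exact (congrArg (fun g : H => (g : V ≃ₗ[ZMod p] V) v) hcj).symm
  letI : MulAction (Subgroup.centralizer ({i, j} : Set H)) ↥((W : Set V) \ {0}) :=
    { smul := fun c x => ⟨((c : H) : V ≃ₗ[ZMod p] V) x.1, hCinv c x.1 x.2.1, fun h0 => x.2.2 (by
          have h00 : ((c : H) : V ≃ₗ[ZMod p] V) x.1 = 0 := h0
          exact (LinearEquiv.map_eq_zero_iff _).mp h00)⟩
      one_smul := fun x => Subtype.ext rfl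
      mul_smul := fun c d x => Subtype.ext rfl }
  have hstab : ∀ x : ↥((W : Set V) \ {0}),
      MulAction.stabilizer (Subgroup.centralizer ({i, j} : Set H)) x = ⊥ := by
    intro x
    rw [eq_bot_iff]
    intro c hc
    rw [MulAction.mem_stabilizer_iff] at hc
    have h1 : ((c : H) : V ≃ₗ[ZMod p] V) x.1 = x.1 := congrArg Subtype.val hc
    have h2 := hfix (c : H) x.1 (fun h0 => x.2.2 h0) h1
    rw [Subgroup.mem_bot]
    exact Subtype.ext h2
  have hdvd := index_dvd_card_of_stabilizer_eq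
    (⊥ : Subgroup (Subgroup.centralizer ({i, j} : Set H))) hstab
  rw [Subgroup.index_bot] at hdvd
  have hX : Nat.card ↥((W : Set V) \ {0}) = Nat.card W - 1 := by
    rw [Nat.card_coe_set_eq, Set.ncard_diff_singleton_of_mem (zero_mem W), ← Nat.card_coe_set_eq]
    rfl
  rw [hX] at hdvd
  exact hdvd

/-- An element of a fixed-point-free linear group whose square is the identity is `1` or `-1`. -/
theorem fpf_sq_one (H : Subgroup (V ≃ₗ[ZMod p] V))
    (hfix : ∀ (h : H) (v : V), v ≠ 0 → (h : V ≃ₗ[ZMod p] V) v = v → h = 1) (g : H)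
    (hg : ∀ v, (g : V ≃ₗ[ZMod p] V) ((g : V ≃ₗ[ZMod p] V) v) = v) :
    g = 1 ∨ ∀ v, (g : V ≃ₗ[ZMod p] V) v = -v := by
  by_cases h1 : g = 1
  · exact Or.inl h1
  · right
    intro v
    by_contra hv
    have hne : v + (g : V ≃ₗ[ZMod p] V) v ≠ 0 := by
      intro h0
      exact hv (eq_neg_of_add_eq_zero_right h0)
    have hfx : (g : V ≃ₗ[ZMod p] V) (v + (g : V ≃ₗ[ZMod p] V) v) =
        v + (g : V ≃ₗ[ZMod p] V) v := by
      rw [map_add, hg, add_comm]
    exact h1 (hfix g _ hne hfx)

/-- The centraliser of a quaternion pair contains no subgroup of order four. -/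
theorem quat_centralizer_not_four [Finite V] (hp2 : p ≠ 2) (H : Subgroup (V ≃ₗ[ZMod p] V))
    (hfix : ∀ (h : H) (v : V), v ≠ 0 → (h : V ≃ₗ[ZMod p] V) v = v → h = 1) (i j : H)
    (hi : ∀ v, (i : V ≃ₗ[ZMod p] V) ((i : V ≃ₗ[ZMod p] V) v) = -v)
    (hj : ∀ v, (j : V ≃ₗ[ZMod p] V) ((j : V ≃ₗ[ZMod p] V) v) = -v)
    (hij : ∀ v, (i : V ≃ₗ[ZMod p] V) ((j : V ≃ₗ[ZMod p] V) v) =
      -((j : V ≃ₗ[ZMod p] V) ((i : V ≃ₗ[ZMod p] V) v))) :
    ¬ 4 ∣ Nat.card (Subgroup.centralizer ({i, j} : Set H)) := by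
  intro h4
  have hfinGL : Finite (V ≃ₗ[ZMod p] V) :=
    Finite.of_injective (fun e : V ≃ₗ[ZMod p] V => (e : V → V)) DFunLike.coe_injective
  obtain ⟨D, hD⟩ := Sylow.exists_subgroup_card_pow_prime 2
    (show 2 ^ 2 ∣ Nat.card (Subgroup.centralizer ({i, j} : Set H)) from h4)
  -- if `i` and `j` commute then `V` is trivial
  have htriv : i * j = j * i → ∀ g : H, g = 1 := by
    intro hc g
    have hv0 : ∀ v : V, v = 0 := by
      intro v
      have e1 : (i : V ≃ₗ[ZMod p] V) ((j : V ≃ₗ[ZMod p] V) v) =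
          (j : V ≃ₗ[ZMod p] V) ((i : V ≃ₗ[ZMod p] V) v) :=
        congrArg (fun g : H => (g : V ≃ₗ[ZMod p] V) v) hc
      have e2 := eq_zero_of_eq_neg_zmod hp2 ((e1.symm.trans (hij v)))
      exact (LinearEquiv.map_eq_zero_iff _).mp ((LinearEquiv.map_eq_zero_iff _).mp e2)
    apply Subtype.ext
    apply LinearEquiv.ext
    intro v
    rw [hv0 v, map_zero, map_zero]
  have key : ∀ d : Subgroup.centralizer ({i, j} : Set H), d ∈ D →
      ((d : H) = 1 ∨ (d : H) = i * i) := by
    intro d hd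
    have hd4 : (d : H) ^ 4 = 1 := by
      have h1 : (⟨d, hd⟩ : D) ^ Nat.card D = 1 := pow_card_eq_one'
      rw [hD] at h1
      have h2 := congrArg (fun x : D => ((x : Subgroup.centralizer ({i, j} : Set H)) : H)) h1
      exact h2
    have hci : i * (d : H) = (d : H) * i :=
      (Subgroup.mem_centralizer_iff.mp d.2) i (by simp)
    have hcj : j * (d : H) = (d : H) * j :=
      (Subgroup.mem_centralizer_iff.mp d.2) j (by simp)
    have hneg : ∀ g : H, (∀ v, (g : V ≃ₗ[ZMod p] V) v = -v) → g = i * i := by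
      intro g hg
      apply Subtype.ext
      apply LinearEquiv.ext
      intro v
      rw [hg v]
      exact (hi v).symm
    have hsq : ∀ v, ((d : H) * (d : H) : H).1 ((((d : H) * (d : H) : H)).1 v) = v := by
      intro v
      have h2 : ((d : H) * (d : H)) * ((d : H) * (d : H)) = 1 := by
        rw [← hd4]
        simp only [pow_succ, pow_zero, one_mul, mul_assoc]
      exact congrArg (fun g : H => (g : V ≃ₗ[ZMod p] V) v) h2
    rcases fpf_sq_one H hfix _ hsq with h1 | h1
    · -- d * d = 1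
      have hsq' : ∀ v, ((d : H) : V ≃ₗ[ZMod p] V) (((d : H) : V ≃ₗ[ZMod p] V) v) = v := by
        intro v
        exact congrArg (fun g : H => (g : V ≃ₗ[ZMod p] V) v) h1
      rcases fpf_sq_one H hfix _ hsq' with h2 | h2
      · exact Or.inl h2
      · exact Or.inr (hneg _ h2)
    · -- d (d v) = -v
      have h1' : ∀ v, ((d : H) : V ≃ₗ[ZMod p] V) (((d : H) : V ≃ₗ[ZMod p] V) v) = -v := h1
      have hdi : ∀ v, ((d : H) : V ≃ₗ[ZMod p] V) ((i : V ≃ₗ[ZMod p] V) v) =
          (i : V ≃ₗ[ZMod p] V) (((d : H) : V ≃ₗ[ZMod p] V) v) := by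
        intro v
        exact (congrArg (fun g : H => (g : V ≃ₗ[ZMod p] V) v) hci).symm
      have hm : ∀ v, (((d : H) * i : H) : V ≃ₗ[ZMod p] V)
          ((((d : H) * i : H) : V ≃ₗ[ZMod p] V) v) = v := by
        intro v
        show ((d : H) : V ≃ₗ[ZMod p] V) ((i : V ≃ₗ[ZMod p] V)
          (((d : H) : V ≃ₗ[ZMod p] V) ((i : V ≃ₗ[ZMod p] V) v))) = v
        rw [hdi v, hi, map_neg, h1', neg_neg]
      left
      apply htriv
      rcases fpf_sq_one H hfix _ hm with h2 | h2
      · -- d * i = 1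
        have hd' : (d : H) = i⁻¹ := eq_inv_of_mul_eq_one_left h2
        rw [hd'] at hcj
        calc i * j = i * (j * i⁻¹) * i := by group
          _ = i * (i⁻¹ * j) * i := by rw [hcj]
          _ = j * i := by group
      · -- d (i v) = -v, so d = i
        have hd' : (d : H) = i := by
          apply Subtype.ext
          apply LinearEquiv.ext
          intro v
          have h3 : ((d : H) : V ≃ₗ[ZMod p] V) ((i : V ≃ₗ[ZMod p] V)
              ((i : V ≃ₗ[ZMod p] V) v)) = -((i : V ≃ₗ[ZMod p] V) v) := h2 _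
          rw [hi, map_neg, neg_inj] at h3
          exact h3
        rw [hd'] at hcj
        exact hcj.symm
  -- hence `D` has at most two elements
  classical
  have hle : Nat.card D ≤ Nat.card (Fin 2) := by
    apply Nat.card_le_card_of_injective
      (fun d : D => if ((d : Subgroup.centralizer ({i, j} : Set H)) : H) = 1 then (0 : Fin 2) else 1)
    intro d d' hdd
    apply Subtype.ext
    apply Subtype.ext
    by_cases h1 : ((d : Subgroup.centralizer ({i, j} : Set H)) : H) = 1 <;>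
    by_cases h2 : ((d' : Subgroup.centralizer ({i, j} : Set H)) : H) = 1
    · rw [h1, h2]
    · simp only [h1, h2, if_true, if_false] at hdd
      exact absurd hdd (by decide)
    · simp only [h1, h2, if_true, if_false] at hdd
      exact absurd hdd (by decide)
    · rw [(key d.1 d.2).resolve_left h1, (key d'.1 d'.2).resolve_left h2]
  rw [hD, Nat.card_fin] at hle
  omega

end QuatLin

end Cfsg.Agent.Helper12
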