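import Mathlib
import Cfsg.Agent.Helper12.QuatLin
import Cfsg.Agent.Helper12.Q8Rec

set_option autoImplicit false

/-!
# Linear groups over a prime field regular on the nonzero vectors: basic tools
-/

namespace Cfsg.Agent.Helper12

open Cfsg.Agent.Helper56

section NearLin

variable {p : ℕ} [Fact p.Prime] {V : Type*} [AddCommGroup V] [Module (ZMod p) V]

/-- the tautological ring representation of a linear group -/
def linRho (H : Subgroup (V ≃ₗ[ZMod p] V)) : H →* Module.End (ZMod p) V :=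
  (LinearEquiv.automorphismGroup.toLinearMapMonoidHom (R := ZMod p) (M := V)).comp H.subtype

theorem linRho_apply (H : Subgroup (V ≃ₗ[ZMod p] V)) (h : H) (v : V) :
    linRho H h v = (h : V ≃ₗ[ZMod p] V) v := rfl

theorem hfix_of_reg (H : Subgroup (V ≃ₗ[ZMod p] V))
    (hreg : ∀ v w : V, v ≠ 0 → w ≠ 0 → ∃! h : H, (h : V ≃ₗ[ZMod p] V) v = w) :
    ∀ (h : H) (v : V), v ≠ 0 → (h : V ≃ₗ[ZMod p] V) v = v → h = 1 := by
  intro h v hv hfx
  obtain ⟨g, _, hg⟩ := hreg v v hv hv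
  rw [hg h hfx, hg 1 rfl]

theorem lin_fpf [Finite V] (H : Subgroup (V ≃ₗ[ZMod p] V))
    (hfix : ∀ (h : H) (v : V), v ≠ 0 → (h : V ≃ₗ[ZMod p] V) v = v → h = 1) :
    Fpf (linRho H) := by
  intro g hg
  rw [LinearMap.isUnit_iff_ker_eq_bot, LinearMap.ker_eq_bot']
  intro v hv
  by_contra hv0
  apply hg
  apply hfix g v hv0
  have h1 : linRho H g v - v = 0 := hv
  exact sub_eq_zero.mp h1

theorem nontrivial_of_ne (H : Subgroup (V ≃ₗ[ZMod p] V)) {a b : H} (hab : a ≠ b) :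
    Nontrivial V := by
  by_contra h
  rw [not_nontrivial_iff_subsingleton] at h
  apply hab
  apply Subtype.ext
  apply LinearEquiv.ext
  intro v
  exact Subsingleton.elim _ _

theorem finite_linEquiv [Finite V] : Finite (V ≃ₗ[ZMod p] V) :=
  Finite.of_injective (fun e : V ≃ₗ[ZMod p] V => (e : V → V)) DFunLike.coe_injective

theorem card_ne_zero_subtype [Finite V] : Nat.card {w : V // w ≠ 0} = Nat.card V - 1 := by
  have h : Nat.card {w : V // w ≠ 0} = Set.ncard ((Set.univ : Set V) \ {0}) := by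
    rw [← Nat.card_coe_set_eq]
    apply Nat.card_congr
    exact Equiv.subtypeEquivRight (fun w => by simp)
  rw [h, Set.ncard_diff_singleton_of_mem (Set.mem_univ 0), Set.ncard_univ]

theorem card_add_one_of_reg [Finite V] [Nontrivial V] (H : Subgroup (V ≃ₗ[ZMod p] V))
    (hreg : ∀ v w : V, v ≠ 0 → w ≠ 0 → ∃! h : H, (h : V ≃ₗ[ZMod p] V) v = w) :
    Nat.card H + 1 = Nat.card V := by
  obtain ⟨v0, hv0⟩ := exists_ne (0 : V)
  have hne : ∀ h : H, (h : V ≃ₗ[ZMod p] V) v0 ≠ 0 := fun h h0 =>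
    hv0 ((LinearEquiv.map_eq_zero_iff _).mp h0)
  have hbij : Function.Bijective
      (fun h : H => (⟨(h : V ≃ₗ[ZMod p] V) v0, hne h⟩ : {w : V // w ≠ 0})) := by
    constructor
    · intro a b hab
      have h1 : (a : V ≃ₗ[ZMod p] V) v0 = (b : V ≃ₗ[ZMod p] V) v0 := congrArg Subtype.val hab
      obtain ⟨g, _, hg⟩ := hreg v0 _ hv0 (hne b)
      rw [hg a h1, hg b rfl]
    · rintro ⟨w, hw⟩
      obtain ⟨g, hg, _⟩ := hreg v0 w hv0 hw
      exact ⟨g, Subtype.ext hg⟩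
  rw [Nat.card_congr (Equiv.ofBijective _ hbij), card_ne_zero_subtype]
  have hpos : 0 < Nat.card V := Nat.card_pos
  omega

/-- A subgroup of a fixed-point-free linear group leaving a subspace `W` invariant has order
dividing `|W| - 1`. -/
theorem card_dvd_of_invariant [Finite V] (H : Subgroup (V ≃ₗ[ZMod p] V))
    (hfix : ∀ (h : H) (v : V), v ≠ 0 → (h : V ≃ₗ[ZMod p] V) v = v → h = 1) (K : Subgroup H)
    (W : Submodule (ZMod p) V)
    (hW : ∀ k ∈ K, ∀ w ∈ W, ((k : H) : V ≃ₗ[ZMod p] V) w ∈ W) :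
    Nat.card K ∣ Nat.card W - 1 := by
  letI : MulAction K ↥((W : Set V) \ {0}) :=
    { smul := fun c x => ⟨((c : H) : V ≃ₗ[ZMod p] V) x.1, hW c.1 c.2 x.1 x.2.1, fun h0 => x.2.2 (by
          have h00 : ((c : H) : V ≃ₗ[ZMod p] V) x.1 = 0 := h0
          exact (LinearEquiv.map_eq_zero_iff _).mp h00)⟩
      one_smul := fun x => Subtype.ext rfl
      mul_smul := fun c d x => Subtype.ext rfl }
  have hstab : ∀ x : ↥((W : Set V) \ {0}), MulAction.stabilizer K x = ⊥ := by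
    intro x
    rw [eq_bot_iff]
    intro c hc
    rw [MulAction.mem_stabilizer_iff] at hc
    have h1 : ((c : H) : V ≃ₗ[ZMod p] V) x.1 = x.1 := congrArg Subtype.val hc
    have h2 := hfix (c : H) x.1 (fun h0 => x.2.2 h0) h1
    rw [Subgroup.mem_bot]
    exact Subtype.ext h2
  have hdvd := index_dvd_card_of_stabilizer_eq (⊥ : Subgroup K) hstab
  rw [Subgroup.index_bot] at hdvd
  have hX : Nat.card ↥((W : Set V) \ {0}) = Nat.card W - 1 := by
    rw [Nat.card_coe_set_eq, Set.ncard_diff_singleton_of_mem (zero_mem W), ← Nat.card_coe_set_eq]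
    rfl
  rw [hX] at hdvd
  exact hdvd

theorem eq_of_apply_eq (H : Subgroup (V ≃ₗ[ZMod p] V))
    (hfix : ∀ (h : H) (v : V), v ≠ 0 → (h : V ≃ₗ[ZMod p] V) v = v → h = 1) {g g' : H} {v : V}
    (hv : v ≠ 0) (h : (g : V ≃ₗ[ZMod p] V) v = (g' : V ≃ₗ[ZMod p] V) v) : g = g' := by
  have h1 : ((g'⁻¹ * g : H) : V ≃ₗ[ZMod p] V) v = v := by
    show ((g'⁻¹ : H) : V ≃ₗ[ZMod p] V) ((g : V ≃ₗ[ZMod p] V) v) = v
    rw [h]
    show ((g'⁻¹ * g' : H) : V ≃ₗ[ZMod p] V) v = v
    rw [inv_mul_cancel]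
    rfl
  have h2 := hfix _ v hv h1
  exact (inv_mul_eq_one.mp h2).symm

/-- group relations of a quaternion pair, read on vectors -/
theorem quat_lin_of_rel (H : Subgroup (V ≃ₗ[ZMod p] V))
    (hfix : ∀ (h : H) (v : V), v ≠ 0 → (h : V ≃ₗ[ZMod p] V) v = v → h = 1) (z i j : H)
    (hz : z ≠ 1) (hz2 : z * z = 1) (hi : i * i = z) (hj : j * j = z)
    (hij : i * j = z * (j * i)) :
    p ≠ 2 ∧ (∀ v, (i : V ≃ₗ[ZMod p] V) ((i : V ≃ₗ[ZMod p] V) v) = -v) ∧
      (∀ v, (j : V ≃ₗ[ZMod p] V) ((j : V ≃ₗ[ZMod p] V) v) = -v) ∧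
      (∀ v, (i : V ≃ₗ[ZMod p] V) ((j : V ≃ₗ[ZMod p] V) v) =
        -((j : V ≃ₗ[ZMod p] V) ((i : V ≃ₗ[ZMod p] V) v))) := by
  have hzneg : ∀ v, (z : V ≃ₗ[ZMod p] V) v = -v := by
    have hsq : ∀ v, (z : V ≃ₗ[ZMod p] V) ((z : V ≃ₗ[ZMod p] V) v) = v := fun v =>
      congrArg (fun g : H => (g : V ≃ₗ[ZMod p] V) v) hz2
    exact (fpf_sq_one H hfix z hsq).resolve_left hz
  refine ⟨?_, ?_, ?_, ?_⟩
  · intro hp2
    apply hz
    apply Subtype.ext
    apply LinearEquiv.ext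
    intro v
    rw [hzneg v]
    have h0 : (2 : ZMod p) = 0 := by
      have h00 : ((2 : ℕ) : ZMod p) = 0 := (ZMod.natCast_eq_zero_iff 2 p).mpr (by rw [hp2])
      exact_mod_cast h00
    have h2 : (2 : ZMod p) • v = 0 := by rw [h0, zero_smul]
    rw [two_smul] at h2
    exact neg_eq_of_add_eq_zero_left h2
  · intro v
    exact (congrArg (fun g : H => (g : V ≃ₗ[ZMod p] V) v) hi).trans (hzneg v)
  · intro v
    exact (congrArg (fun g : H => (g : V ≃ₗ[ZMod p] V) v) hj).trans (hzneg v)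
  · intro v
    exact (congrArg (fun g : H => (g : V ≃ₗ[ZMod p] V) v) hij).trans (hzneg _)

/-- A subgroup leaving invariant a subspace with `p` elements is abelian. -/
theorem comm_of_invariant_line [Finite V] (H : Subgroup (V ≃ₗ[ZMod p] V))
    (hfix : ∀ (h : H) (v : V), v ≠ 0 → (h : V ≃ₗ[ZMod p] V) v = v → h = 1) (K : Subgroup H)
    (W : Submodule (ZMod p) V) (hWcard : Nat.card W = p)
    (hW : ∀ k ∈ K, ∀ w ∈ W, ((k : H) : V ≃ₗ[ZMod p] V) w ∈ W) :
    ∀ a ∈ K, ∀ b ∈ K, a * b = b * a := by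
  have hp : p.Prime := Fact.out
  obtain ⟨w, hw0⟩ : ∃ w : W, w ≠ 0 := by
    have h1 : 1 < Nat.card W := by rw [hWcard]; exact hp.one_lt
    haveI : Nontrivial W := (Finite.one_lt_card_iff_nontrivial).mp h1
    exact exists_ne 0
  have hspan : ∀ u : W, ∃ c : ZMod p, u = c • w := by
    have hinj : Function.Injective (fun c : ZMod p => c • w) := by
      intro c d hcd
      have h1 : (c - d) • w = 0 := by rw [sub_smul]; exact sub_eq_zero.mpr hcd
      rcases smul_eq_zero.mp h1 with h | h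
      · exact sub_eq_zero.mp h
      · exact absurd h hw0
    have hbij : Function.Bijective (fun c : ZMod p => c • w) := by
      rw [Nat.bijective_iff_injective_and_card]
      exact ⟨hinj, by rw [Nat.card_zmod, hWcard]⟩
    intro u
    obtain ⟨c, hc⟩ := hbij.2 u
    exact ⟨c, hc.symm⟩
  intro a ha b hb
  obtain ⟨ca, hca⟩ := hspan ⟨_, hW a ha w w.2⟩
  obtain ⟨cb, hcb⟩ := hspan ⟨_, hW b hb w w.2⟩
  have hca' : (a : V ≃ₗ[ZMod p] V) (w : V) = ca • (w : V) := congrArg Subtype.val hca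
  have hcb' : (b : V ≃ₗ[ZMod p] V) (w : V) = cb • (w : V) := congrArg Subtype.val hcb
  have hw0' : (w : V) ≠ 0 := fun h => hw0 (Subtype.ext h)
  apply eq_of_apply_eq H hfix hw0'
  show (a : V ≃ₗ[ZMod p] V) ((b : V ≃ₗ[ZMod p] V) (w : V)) =
    (b : V ≃ₗ[ZMod p] V) ((a : V ≃ₗ[ZMod p] V) (w : V))
  rw [hcb', hca', map_smul, map_smul, hca', hcb', smul_smul, smul_smul, mul_comm]

end NearLin

/-- A perfect group with a fixed-point-free ring representation and order divisible by `6`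
contains a quaternion pair. -/
theorem exists_quat_pair {G : Type*} [Group G] [Finite G] {R : Type*} [Ring R] [Nontrivial R]
    {ρ : G →* R} (hρ : Fpf ρ) (hperf : commutator G = ⊤) (h6 : 6 ∣ Nat.card G) :
    ∃ z i j : G, z ≠ 1 ∧ z * z = 1 ∧ i * i = z ∧ j * j = z ∧ i * j = z * (j * i) := by
  obtain ⟨z, hzo⟩ := exists_prime_orderOf_dvd_card' 2 (Dvd.dvd.trans (by norm_num) h6)
  obtain ⟨x, hxo⟩ := exists_prime_orderOf_dvd_card' 3 (Dvd.dvd.trans (by norm_num) h6)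
  have hz : z ≠ 1 := by rintro rfl; rw [orderOf_one] at hzo; omega
  have hz2 : z * z = 1 := by rw [← sq, ← hzo, pow_orderOf_eq_one]
  have hx : x ≠ 1 := by rintro rfl; rw [orderOf_one] at hxo; omega
  have hx3 : x ^ 3 = 1 := by rw [← hxo, pow_orderOf_eq_one]
  obtain ⟨y, P⟩ := hρ.exists_zp hperf hz hz2 hx hx3
  have hsq1 : ∀ g : G, g * g = 1 → g = 1 ∨ g = z := fun g hg => hρ.sq_eq_one hz hz2 hg
  have hzc : ∀ g : G, g * z = z * g := fun g => hρ.invol_comm hz hz2 g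
  have hIJ : (x * y) * (x * (x * y) * x⁻¹) ≠ (x * (x * y) * x⁻¹) * (x * y) :=
    P.ij_not_comm hρ hz hz2
  have hI4 : (x * y) ^ 4 = 1 := P.pow_four_of_mem_q8 hρ (P.i_mem_q8 hρ)
  have hJ4 : (x * (x * y) * x⁻¹) ^ 4 = 1 := P.pow_four_of_mem_q8 hρ (P.j_mem_q8 hρ)
  have hIJ4 : ((x * y) * (x * (x * y) * x⁻¹)) ^ 4 = 1 :=
    P.pow_four_of_mem_q8 hρ (Subgroup.mul_mem _ (P.i_mem_q8 hρ) (P.j_mem_q8 hρ))
  generalize x * y = I at hIJ hI4 hJ4 hIJ4
  generalize x * I * x⁻¹ = J at hIJ hJ4 hIJ4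
  have h4 : ∀ g : G, g ^ 4 = 1 → g * g = 1 ∨ g * g = z := by
    intro g hg
    apply hsq1
    rw [← hg]
    simp only [pow_succ, pow_zero, one_mul, mul_assoc]
  have hII : I * I = z := by
    rcases h4 I hI4 with h | h
    · exfalso
      rcases hsq1 I h with h' | h'
      · exact hIJ (by rw [h', one_mul, mul_one])
      · exact hIJ (by rw [h']; exact (hzc J).symm)
    · exact h
  have hJJ : J * J = z := by
    rcases h4 J hJ4 with h | h
    · exfalso
      rcases hsq1 J h with h' | h'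
      · exact hIJ (by rw [h', one_mul, mul_one])
      · exact hIJ (by rw [h']; exact hzc I)
    · exact h
  have hJinv : J⁻¹ = z * J :=
    inv_eq_of_mul_eq_one_right (by rw [← mul_assoc, hzc J, mul_assoc, hJJ, hz2])
  have hIinv : I⁻¹ = z * I :=
    inv_eq_of_mul_eq_one_right (by rw [← mul_assoc, hzc I, mul_assoc, hII, hz2])
  have hIJIJ : (I * J) * (I * J) = z := by
    rcases h4 _ hIJ4 with h | h
    · exfalso
      rcases hsq1 _ h with h' | h'
      · have hJ' : J = I⁻¹ := eq_inv_of_mul_eq_one_right h'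
        exact hIJ (by rw [hJ', mul_inv_cancel, inv_mul_cancel])
      · have hJ' : J = I⁻¹ * z := by rw [← h']; group
        apply hIJ
        rw [hJ', ← mul_assoc, mul_inv_cancel, one_mul, mul_assoc, ← hzc I, ← mul_assoc,
          inv_mul_cancel, one_mul]
    · exact h
  refine ⟨z, I, J, hz, hz2, hII, hJJ, ?_⟩
  have h1 : I * J = z * (I * J)⁻¹ := by
    rw [← hIJIJ]; group
  rw [h1, mul_inv_rev, hJinv, hIinv]
  congr 1
  rw [mul_assoc z J, ← mul_assoc J z I, hzc J, mul_assoc z J I, ← mul_assoc z z, hz2, one_mul]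

/-- arithmetic for the quaternion case -/
theorem near_arith_q8 (q cK idx : ℕ) (hq : 2 ≤ q) (h1 : cK * idx + 1 = q * q)
    (h2 : cK ∣ q - 1) (h3 : idx ∣ 24) : q + 1 ∣ 24 := by
  obtain ⟨f, hf⟩ := h2
  have hcK : 0 < cK := by
    rcases Nat.eq_zero_or_pos cK with h | h
    · rw [h, zero_mul] at hf; omega
    · exact h
  have hq1 : q = cK * f + 1 := by omega
  have h4 : cK * idx = cK * (f * (q + 1)) := by
    have : cK * idx = q * q - 1 := by omega
    rw [this, hq1]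
    have : (cK * f + 1) * (cK * f + 1) - 1 = cK * (f * (cK * f + 1 + 1)) := by
      have h5 : (cK * f + 1) * (cK * f + 1) = cK * (f * (cK * f + 1 + 1)) + 1 := by ring
      omega
    exact this
  have h5 : idx = f * (q + 1) := Nat.eq_of_mul_eq_mul_left hcK h4
  exact Dvd.dvd.trans ⟨f, by rw [h5, mul_comm]⟩ h3

theorem near_arith_q8' (p k : ℕ) (hp : p.Prime) (hp2 : p ≠ 2) (hq : 2 ≤ p ^ k)
    (h : p ^ k + 1 ∣ 24) : k = 1 ∧ (p = 3 ∨ p = 5 ∨ p = 7 ∨ p = 11 ∨ p = 23) := by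
  have hle : p ^ k + 1 ≤ 24 := Nat.le_of_dvd (by norm_num) h
  have hcases : p ^ k = 2 ∨ p ^ k = 3 ∨ p ^ k = 5 ∨ p ^ k = 7 ∨ p ^ k = 11 ∨ p ^ k = 23 := by
    obtain ⟨q, hqdef⟩ : ∃ q, q = p ^ k := ⟨_, rfl⟩
    rw [← hqdef] at hq h hle ⊢
    clear hqdef
    have hq23 : q ≤ 23 := by omega
    interval_cases q <;> omega
  rcases hcases with h | h | h | h | h | h
  · exact absurd ((Nat.Prime.pow_eq_iff Nat.prime_two).mp h).1 hp2
  · have := (Nat.Prime.pow_eq_iff Nat.prime_three).mp h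
    exact ⟨this.2, Or.inl this.1⟩
  · have := (Nat.Prime.pow_eq_iff Nat.prime_five).mp h
    exact ⟨this.2, Or.inr (Or.inl this.1)⟩
  · have := (Nat.Prime.pow_eq_iff (by norm_num : Nat.Prime 7)).mp h
    exact ⟨this.2, Or.inr (Or.inr (Or.inl this.1))⟩
  · have := (Nat.Prime.pow_eq_iff (by norm_num : Nat.Prime 11)).mp h
    exact ⟨this.2, Or.inr (Or.inr (Or.inr (Or.inl this.1)))⟩
  · have := (Nat.Prime.pow_eq_iff (by norm_num : Nat.Prime 23)).mp h
    exact ⟨this.2, Or.inr (Or.inr (Or.inr (Or.inr this.1)))⟩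

/-- arithmetic for the `SL(2,5)` case -/
theorem near_arith_sl (p k cH m cC : ℕ) (hp : p.Prime) (h1 : cH + 1 = p ^ k * p ^ k)
    (h2 : cH ≤ 240 * m) (h3 : 120 ∣ cH) (h4 : cC ∣ p ^ k - 1) (h5 : 2 * m ∣ cC)
    (h6 : ¬ 4 ∣ cC) (hH : 0 < cH) : k = 1 ∧ p ≤ 119 := by
  have hq2 : 2 ≤ p ^ k := by
    by_contra hlt
    have : p ^ k ≤ 1 := by omega
    have : p ^ k * p ^ k ≤ 1 * 1 := Nat.mul_le_mul this this
    omega
  have hdvd : 2 * m ∣ p ^ k - 1 := Dvd.dvd.trans h5 h4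
  have hmle : 2 * m ≤ p ^ k - 1 := Nat.le_of_dvd (by omega) hdvd
  have hq119 : p ^ k ≤ 119 := by
    by_contra hgt
    have hge : 120 ≤ p ^ k := by omega
    have h7 : cH ≤ 120 * (p ^ k - 1) := by omega
    have h8 : p ^ k * p ^ k ≤ 120 * (p ^ k - 1) + 1 := by omega
    have h9 : 120 * (p ^ k - 1) + 1 < p ^ k * p ^ k := by
      have : 120 * p ^ k ≤ p ^ k * p ^ k := by nlinarith
      omega
    omega
  have hk0 : k ≠ 0 := by
    rintro rfl
    rw [pow_zero] at hq2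
    omega
  by_cases hk1 : k = 1
  · subst hk1
    rw [pow_one] at hq119
    exact ⟨rfl, hq119⟩
  · exfalso
    have hk2 : 2 ≤ k := by omega
    have hpp : p ^ 2 ≤ p ^ k := Nat.pow_le_pow_right hp.pos hk2
    have hp10 : p ≤ 10 := by
      by_contra hgt
      have : 11 ≤ p := by omega
      have : 121 ≤ p ^ 2 := by nlinarith
      omega
    have hpdvd : p ∣ p ^ k * p ^ k := Dvd.dvd.mul_right (dvd_pow_self p hk0) _
    have hnot : ¬ p ∣ 120 := by
      intro hd
      have h10 : p ∣ cH := Dvd.dvd.trans hd h3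
      have h11 : p ∣ cH + 1 := by rw [h1]; exact hpdvd
      have h12 : p ∣ 1 := (Nat.dvd_add_right h10).mp h11
      exact hp.one_lt.ne' (Nat.dvd_one.mp h12)
    have hp7 : p = 7 := by
      have hp2 := hp.two_le
      interval_cases p
      · exact absurd (by norm_num : (2 : ℕ) ∣ 120) hnot
      · exact absurd (by norm_num : (3 : ℕ) ∣ 120) hnot
      · exact absurd hp (by norm_num)
      · exact absurd (by norm_num : (5 : ℕ) ∣ 120) hnot
      · exact absurd hp (by norm_num)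
      · rfl
      · exact absurd hp (by norm_num)
      · exact absurd hp (by norm_num)
      · exact absurd hp (by norm_num)
    subst hp7
    have hk : k = 2 := by
      by_contra hne
      have hk3 : 3 ≤ k := by omega
      have : 7 ^ 3 ≤ 7 ^ k := Nat.pow_le_pow_right (by norm_num) hk3
      omega
    subst hk
    norm_num at h1 h4
    have hcC : cC ≤ 48 := Nat.le_of_dvd (by norm_num) h4
    have hcC6 : cC ≤ 6 := by
      interval_cases cC <;> omega
    have hm3 : 2 * m ≤ cC := Nat.le_of_dvd (by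
      rcases Nat.eq_zero_or_pos cC with h | h
      · rw [h] at h4; omega
      · exact h) h5
    omega

end Cfsg.Agent.Helper12
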