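import Mathlib
import Cfsg.Agent.Helper12.HupFlow
import Cfsg.Agent.S2904
import Cfsg.Agent.S3430

set_option autoImplicit false

/-!
# Huppert's theorem on solvable linear groups transitive on the nonzero vectors
-/

namespace Cfsg.Agent.Helper12

universe u

theorem hup_arith24 (p : ℕ) (hp : p.Prime) (h : p + 1 ∣ 24) :
    p = 2 ∨ p = 3 ∨ p = 5 ∨ p = 7 ∨ p = 11 ∨ p = 23 := by
  have h1 : p + 1 ≤ 24 := Nat.le_of_dvd (by norm_num) h
  have h2 : p ≤ 23 := by omega
  interval_cases p <;> first | omega | exact absurd hp (by norm_num)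

theorem hup_arith37 : ∀ k < 4, ∀ j < 4, 3 ^ k % 7 = 3 ^ j % 7 → j = k := by decide

theorem hup_sq_sub_one (p : ℕ) (hp : 0 < p) : p ^ 2 - 1 = (p + 1) * (p - 1) := by
  obtain ⟨b, rfl⟩ : ∃ b, p = b + 1 := ⟨p - 1, by omega⟩
  simp only [Nat.add_sub_cancel]
  have h : (b + 1) ^ 2 = (b + 1 + 1) * b + 1 := by ring
  omega

theorem hup_sq_split (a n : ℕ) (hn : 1 ≤ n) : a * n ^ 2 = a * (n - 1) * (n + 1) + a := by
  obtain ⟨k, rfl⟩ : ∃ k, n = k + 1 := ⟨n - 1, by omega⟩
  simp only [Nat.add_sub_cancel]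
  ring

section HupMain

variable {p : ℕ} [Fact p.Prime] {V : Type u} [AddCommGroup V] [Module (ZMod p) V] [Finite V]
  [Nontrivial V]

/-- **Huppert's theorem** (group form): a solvable linear group over `ZMod p` transitive on
the nonzero vectors has an irreducible abelian normal subgroup, unless `|V|` is one of
`3², 5², 7², 11², 23², 3⁴`. -/
theorem hup_main (H : Subgroup (V ≃ₗ[ZMod p] V)) (hsol : IsSolvable H)
    (htrans : ∀ v w : V, v ≠ 0 → w ≠ 0 → ∃ h : H, (h : V ≃ₗ[ZMod p] V) v = w) :
    (∃ A : Subgroup H, A.Normal ∧ (∀ a ∈ A, ∀ b ∈ A, a * b = b * a) ∧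
      ∀ W : Submodule (ZMod p) V,
        (∀ a ∈ A, ∀ v ∈ W, ((a : H) : V ≃ₗ[ZMod p] V) v ∈ W) → W = ⊥ ∨ W = ⊤) ∨
    Nat.card V ∈ ({9, 25, 49, 121, 529, 81} : Set ℕ) := by
  classical
  by_cases hI : ∃ A : Subgroup H, A.Normal ∧ (∀ a ∈ A, ∀ b ∈ A, a * b = b * a) ∧
      ∀ W : Submodule (ZMod p) V,
        (∀ a ∈ A, ∀ v ∈ W, ((a : H) : V ≃ₗ[ZMod p] V) v ∈ W) → W = ⊥ ∨ W = ⊤
  · left; exact hI
  right
  have hp : p.Prime := Fact.out
  haveI : Finite (V ≃ₗ[ZMod p] V) := finite_linEquiv
  obtain ⟨n, hndef⟩ : ∃ n, Module.finrank (ZMod p) V = n := ⟨_, rfl⟩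
  have hVcard : Nat.card V = p ^ n := by
    rw [Module.natCard_eq_pow_finrank (K := ZMod p), Nat.card_zmod, hndef]
  -- a maximal abelian normal subgroup
  haveI : Nonempty {B : Subgroup H // B.Normal ∧ ∀ a ∈ B, ∀ b ∈ B, a * b = b * a} :=
    ⟨⟨⊥, inferInstance, fun a ha b hb => by
      rw [Subgroup.mem_bot] at ha hb
      rw [ha, hb]⟩⟩
  obtain ⟨⟨A, hAn, hAc⟩, hAmax⟩ := Finite.exists_max
    (fun B : {B : Subgroup H // B.Normal ∧ ∀ a ∈ B, ∀ b ∈ B, a * b = b * a} =>
      Nat.card (B : Subgroup H))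
  have hmax : ∀ B : Subgroup H, B.Normal → (∀ x ∈ B, ∀ y ∈ B, x * y = y * x) → A ≤ B →
      B ≤ A :=
    fun B h1 h2 h3 => (Subgroup.eq_of_le_of_card_ge h3 (hAmax ⟨B, h1, h2⟩)).symm.le
  have hAirr : ¬ (∀ W : Submodule (ZMod p) V,
      (∀ a ∈ A, ∀ v ∈ W, ((a : H) : V ≃ₗ[ZMod p] V) v ∈ W) → W = ⊥ ∨ W = ⊤) :=
    fun h => hI ⟨A, hAn, hAc, h⟩
  obtain ⟨E, hEn, hAE, hcent, hcomm, hZ, hC, hD⟩ := hup_exists_E hsol A hAn hAc hmax
  obtain ⟨F, instF, finF, ι, hι, hA, hconj, hdc, hinv⟩ := hup_exists_field H htrans A hAn hAc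
  obtain ⟨d, m, hd1, hd, hdm⟩ := hup_field_card ι
  rw [hndef] at hdm
  have hn1 : 1 ≤ n := by rw [← hndef]; exact Module.finrank_pos
  have hdn : d < n := by
    by_contra hcon
    have hm : m ≠ 0 := by rintro rfl; omega
    have hdle : d ≤ n := by
      rw [← hdm]; exact Nat.le_mul_of_pos_right d (Nat.pos_of_ne_zero hm)
    have hdeq : d = n := by omega
    exact hAirr (hup_irred_of_card H A ι hinv (by rw [hd, hVcard, hdeq]))
  have hn2 : 2 ≤ n := by omega
  obtain ⟨hcyc, hAdvd⟩ := hup_card_A_dvd H A ι hι hA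
  rw [hd] at hAdvd
  have hHdvd := hup_card_sub_one_dvd H htrans
  rw [hVcard] at hHdvd
  have hb := hup_index_bound H A E ι hι hA hdc hAE hcent hcomm hZ hd
  rw [hndef] at hb
  have hApos : 0 < Nat.card A := Nat.card_pos
  have hprimeE : ∀ r : ℕ, r.Prime → r ∣ Nat.card E → r ∣ Nat.card A := fun r hr hrE => by
    haveI : Fact r.Prime := ⟨hr⟩
    exact hup_prime_dvd E A hcent hcomm hZ r hrE
  have h4le : 4 ≤ p ^ n :=
    calc 4 = 2 ^ 2 := by norm_num
      _ ≤ p ^ 2 := Nat.pow_le_pow_left hp.two_le 2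
      _ ≤ p ^ n := Nat.pow_le_pow_right hp.pos hn2
  have hA1 : Nat.card A ≠ 1 := by
    intro hA1
    have hE1 : Nat.card E = 1 := by
      by_contra hne
      obtain ⟨r, hr, hrE⟩ := Nat.exists_prime_and_dvd hne
      have h1 := hprimeE r hr hrE
      rw [hA1] at h1
      exact hr.one_lt.ne' (Nat.dvd_one.mp h1)
    have hEbot : E = ⊥ := Subgroup.eq_bot_of_card_eq E hE1
    have hAbot : A = ⊥ := Subgroup.eq_bot_of_card_eq A hA1
    have hall : ∀ h : H, h = 1 := fun h => by
      have h1 : h ∈ A := hC h (fun y hy => by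
        rw [hEbot, Subgroup.mem_bot] at hy
        rw [hy, mul_one, one_mul])
      rw [hAbot, Subgroup.mem_bot] at h1
      exact h1
    have hH1 : Nat.card H = 1 :=
      Nat.card_eq_one_iff_unique.mpr ⟨⟨fun a b => by rw [hall a, hall b]⟩, ⟨1⟩⟩
    rw [hH1] at hHdvd
    have h2 : p ^ n - 1 = 1 := Nat.dvd_one.mp hHdvd
    omega
  -- the argument with a primitive prime divisor
  have hppd : ∀ ℓ : ℕ, ℓ.Prime → ℓ ∣ p ^ n - 1 → (∀ i, 0 < i → i < n → ¬ ℓ ∣ p ^ i - 1) →
      d = 1 ∧ ℓ = n + 1 ∧ Nat.card E = Nat.card A * n ^ 2 ∧ ¬ ℓ ^ 2 ∣ Nat.card H := by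
    intro ℓ hℓ hdvd hprim
    haveI : Fact ℓ.Prime := ⟨hℓ⟩
    have hℓH : ℓ ∣ Nat.card H := hdvd.trans hHdvd
    obtain ⟨g, hg⟩ := exists_prime_orderOf_dvd_card' ℓ hℓH
    have hfl : ∀ g : H, orderOf g = ℓ → d = 1 ∧ ℓ = n + 1 ∧
        Nat.card E = Nat.card A * n ^ 2 ∧ (∀ x ∈ E, g * x = x * g → x ∈ A) := by
      intro g hg
      have h1 := hup_flow H A E hAn hAirr hEn hAE hcent hcomm hZ hC ι hι hA hconj hdc hd hd1
        (by rw [hndef]; exact hdn.le) ℓ (by rw [hndef]; exact hdvd)
        (by rw [hndef]; exact hprim) g hg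
      rw [hndef] at h1
      exact h1
    obtain ⟨h1, h2, h3, -⟩ := hfl g hg
    refine ⟨h1, h2, h3, ?_⟩
    intro hsq
    obtain ⟨P, hP⟩ := Sylow.exists_subgroup_card_pow_prime ℓ hsq
    have hℓA : ¬ ℓ ∣ Nat.card A :=
      hup_ell_not_dvd H A hAirr ℓ (by rw [hndef]; exact hdvd) (by rw [hndef]; exact hprim)
    have hfree := hup_free_conj P ((E : Set H) \ (A : Set H)) ?_ ?_
    · rw [hP] at hfree
      have hΩ : Nat.card ↥((E : Set H) \ (A : Set H)) + Nat.card A = Nat.card E := by
        have h5 := Set.ncard_sdiff_add_ncard_of_subset (show (A : Set H) ⊆ (E : Set H) from hAE)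
        rw [← Nat.card_coe_set_eq, ← Nat.card_coe_set_eq, ← Nat.card_coe_set_eq] at h5
        exact h5
      have hkey : Nat.card ↥((E : Set H) \ (A : Set H)) = Nat.card A * (n - 1) * ℓ := by
        rw [h2]
        exact Nat.add_right_cancel (hΩ.trans (h3.trans (hup_sq_split _ n hn1)))
      rw [hkey, sq] at hfree
      have h6 : ℓ ∣ Nat.card A * (n - 1) := Nat.dvd_of_mul_dvd_mul_right hℓ.pos hfree
      rcases hℓ.dvd_mul.mp h6 with h7 | h7
      · exact hℓA h7
      · have h8 : 0 < n - 1 := by omega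
        have h9 := Nat.le_of_dvd h8 h7
        omega
    · intro u hu x hx
      refine ⟨hEn.conj_mem x hx.1 u, fun h5 => hx.2 ?_⟩
      have h6 := hAn.conj_mem _ h5 u⁻¹
      have h7 : u⁻¹ * (u * x * u⁻¹) * u⁻¹⁻¹ = x := by group
      rw [h7] at h6
      exact h6
    · intro u hu x hx hux
      by_contra hu1
      have h5 := Subgroup.orderOf_dvd_natCard P hu
      rw [hP] at h5
      obtain ⟨k, hk2, hk⟩ := (Nat.dvd_prime_pow hℓ).mp h5
      have hk0 : k ≠ 0 := by
        rintro rfl
        rw [pow_zero] at hk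
        exact hu1 (orderOf_eq_one_iff.mp hk)
      have h6 : ℓ ∣ Nat.card (Subgroup.zpowers u) := by
        rw [Nat.card_zpowers, hk]
        exact dvd_pow_self ℓ hk0
      obtain ⟨y, hy⟩ := exists_prime_orderOf_dvd_card' ℓ h6
      have hux' : x * u = u * x := by
        calc x * u = (u * x * u⁻¹) * u := by rw [hux]
          _ = u * x := by group
      have hzle : Subgroup.zpowers u ≤ Subgroup.centralizer ({x} : Set H) := by
        rw [Subgroup.zpowers_le, Subgroup.mem_centralizer_iff]
        intro z hz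
        rw [Set.mem_singleton_iff] at hz
        rw [hz]
        exact hux'
      have hyx : (y : H) * x = x * (y : H) :=
        ((Subgroup.mem_centralizer_iff.mp (hzle y.2)) x rfl).symm
      have h7 := (hfl (y : H) (by rw [Subgroup.orderOf_coe]; exact hy)).2.2.2 x hx.1 hyx
      exact hx.2 h7
  -- the cases
  by_cases hn2' : n = 2
  · -- dimension two
    have hd1' : d = 1 := by omega
    rw [hd1', pow_one] at hAdvd
    rw [hd1', mul_one, hn2'] at hb
    have hd' : Nat.card F = p ^ 1 := by rw [← hd1']; exact hd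
    have hAcen : ∀ h : H, ∀ a ∈ A, h * a = a * h := by
      intro h a ha
      have h1 := hup_pow_centralizes H A ι hι hA hconj hd' h a ha
      rwa [pow_one] at h1
    obtain ⟨s, hs⟩ := hup_card_sq E A hAE hcyc hcent hcomm hZ
    have hEpos : 0 < Nat.card E := Nat.card_pos
    have hs0 : s ≠ 0 := by
      rintro rfl
      rw [hs] at hEpos
      simp at hEpos
    have hs2 : s ≤ 2 := by
      by_contra hcon
      push_neg at hcon
      have h1 : 3 ^ 2 ≤ s ^ 2 := Nat.pow_le_pow_left hcon 2
      rw [hs] at hb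
      have h2 : Nat.card A * 3 ^ 2 ≤ Nat.card A * s ^ 2 := Nat.mul_le_mul_left _ h1
      have h3 : Nat.card A * 3 ^ 2 ≤ Nat.card A * 2 ^ 2 := h2.trans hb
      have h4 := Nat.le_of_mul_le_mul_left h3 hApos
      norm_num at h4
    rcases (by omega : s = 1 ∨ s = 2) with hs1 | hs2'
    · exfalso
      have hEA : E = A := by
        have hcard : Nat.card E ≤ Nat.card A := by rw [hs, hs1]; simp
        exact (Subgroup.eq_of_le_of_card_ge hAE hcard).symm
      have hall : ∀ h : H, h ∈ A := fun h => hC h (fun y hy => by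
        rw [hEA] at hy
        exact hAcen h y hy)
      apply hAirr
      intro W hW
      by_cases hbot : W = ⊥
      · left; exact hbot
      · right
        obtain ⟨w, hwW, hw0⟩ := (Submodule.ne_bot_iff W).mp hbot
        rw [eq_top_iff]
        intro v _
        by_cases hv : v = 0
        · rw [hv]; exact W.zero_mem
        · obtain ⟨h, hh⟩ := htrans w v hw0 hv
          rw [← hh]
          exact hW h (hall h) w hwW
    · have hEcard : Nat.card E = 4 * Nat.card A := by rw [hs, hs2']; ring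
      have hidx := hup_index_dvd_six E A hAn hEn hAE hEcard
        (fun h hh => hD h (fun a ha => hAcen h a ha) hh)
      have hHcard := Subgroup.card_mul_index E
      have h1 : Nat.card H ∣ 24 * (p - 1) := by
        rw [← hHcard, hEcard]
        obtain ⟨c, hc⟩ := hAdvd
        obtain ⟨e, he⟩ := hidx
        refine ⟨c * e, ?_⟩
        rw [hc]
        calc 24 * (Nat.card A * c) = 4 * Nat.card A * c * 6 := by ring
          _ = 4 * Nat.card A * c * (E.index * e) := by rw [← he]
          _ = 4 * Nat.card A * E.index * (c * e) := by ring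
      have h2 : p ^ 2 - 1 ∣ 24 * (p - 1) := by
        rw [hn2'] at hHdvd
        exact hHdvd.trans h1
      rw [hup_sq_sub_one p hp.pos] at h2
      have hp1 : 0 < p - 1 := by have := hp.two_le; omega
      have h24 : p + 1 ∣ 24 := Nat.dvd_of_mul_dvd_mul_right hp1 h2
      have hVc : Nat.card V = p ^ 2 := by rw [hVcard, hn2']
      rcases hup_arith24 p hp h24 with h | h | h | h | h | h
      · exfalso
        have hp1' : p - 1 = 1 := by rw [h]
        rw [hp1'] at hAdvd
        exact hA1 (Nat.dvd_one.mp hAdvd)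
      · have h9 : Nat.card V = 9 := by rw [hVc, h]; norm_num
        rw [h9]; simp
      · have h9 : Nat.card V = 25 := by rw [hVc, h]; norm_num
        rw [h9]; simp
      · have h9 : Nat.card V = 49 := by rw [hVc, h]; norm_num
        rw [h9]; simp
      · have h9 : Nat.card V = 121 := by rw [hVc, h]; norm_num
        rw [h9]; simp
      · have h9 : Nat.card V = 529 := by rw [hVc, h]; norm_num
        rw [h9]; simp
  by_cases h26 : p = 2 ∧ n = 6
  · -- the case `2 ^ 6`
    exfalso
    obtain ⟨h2, h6⟩ := h26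
    have h63' : p ^ n - 1 = 63 := by rw [h2, h6]; norm_num
    have h63 : 63 ∣ Nat.card H := by
      rw [h63'] at hHdvd
      exact hHdvd
    rw [h6] at hdm hb hdn
    have hd6 : d ∣ 6 := ⟨m, hdm.symm⟩
    have hdle : d ≤ 5 := by omega
    have hpd : p ^ d - 1 = 2 ^ d - 1 := by rw [h2]
    rw [hpd] at hAdvd
    interval_cases d
    · exact hA1 (Nat.dvd_one.mp (by simpa using hAdvd))
    · -- `d = 2`
      have hA3 : Nat.card A = 3 := by
        have h1 : Nat.card A ∣ 3 := by
          norm_num at hAdvd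
          exact hAdvd
        rcases (Nat.dvd_prime (by norm_num : Nat.Prime 3)).mp h1 with h | h
        · exact absurd h hA1
        · exact h
      rw [hA3] at hb
      obtain ⟨k, hk⟩ : ∃ k, Nat.card E = 3 ^ k :=
        ⟨_, Nat.eq_prime_pow_of_unique_prime_dvd (Nat.card_pos.ne') (fun {r} hr hrE => by
          have h1 := hprimeE r hr hrE
          rw [hA3] at h1
          exact (Nat.prime_dvd_prime_iff_eq hr (by norm_num)).mp h1)⟩
      have hk3 : k < 4 := by
        by_contra hcon
        push_neg at hcon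
        have h1 : 3 ^ 4 ≤ 3 ^ k := Nat.pow_le_pow_right (by norm_num) hcon
        rw [hk] at hb
        norm_num at hb h1
        omega
      haveI : Fact (Nat.Prime 7) := ⟨by norm_num⟩
      obtain ⟨g, hg⟩ := exists_prime_orderOf_dvd_card' 7 ((by norm_num : 7 ∣ 63).trans h63)
      have hg7 : g ^ 7 = 1 := by rw [← hg]; exact pow_orderOf_eq_one g
      have hmod := hup_card_fixed_modEq E hEn g 7 hg7
      have hsub : Nat.card ↥(E ⊓ Subgroup.centralizer ({g} : Set H)) ∣ Nat.card E :=
        Subgroup.card_dvd_of_le inf_le_left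
      rw [hk] at hmod hsub
      obtain ⟨j, hj, hcj⟩ := (Nat.dvd_prime_pow (by norm_num : Nat.Prime 3)).mp hsub
      rw [hcj] at hmod
      have hjk : j = k := hup_arith37 k hk3 j (by omega) hmod
      have hcard : Nat.card E ≤ Nat.card ↥(E ⊓ Subgroup.centralizer ({g} : Set H)) := by
        rw [hk, hcj, hjk]
      have hEq := Subgroup.eq_of_le_of_card_ge
        (inf_le_left : E ⊓ Subgroup.centralizer ({g} : Set H) ≤ E) hcard
      have hgA : g ∈ A := hC g (fun y hy => by
        rw [← hEq] at hy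
        exact (Subgroup.mem_centralizer_iff.mp (Subgroup.mem_inf.mp hy).2 g rfl))
      have h7 := Subgroup.orderOf_dvd_natCard A hgA
      rw [hg, hA3] at h7
      omega
    · -- `d = 3`
      have hA7 : Nat.card A = 7 := by
        have h1 : Nat.card A ∣ 7 := by
          norm_num at hAdvd
          exact hAdvd
        rcases (Nat.dvd_prime (by norm_num : Nat.Prime 7)).mp h1 with h | h
        · exact absurd h hA1
        · exact h
      rw [hA7] at hb
      obtain ⟨k, hk⟩ : ∃ k, Nat.card E = 7 ^ k :=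
        ⟨_, Nat.eq_prime_pow_of_unique_prime_dvd (Nat.card_pos.ne') (fun {r} hr hrE => by
          have h1 := hprimeE r hr hrE
          rw [hA7] at h1
          exact (Nat.prime_dvd_prime_iff_eq hr (by norm_num)).mp h1)⟩
      obtain ⟨s, hs⟩ := hup_card_sq E A hAE hcyc hcent hcomm hZ
      rw [hA7] at hs
      have hk3 : k < 3 := by
        by_contra hcon
        push_neg at hcon
        have h1 : 7 ^ 3 ≤ 7 ^ k := Nat.pow_le_pow_right (by norm_num) hcon
        rw [hk] at hb
        norm_num at hb h1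
        omega
      have hE7 : Nat.card E = 7 := by
        rw [hk] at hs
        interval_cases k
        · exfalso; omega
        · rw [hk]; norm_num
        · exfalso
          have h1 : s ^ 2 = 7 := by omega
          have h2 : s < 3 := by
            by_contra hc
            push_neg at hc
            have h3 := Nat.pow_le_pow_left hc 2
            omega
          interval_cases s <;> omega
      have hEA : E = A := (Subgroup.eq_of_le_of_card_ge hAE (by rw [hE7, hA7])).symm
      haveI : Fact (Nat.Prime 3) := ⟨by norm_num⟩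
      obtain ⟨P, hP⟩ := Sylow.exists_subgroup_card_pow_prime 3 (n := 2)
        ((by norm_num : 3 ^ 2 ∣ 63).trans h63)
      have hfree := hup_free_conj P ((A : Set H) \ {1}) ?_ ?_
      · rw [hP] at hfree
        have h1 : Nat.card ↥((A : Set H) \ {1}) = 6 := by
          rw [Nat.card_coe_set_eq, Set.ncard_diff_singleton_of_mem (A.one_mem),
            ← Nat.card_coe_set_eq]
          show Nat.card A - 1 = 6
          rw [hA7]
        rw [h1] at hfree
        omega
      · intro u hu x hx
        refine ⟨hAn.conj_mem x hx.1 u, fun h1 => hx.2 ?_⟩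
        rw [Set.mem_singleton_iff] at h1 ⊢
        have h2 : x = u⁻¹ * (u * x * u⁻¹) * u := by group
        rw [h2, h1]; group
      · intro u hu x hx hux
        have hxA : x ∈ A := hx.1
        have hx1 : x ≠ 1 := fun h => hx.2 (Set.mem_singleton_iff.mpr h)
        have hox : orderOf x = 7 := by
          have h1 := Subgroup.orderOf_dvd_natCard A hxA
          rw [hA7] at h1
          rcases (Nat.dvd_prime (by norm_num : Nat.Prime 7)).mp h1 with h | h
          · exact absurd (orderOf_eq_one_iff.mp h) hx1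
          · exact h
        have hzA : Subgroup.zpowers x = A := by
          apply Subgroup.eq_of_le_of_card_ge (by rw [Subgroup.zpowers_le]; exact hxA)
          rw [Nat.card_zpowers, hox, hA7]
        have hux' : u * x = x * u := by
          calc u * x = (u * x * u⁻¹) * u := by group
            _ = x * u := by rw [hux]
        have huA : u ∈ A := hC u (fun y hy => by
          rw [hEA, ← hzA] at hy
          obtain ⟨i, rfl⟩ := Subgroup.mem_zpowers_iff.mp hy
          exact (Commute.zpow_right (show Commute u x from hux') i).eq)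
        have h1 := Subgroup.orderOf_dvd_natCard A huA
        have h2 := Subgroup.orderOf_dvd_natCard P hu
        rw [hA7] at h1
        rw [hP] at h2
        have h3 : orderOf u = 1 := by
          rcases (Nat.dvd_prime (by norm_num : Nat.Prime 7)).mp h1 with h | h
          · exact h
          · rw [h] at h2; omega
        exact orderOf_eq_one_iff.mp h3
    · omega
    · omega
  by_cases h34 : p = 3 ∧ n = 4
  · have h81 : Nat.card V = 81 := by rw [hVcard, h34.1, h34.2]; norm_num
    rw [h81]; simp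
  exfalso
  have hn3 : 3 ≤ n := by omega
  by_cases hsmall : p = 2 ∨ (n = 6 ∧ (p = 3 ∨ p = 5))
  · obtain ⟨ℓ, hℓ, hℓdvd, hℓprim⟩ := Cfsg.Agent.S2904.result p n hp.one_lt (by omega)
      (fun h => h26 h) (fun h => hn2' h.1)
    obtain ⟨hd1', hℓn, hEcard, -⟩ := hppd ℓ hℓ hℓdvd hℓprim
    rw [hd1', pow_one] at hAdvd
    rcases hsmall with h2 | ⟨h6, h35⟩
    · have hp1' : p - 1 = 1 := by rw [h2]
      rw [hp1'] at hAdvd
      exact hA1 (Nat.dvd_one.mp hAdvd)
    · have h3E : 3 ∣ Nat.card E := by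
        rw [hEcard, h6]
        exact Dvd.dvd.mul_left (by norm_num) _
      have h3A := hprimeE 3 (by norm_num) h3E
      have h3p := h3A.trans hAdvd
      rcases h35 with h | h
      · rw [h] at h3p; omega
      · rw [h] at h3p; omega
  · obtain ⟨ℓ, hℓ, hℓdvd, hℓprim, hℓbig⟩ := Cfsg.Agent.S3430.result p n hp.two_le hn2
      (fun h => hn2' h.1) (fun h => hsmall (Or.inl h.1)) (fun h => by omega) (fun h => by omega)
    obtain ⟨hd1', hℓn, hEcard, hnsq⟩ := hppd ℓ hℓ hℓdvd (fun i hi hin => hℓprim i hi hin)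
    rcases hℓbig with hbig | hsq
    · omega
    · exact hnsq (hsq.trans hHdvd)

end HupMain

end Cfsg.Agent.Helper12
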