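import Mathlib
import Cfsg.Agent.Helper12.NearLin

set_option autoImplicit false

/-!
# Linear groups with an irreducible abelian normal subgroup are semilinear

If `H ≤ GL(V)` (over `ZMod p`, `V` finite) has a normal abelian subgroup `A` acting
irreducibly, the centraliser of `A` in `End V` is a finite field `F`, `V` is one-dimensional
over `F`, and every element of `H` acts as `x ↦ a * σ x` on `V ≅ F`.
-/

namespace Cfsg.Agent.Helper12

universe u

/-- Conjugation by a unit `u` (with inverse `u'`) on the range of an injective ring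
homomorphism stable under this conjugation. -/
noncomputable def conjRingEquivOfRange {F E : Type*} [Ring F] [Ring E] (ι : F →+* E)
    (hι : Function.Injective ι) (u u' : E) (h1 : u * u' = 1) (h2 : u' * u = 1)
    (hu : ∀ x, ∃ y, ι y = u * ι x * u') (hu' : ∀ x, ∃ y, ι y = u' * ι x * u) : F ≃+* F where
  toFun x := Classical.choose (hu x)
  invFun x := Classical.choose (hu' x)
  left_inv x := hι (by
    rw [Classical.choose_spec (hu' _), Classical.choose_spec (hu x)]
    rw [mul_assoc u, ← mul_assoc u', h2, one_mul, mul_assoc, h2, mul_one])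
  right_inv x := hι (by
    rw [Classical.choose_spec (hu _), Classical.choose_spec (hu' x)]
    rw [mul_assoc u', ← mul_assoc u, h1, one_mul, mul_assoc, h1, mul_one])
  map_mul' x y := hι (by
    rw [Classical.choose_spec (hu _), map_mul, map_mul, Classical.choose_spec (hu x),
      Classical.choose_spec (hu y)]
    have h2' : ∀ w : E, u' * (u * w) = w := fun w => by rw [← mul_assoc, h2, one_mul]
    simp only [mul_assoc, h2'])
  map_add' x y := hι (by
    rw [Classical.choose_spec (hu _), map_add, map_add, Classical.choose_spec (hu x),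
      Classical.choose_spec (hu y), mul_add, add_mul])

theorem conjRingEquivOfRange_spec {F E : Type*} [Ring F] [Ring E] (ι : F →+* E)
    (hι : Function.Injective ι) (u u' : E) (h1 : u * u' = 1) (h2 : u' * u = 1)
    (hu : ∀ x, ∃ y, ι y = u * ι x * u') (hu' : ∀ x, ∃ y, ι y = u' * ι x * u) (x : F) :
    ι (conjRingEquivOfRange ι hι u u' h1 h2 hu hu' x) = u * ι x * u' :=
  Classical.choose_spec (hu x)

/-- A module which is one-dimensional over a field acting by endomorphisms is identified with
the field; maps semilinear for the action become `x ↦ a * σ x`. -/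
theorem semilinear_of_ringHom {R V F : Type*} [Semiring R] [AddCommGroup V] [Module R V]
    [Field F] (ι : F →+* Module.End R V) (v0 : V) (hv0 : v0 ≠ 0)
    (hspan : ∀ v, ∃ f : F, ι f v0 = v) :
    ∃ e : V ≃+ F, ∀ (h : V → V) (σ : F → F), (∀ f v, h (ι f v) = ι (σ f) (h v)) →
      ∀ v, e (h v) = e (h v0) * σ (e v) := by
  have hinj : ∀ f g : F, ι f v0 = ι g v0 → f = g := by
    intro f g hfg
    by_contra hne
    have h1 : ι (f - g) v0 = 0 := by rw [map_sub, LinearMap.sub_apply, hfg, sub_self]
    have h2 : ι ((f - g)⁻¹) (ι (f - g) v0) = v0 := by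
      rw [← Module.End.mul_apply, ← map_mul, inv_mul_cancel₀ (sub_ne_zero.mpr hne), map_one,
        Module.End.one_apply]
    rw [h1, map_zero] at h2
    exact hv0 h2.symm
  let φ : F →+ V :=
    { toFun := fun f => ι f v0
      map_zero' := by rw [map_zero, LinearMap.zero_apply]
      map_add' := fun f g => by rw [map_add, LinearMap.add_apply] }
  have hbij : Function.Bijective φ := ⟨fun f g h => hinj f g h, hspan⟩
  let e0 : F ≃+ V := AddEquiv.ofBijective φ hbij
  have he0 : ∀ f, e0 f = ι f v0 := fun _ => rfl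
  refine ⟨e0.symm, ?_⟩
  intro h σ hσ v
  have hv : ι (e0.symm v) v0 = v := e0.apply_symm_apply v
  have hh : ι (e0.symm (h v0)) v0 = h v0 := e0.apply_symm_apply (h v0)
  apply e0.injective
  rw [AddEquiv.apply_symm_apply, he0, mul_comm, map_mul, Module.End.mul_apply, hh, ← hσ, hv]

section Field

variable {p : ℕ} [Fact p.Prime] {V : Type u} [AddCommGroup V] [Module (ZMod p) V] [Finite V]
  [Nontrivial V]

/-- The centraliser of an irreducible set of endomorphisms is a finite field. -/
theorem exists_field_of_irred (S : Set (Module.End (ZMod p) V))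
    (hirr : ∀ W : Submodule (ZMod p) V, (∀ a ∈ S, ∀ v ∈ W, a v ∈ W) → W = ⊥ ∨ W = ⊤) :
    ∃ (F : Type u) (_ : Field F) (_ : Finite F) (ι : F →+* Module.End (ZMod p) V),
      Function.Injective ι ∧ ∀ f, f ∈ Subring.centralizer S ↔ ∃ x, ι x = f := by
  classical
  haveI : Finite (Module.End (ZMod p) V) :=
    Finite.of_injective (fun f : Module.End (ZMod p) V => (f : V → V)) DFunLike.coe_injective
  have hker : ∀ d : Subring.centralizer S, d ≠ 0 → ∀ v,
      (d : Module.End (ZMod p) V) v = 0 → v = 0 := by
    intro d hd v hv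
    have hW := hirr (LinearMap.ker (d : Module.End (ZMod p) V)) (by
      intro a ha w hw
      rw [LinearMap.mem_ker] at hw ⊢
      have hcomm : a * (d : Module.End (ZMod p) V) = d * a :=
        (Subring.mem_centralizer_iff.mp d.2) a ha
      have h1 : (d : Module.End (ZMod p) V) (a w) = a ((d : Module.End (ZMod p) V) w) := by
        rw [← Module.End.mul_apply, ← hcomm, Module.End.mul_apply]
      rw [h1, hw, map_zero])
    rcases hW with h | h
    · have h1 : v ∈ LinearMap.ker (d : Module.End (ZMod p) V) := hv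
      rw [h] at h1
      exact (Submodule.mem_bot _).mp h1
    · exfalso
      apply hd
      apply Subtype.ext
      apply LinearMap.ext
      intro w
      have h1 : w ∈ LinearMap.ker (d : Module.End (ZMod p) V) := by rw [h]; trivial
      exact h1
  haveI : Nontrivial (Subring.centralizer S) := ⟨⟨0, 1, fun h => by
    obtain ⟨v, hv⟩ := exists_ne (0 : V)
    apply hv
    have h1 := congrArg (fun d : Subring.centralizer S => (d : Module.End (ZMod p) V) v) h
    exact h1.symm⟩⟩
  haveI : NoZeroDivisors (Subring.centralizer S) := ⟨by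
    intro d d' h
    by_contra hne
    push_neg at hne
    apply hne.2
    apply Subtype.ext
    apply LinearMap.ext
    intro w
    apply hker d hne.1
    have h1 := congrArg (fun x : Subring.centralizer S => (x : Module.End (ZMod p) V) w) h
    exact h1⟩
  haveI : IsDomain (Subring.centralizer S) := NoZeroDivisors.to_isDomain _
  letI := Fintype.ofFinite (Subring.centralizer S)
  letI : DivisionRing (Subring.centralizer S) := Fintype.divisionRingOfIsDomain _
  letI : Field (Subring.centralizer S) := littleWedderburn _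
  exact ⟨Subring.centralizer S, inferInstance, inferInstance, (Subring.centralizer S).subtype,
    Subtype.val_injective, fun f => ⟨fun hf => ⟨⟨f, hf⟩, rfl⟩, by rintro ⟨x, rfl⟩; exact x.2⟩⟩

/-- **Semilinearity**: a linear group with an irreducible abelian normal subgroup acts
semilinearly on a field structure of `V`. -/
theorem semilinear_of_irred_normal (H : Subgroup (V ≃ₗ[ZMod p] V)) (A : Subgroup H)
    (hAn : A.Normal) (hAc : ∀ a ∈ A, ∀ b ∈ A, a * b = b * a)
    (hirr : ∀ W : Submodule (ZMod p) V,
      (∀ a ∈ A, ∀ v ∈ W, ((a : H) : V ≃ₗ[ZMod p] V) v ∈ W) → W = ⊥ ∨ W = ⊤) :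
    ∃ (F : Type u) (_ : Field F) (_ : Finite F) (e : V ≃+ F),
      ∀ h : H, ∃ (a : F) (σ : F ≃+* F), ∀ v : V,
        e ((h : V ≃ₗ[ZMod p] V) v) = a * σ (e v) := by
  classical
  obtain ⟨F, instF, finF, ι, hι, hrange⟩ :=
    exists_field_of_irred {f : Module.End (ZMod p) V | ∃ a ∈ A, f = linRho H a} (by
      intro W hW
      apply hirr W
      intro a ha v hv
      exact hW _ ⟨a, ha, rfl⟩ v hv)
  -- elements of `A` lie in the centraliser
  have hAD : ∀ a ∈ A, linRho H a ∈
      Subring.centralizer {f : Module.End (ZMod p) V | ∃ a ∈ A, f = linRho H a} := by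
    intro a ha
    rw [Subring.mem_centralizer_iff]
    rintro _ ⟨b, hb, rfl⟩
    rw [← map_mul, ← map_mul, hAc b hb a ha]
  obtain ⟨v0, hv0⟩ := exists_ne (0 : V)
  have hspan : ∀ v, ∃ f : F, ι f v0 = v := by
    let W : Submodule (ZMod p) V :=
      { carrier := {v | ∃ d ∈ Subring.centralizer
            {f : Module.End (ZMod p) V | ∃ a ∈ A, f = linRho H a}, d v0 = v}
        add_mem' := by
          rintro _ _ ⟨d, hd, rfl⟩ ⟨d', hd', rfl⟩
          exact ⟨d + d', Subring.add_mem _ hd hd', rfl⟩
        zero_mem' := ⟨0, Subring.zero_mem _, rfl⟩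
        smul_mem' := by
          rintro c _ ⟨d, hd, rfl⟩
          refine ⟨c • d, ?_, rfl⟩
          rw [Subring.mem_centralizer_iff] at hd ⊢
          intro g hg
          rw [mul_smul_comm, smul_mul_assoc, hd g hg] }
    have hW := hirr W (by
      rintro a ha _ ⟨d, hd, rfl⟩
      exact ⟨linRho H a * d, Subring.mul_mem _ (hAD a ha) hd, rfl⟩)
    rcases hW with h | h
    · exfalso
      apply hv0
      have h1 : v0 ∈ W := ⟨1, Subring.one_mem _, rfl⟩
      rw [h] at h1
      exact (Submodule.mem_bot _).mp h1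
    · intro v
      have h1 : v ∈ W := by rw [h]; trivial
      obtain ⟨d, hd, rfl⟩ := h1
      obtain ⟨x, rfl⟩ := (hrange d).mp hd
      exact ⟨x, rfl⟩
  obtain ⟨e, he⟩ := semilinear_of_ringHom ι v0 hv0 hspan
  refine ⟨F, instF, finF, e, ?_⟩
  -- conjugation by elements of `H` preserves the centraliser
  have hconj : ∀ (g : H) (d : Module.End (ZMod p) V),
      d ∈ Subring.centralizer {f : Module.End (ZMod p) V | ∃ a ∈ A, f = linRho H a} →
      linRho H g * d * linRho H g⁻¹ ∈
        Subring.centralizer {f : Module.End (ZMod p) V | ∃ a ∈ A, f = linRho H a} := by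
    intro g d hd
    rw [Subring.mem_centralizer_iff] at hd ⊢
    rintro _ ⟨b, hb, rfl⟩
    have hb' : g⁻¹ * b * g ∈ A := by
      have h := hAn.conj_mem b hb g⁻¹
      rwa [inv_inv] at h
    have hd' := hd _ ⟨g⁻¹ * b * g, hb', rfl⟩
    calc linRho H b * (linRho H g * d * linRho H g⁻¹)
        = (linRho H b * linRho H g) * d * linRho H g⁻¹ := by simp only [mul_assoc]
      _ = (linRho H g * linRho H (g⁻¹ * b * g)) * d * linRho H g⁻¹ := by
          rw [← map_mul, ← map_mul, show g * (g⁻¹ * b * g) = b * g by group]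
      _ = linRho H g * (linRho H (g⁻¹ * b * g) * d) * linRho H g⁻¹ := by simp only [mul_assoc]
      _ = linRho H g * (d * linRho H (g⁻¹ * b * g)) * linRho H g⁻¹ := by rw [hd']
      _ = linRho H g * d * (linRho H (g⁻¹ * b * g) * linRho H g⁻¹) := by simp only [mul_assoc]
      _ = linRho H g * d * (linRho H g⁻¹ * linRho H b) := by
          rw [← map_mul, ← map_mul, show g⁻¹ * b * g * g⁻¹ = g⁻¹ * b by group]
      _ = linRho H g * d * linRho H g⁻¹ * linRho H b := by simp only [mul_assoc]
  intro h
  have hu : ∀ x, ∃ y, ι y = linRho H h * ι x * linRho H h⁻¹ := fun x =>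
    (hrange _).mp (hconj h (ι x) ((hrange _).mpr ⟨x, rfl⟩))
  have hu' : ∀ x, ∃ y, ι y = linRho H h⁻¹ * ι x * linRho H h := fun x => by
    have h1 := hconj h⁻¹ (ι x) ((hrange _).mpr ⟨x, rfl⟩)
    rw [inv_inv] at h1
    exact (hrange _).mp h1
  have h1 : linRho H h * linRho H h⁻¹ = 1 := by rw [← map_mul, mul_inv_cancel, map_one]
  have h2 : linRho H h⁻¹ * linRho H h = 1 := by rw [← map_mul, inv_mul_cancel, map_one]
  refine ⟨e ((h : V ≃ₗ[ZMod p] V) v0),
    conjRingEquivOfRange ι hι (linRho H h) (linRho H h⁻¹) h1 h2 hu hu', fun v => ?_⟩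
  refine he (fun v => (h : V ≃ₗ[ZMod p] V) v) _ ?_ v
  intro f v
  rw [conjRingEquivOfRange_spec]
  show linRho H h (ι f v) = (linRho H h * ι f * linRho H h⁻¹) (linRho H h v)
  rw [Module.End.mul_apply, Module.End.mul_apply, ← Module.End.mul_apply (linRho H h⁻¹), h2,
    Module.End.one_apply]

end Field

/-- Transport of a semilinear description to a field in `Type`. -/
theorem semilinear_shrink {V : Type*} [AddCommGroup V] {X : Type*} (act : X → V → V)
    (h : ∃ (F : Type u) (_ : Field F) (_ : Finite F) (e : V ≃+ F),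
      ∀ x : X, ∃ (a : F) (σ : F ≃+* F), ∀ v : V, e (act x v) = a * σ (e v)) :
    ∃ (F : Type) (_ : Field F) (_ : Fintype F) (e : V ≃+ F),
      ∀ x : X, ∃ (a : F) (σ : F ≃+* F), ∀ v : V, e (act x v) = a * σ (e v) := by
  classical
  obtain ⟨F, instF, finF, e, he⟩ := h
  let r : F ≃+* Shrink.{0} F := (Shrink.ringEquiv.{0} F).symm
  haveI : Finite (Shrink.{0} F) := Finite.of_equiv F r.toEquiv
  refine ⟨Shrink.{0} F, inferInstance, Fintype.ofFinite _, e.trans r.toAddEquiv, ?_⟩
  intro x
  obtain ⟨a, σ, hσ⟩ := he x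
  refine ⟨r a, r.symm.trans (σ.trans r), fun v => ?_⟩
  show r (e (act x v)) = r a * r (σ (r.symm (r (e v))))
  rw [RingEquiv.symm_apply_apply, hσ, map_mul]

end Cfsg.Agent.Helper12
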