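import Mathlib
import Cfsg.Agent.S3360
import Cfsg.Agent.Helper12.Ex81
import Cfsg.Agent.Helper12.SemiAff
import Cfsg.Agent.Helper12.LineCount
import Cfsg.Agent.Helper12.Sharp3Comm
import Cfsg.Agent.Helper12.NearLin

set_option autoImplicit false

/-!
# Solvable linear groups transitive on points and lines (after Huppert)
-/

namespace Cfsg.Agent.Helper12

section ConjP

universe u v

theorem exc_card {p n : ℕ} (hp : p.Prime) (hn : 3 ≤ n)
    (h : p ^ n ∈ ({9, 25, 49, 121, 529, 81} : Set ℕ)) : p = 3 ∧ n = 4 := by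
  have h3 : p ^ 3 ∣ p ^ n := pow_dvd_pow p hn
  simp only [Set.mem_insert_iff, Set.mem_singleton_iff] at h
  have hle : p ^ n ≤ 529 := by
    rcases h with h | h | h | h | h | h <;> omega
  have hp8 : p ≤ 8 := by
    by_contra hc
    push_neg at hc
    have h9 : 9 ^ 3 ≤ p ^ 3 := Nat.pow_le_pow_left hc 3
    have := Nat.le_of_dvd (pow_pos hp.pos n) h3
    omega
  have hp2 := hp.two_le
  rcases h with h | h | h | h | h | h <;> rw [h] at h3 <;> interval_cases p <;>
    first
      | exact absurd hp (by decide)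
      | exact absurd h3 (by decide)
      | exact ⟨rfl, Nat.pow_right_injective (by norm_num : 2 ≤ 3)
          (h.trans (by norm_num : (81 : ℕ) = 3 ^ 4))⟩

theorem two_pow_ge (m : ℕ) (hm : 3 ≤ m) : m + 4 ≤ 2 ^ m := by
  induction m, hm using Nat.le_induction with
  | base => norm_num
  | succ k hk ih => rw [pow_succ]; omega

theorem conjp_arith {p n L : ℕ} (hp : p.Prime) (hn : 3 ≤ n)
    (hL : L * ((p ^ 2 - 1) * (p ^ 2 - p)) = (p ^ n - 1) * (p ^ n - p))
    (hdvd : L * (p - 1) ∣ (p ^ n - 1) * n) : n = 3 ∨ (n = 5 ∧ p = 2) := by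
  have hp2 := hp.two_le
  obtain ⟨m, rfl⟩ : ∃ m, n = m + 1 := ⟨n - 1, by omega⟩
  have hA : p ^ 2 - p = p * (p - 1) := by rw [pow_two, Nat.mul_sub_one]
  have hD : p ^ (m + 1) - p = p * (p ^ m - 1) := by rw [pow_succ', Nat.mul_sub_one]
  have hQ1 : 0 < p ^ (m + 1) - 1 := by
    have : 2 ≤ p ^ (m + 1) := le_trans hp2 (Nat.le_self_pow (by omega) p)
    omega
  rw [hA, hD] at hL
  have hL2 : L * (p ^ 2 - 1) * (p - 1) = (p ^ (m + 1) - 1) * (p ^ m - 1) := by
    apply Nat.eq_of_mul_eq_mul_left hp.pos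
    calc p * (L * (p ^ 2 - 1) * (p - 1)) = L * ((p ^ 2 - 1) * (p * (p - 1))) := by ring
      _ = (p ^ (m + 1) - 1) * (p * (p ^ m - 1)) := hL
      _ = p * ((p ^ (m + 1) - 1) * (p ^ m - 1)) := by ring
  obtain ⟨k, hk⟩ := hdvd
  have hkey : (m + 1) * (p ^ 2 - 1) = (p ^ m - 1) * k := by
    apply Nat.eq_of_mul_eq_mul_left hQ1
    calc (p ^ (m + 1) - 1) * ((m + 1) * (p ^ 2 - 1))
        = ((p ^ (m + 1) - 1) * (m + 1)) * (p ^ 2 - 1) := by ring
      _ = (L * (p - 1) * k) * (p ^ 2 - 1) := by rw [hk]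
      _ = (L * (p ^ 2 - 1) * (p - 1)) * k := by ring
      _ = (p ^ (m + 1) - 1) * ((p ^ m - 1) * k) := by rw [hL2]; ring
  have hP2 : 4 ≤ p ^ 2 := by nlinarith
  have hk0 : k ≠ 0 := by
    rintro rfl
    rw [mul_zero] at hkey
    have : 0 < (m + 1) * (p ^ 2 - 1) := Nat.mul_pos (by omega) (by omega)
    omega
  have hDle : p ^ m - 1 ≤ (m + 1) * (p ^ 2 - 1) := by
    rw [hkey]; exact Nat.le_mul_of_pos_right _ (Nat.pos_of_ne_zero hk0)
  have hexp : (m + 1) * (p ^ 2 - 1) = (m + 1) * p ^ 2 - (m + 1) := by rw [Nat.mul_sub_one]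
  have hm2 : 2 ≤ m := by omega
  rcases Nat.lt_or_ge m 5 with hm5 | hm5
  · interval_cases m
    · left; rfl
    · exfalso
      rcases Nat.lt_or_ge p 4 with hp4 | hp4
      · interval_cases p
        · norm_num at hkey <;> omega
        · norm_num at hkey <;> omega
      · have h3 : p ^ 3 = p * p ^ 2 := by ring
        have h4 : 4 * p ^ 2 ≤ p ^ 3 := by rw [h3]; exact Nat.mul_le_mul_right _ hp4
        omega
    · rcases Nat.lt_or_ge p 3 with hp3 | hp3
      · right; exact ⟨rfl, by omega⟩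
      · exfalso
        have h3 : p ^ 4 = p ^ 2 * p ^ 2 := by ring
        have h4 : 9 * p ^ 2 ≤ p ^ 4 := by
          rw [h3]; exact Nat.mul_le_mul_right _ (by nlinarith)
        omega
  · exfalso
    have h2 := two_pow_ge (m - 2) (by omega)
    have h3 : p ^ m = p ^ (m - 2) * p ^ 2 := by rw [← pow_add]; congr 1; omega
    have h4 : 2 ^ (m - 2) ≤ p ^ (m - 2) := Nat.pow_le_pow_left hp2 _
    have h5 : (m + 2) * p ^ 2 ≤ p ^ m := by
      rw [h3]; exact Nat.mul_le_mul_right _ (by omega)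
    have h6 : (m + 2) * p ^ 2 = (m + 1) * p ^ 2 + p ^ 2 := by ring
    omega

/-- if `g` acts as multiplication by `c` then `g ^ k` acts as multiplication by `c ^ k` -/
theorem pow_mul_form {V F : Type*} [AddCommGroup V] [Field F] {R : Type*} [Semiring R]
    [Module R V] (e : V ≃+ F) (g : V ≃ₗ[R] V) (c : F) (h : ∀ v, e (g v) = c * e v) (k : ℕ) :
    ∀ v, e ((g ^ k) v) = c ^ k * e v := by
  induction k with
  | zero => intro v; simp
  | succ k ih =>
    intro v
    rw [pow_succ, LinearEquiv.mul_apply, ih, h, pow_succ, mul_assoc]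

theorem conjp_linear {p n : ℕ} [Fact p.Prime] (hn : 3 ≤ n) {V : Type u} [AddCommGroup V]
    [Module (ZMod p) V] [Finite V] (hV : Nat.card V = p ^ n) {Q : Type v} [Group Q] [Finite Q]
    [Group.IsSolvable Q] (hQp : (Nat.card Q).Coprime p)
    (ρ : Q →* (V ≃ₗ[ZMod p] V)) (hρ : Function.Injective ρ)
    (hT1 : ∀ v w : V, v ≠ 0 → w ≠ 0 → ∃ (q : Q) (c : ZMod p), ρ q v = c • w)
    (hT2 : ∀ U U' : Submodule (ZMod p) V, Nat.card U = p ^ 2 → Nat.card U' = p ^ 2 →
      ∃ q : Q, ∀ u ∈ U, ρ q u ∈ U') :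
    (n = 3 ∨ (n = 5 ∧ p = 2)) ∧
    ∃ e : V ≃+ GaloisField p n,
      (∀ q : Q, ∃ (a : GaloisField p n) (σ : GaloisField p n ≃+* GaloisField p n),
        ∀ v, e (ρ q v) = a * σ (e v)) ∧
      (p = 2 → Nat.card Q = n * (2 ^ n - 1) ∨
        (n = 3 ∧ Nat.card Q = 7 ∧ ∀ q : Q, ∃ a : GaloisField p n, ∀ v, e (ρ q v) = a * e v)) := by
  classical
  have hp : p.Prime := Fact.out
  haveI hfinLE : Finite (V ≃ₗ[ZMod p] V) := finite_linEquiv
  have hn0 : n ≠ 0 := by omega
  haveI : Nontrivial V := by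
    apply Finite.one_lt_card_iff_nontrivial.mp
    rw [hV]; exact Nat.one_lt_pow hn0 hp.one_lt
  -- the group generated by `Q` and the scalars
  obtain ⟨τ, hτ⟩ : ∃ τ : Q × (ZMod p)ˣ →* (V ≃ₗ[ZMod p] V),
      ∀ q z v, τ (q, z) v = (z : ZMod p) • ρ q v := by
    have hcomm : ∀ (q : Q) (z : (ZMod p)ˣ),
        Commute (ρ q) (DistribMulAction.toModuleAut (ZMod p) V z) := by
      intro q z
      apply LinearEquiv.ext
      intro v
      show ρ q (z • v) = z • ρ q v
      rw [Units.smul_def, Units.smul_def, map_smul]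
    refine ⟨MonoidHom.noncommCoprod ρ (DistribMulAction.toModuleAut (ZMod p) V) hcomm, ?_⟩
    intro q z v
    show ρ q (z • v) = _
    rw [Units.smul_def, map_smul]
  have hτ1 : ∀ q, τ (q, 1) = ρ q := by
    intro q
    apply LinearEquiv.ext
    intro v
    rw [hτ, Units.val_one, one_smul]
  obtain ⟨G1, hG1⟩ : ∃ G1 : Subgroup (V ≃ₗ[ZMod p] V), G1 = τ.range := ⟨_, rfl⟩
  have hmemG1 : ∀ x, τ x ∈ G1 := fun x => by rw [hG1]; exact ⟨x, rfl⟩
  haveI hG1sol : Group.IsSolvable G1 := by
    rw [hG1]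
    exact solvable_of_surjective τ.rangeRestrict_surjective
  have htrans : ∀ v w : V, v ≠ 0 → w ≠ 0 → ∃ g : G1, G1.subtype g v = w := by
    intro v w hv hw
    obtain ⟨q, c, hqc⟩ := hT1 v w hv hw
    have hc : c ≠ 0 := by
      rintro rfl
      rw [zero_smul] at hqc
      exact hv ((LinearEquiv.map_eq_zero_iff _).mp hqc)
    refine ⟨⟨τ (q, (Units.mk0 c hc)⁻¹), hmemG1 _⟩, ?_⟩
    show τ (q, (Units.mk0 c hc)⁻¹) v = w
    rw [hτ, hqc, smul_smul, Units.val_inv_eq_inv_val, Units.val_mk0, inv_mul_cancel₀ hc, one_smul]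
  have hmain := Cfsg.Agent.S3360.result p (V := V) (G := G1) hG1sol G1.subtype
    (Subgroup.subtype_injective G1) htrans
  -- lines
  obtain ⟨L, hLdef⟩ : ∃ L, L = Nat.card {U : Submodule (ZMod p) V // Nat.card U = p ^ 2} :=
    ⟨_, rfl⟩
  have hL : L * ((p ^ 2 - 1) * (p ^ 2 - p)) = (p ^ n - 1) * (p ^ n - p) := by
    rw [← hV, hLdef]; exact card_lines_mul
  have hRHSpos : 0 < (p ^ n - 1) * (p ^ n - p) := by
    have h1 : p ^ 3 ≤ p ^ n := Nat.pow_le_pow_right hp.pos hn
    have h2 : p ^ 3 = p * p ^ 2 := by ring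
    have h3 : 4 ≤ p ^ 2 := by nlinarith [hp.two_le]
    have h4 : p * 4 ≤ p * p ^ 2 := Nat.mul_le_mul_left _ h3
    have h5 := hp.two_le
    apply Nat.mul_pos <;> omega
  have hLpos : L ≠ 0 := by
    intro h0; rw [h0, zero_mul] at hL; omega
  obtain ⟨⟨U0, hU0⟩⟩ : Nonempty {U : Submodule (ZMod p) V // Nat.card U = p ^ 2} := by
    rw [hLdef] at hLpos
    exact (Nat.card_ne_zero.mp hLpos).1
  letI actS : MulAction (V ≃ₗ[ZMod p] V) (Set V) :=
    { smul := fun g S => (fun v => g v) '' S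
      one_smul := fun S => by
        show (fun v => (1 : V ≃ₗ[ZMod p] V) v) '' S = S
        simp
      mul_smul := fun g h S => by
        show (fun v => (g * h) v) '' S = (fun v => g v) '' ((fun v => h v) '' S)
        rw [Set.image_image]; rfl }
  have hsmul : ∀ (g : V ≃ₗ[ZMod p] V) (S : Set V), g • S = (fun v => g v) '' S := fun _ _ => rfl
  have himg : ∀ (g : V ≃ₗ[ZMod p] V) (U U' : Submodule (ZMod p) V), Nat.card U = Nat.card U' →
      (∀ u ∈ U, g u ∈ U') → g • (U : Set V) = (U' : Set V) := by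
    intro g U U' hc hsub
    rw [hsmul]
    refine Set.eq_of_subset_of_ncard_le ?_ ?_ (Set.toFinite _)
    · rintro _ ⟨u, hu, rfl⟩
      exact hsub u hu
    · rw [Set.ncard_image_of_injective _ g.injective, ← Nat.card_coe_set_eq,
        ← Nat.card_coe_set_eq]
      exact le_of_eq hc.symm
  have hinjU : Function.Injective
      (fun U : {U : Submodule (ZMod p) V // Nat.card U = p ^ 2} => (U.1 : Set V)) := by
    intro U U' h
    exact Subtype.ext (SetLike.coe_injective h)
  have horb : MulAction.orbit G1 (U0 : Set V) = Set.range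
      (fun U : {U : Submodule (ZMod p) V // Nat.card U = p ^ 2} => (U.1 : Set V)) := by
    ext S
    constructor
    · rintro ⟨g, rfl⟩
      refine ⟨⟨U0.map ((g : V ≃ₗ[ZMod p] V) : V →ₗ[ZMod p] V), ?_⟩, ?_⟩
      · rw [← hU0]
        exact Nat.card_congr ((g : V ≃ₗ[ZMod p] V).submoduleMap U0).toEquiv.symm
      · rfl
    · rintro ⟨⟨U, hU⟩, rfl⟩
      obtain ⟨q, hq⟩ := hT2 U0 U hU0 hU
      refine ⟨⟨τ (q, 1), hmemG1 _⟩, ?_⟩
      show τ (q, 1) • (U0 : Set V) = (U : Set V)
      apply himg _ _ _ (hU0.trans hU.symm)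
      intro u hu
      rw [hτ1]
      exact hq u hu
  have hidx := MulAction.index_stabilizer G1 (U0 : Set V)
  have horbcard : (MulAction.orbit G1 (U0 : Set V)).ncard = L := by
    rw [horb, ← Nat.card_coe_set_eq, hLdef]
    exact (Nat.card_congr (Equiv.ofInjective _ hinjU)).symm
  have hstab := Subgroup.card_mul_index (MulAction.stabilizer G1 (U0 : Set V))
  -- the scalars
  obtain ⟨ι, hι⟩ : ∃ ι : (ZMod p)ˣ →* G1, ∀ z v, (ι z : V ≃ₗ[ZMod p] V) v = (z : ZMod p) • v := by
    refine ⟨(τ.comp (MonoidHom.inr Q (ZMod p)ˣ)).codRestrict G1 (fun z => hmemG1 _), ?_⟩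
    intro z v
    show τ (1, z) v = _
    rw [hτ, map_one]
    rfl
  have hιinj : Function.Injective ι := by
    intro z z' hzz
    obtain ⟨v, hv⟩ := exists_ne (0 : V)
    have h1 : (z : ZMod p) • v = (z' : ZMod p) • v := by
      rw [← hι, ← hι, hzz]
    exact Units.ext (smul_left_injective (ZMod p) hv h1)
  have hιstab : ι.range ≤ MulAction.stabilizer G1 (U0 : Set V) := by
    rintro _ ⟨z, rfl⟩
    rw [MulAction.mem_stabilizer_iff]
    show (ι z : V ≃ₗ[ZMod p] V) • (U0 : Set V) = (U0 : Set V)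
    apply himg _ _ _ rfl
    intro u hu
    rw [hι]
    exact U0.smul_mem _ hu
  have hscdvd : (p - 1) ∣ Nat.card (MulAction.stabilizer G1 (U0 : Set V)) := by
    have h1 := Subgroup.card_dvd_of_le hιstab
    have h2 : Nat.card ι.range = p - 1 := by
      rw [← Nat.card_congr (MonoidHom.ofInjective hιinj).toEquiv, Nat.card_units, Nat.card_zmod]
    rwa [h2] at h1
  have hF1 : L * (p - 1) ∣ Nat.card G1 := by
    rw [← hstab, hidx, horbcard, mul_comm]
    exact Nat.mul_dvd_mul_right hscdvd L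
  have hF3 : Nat.card G1 ∣ Nat.card Q * (p - 1) := by
    have h := Subgroup.card_range_dvd τ
    rw [Nat.card_prod, Nat.card_units, Nat.card_zmod] at h
    rw [hG1]
    exact h
  have hF4 : Nat.card Q ∣ Nat.card G1 := by
    have hinj : Function.Injective
        ((τ.comp (MonoidHom.inl Q (ZMod p)ˣ)).codRestrict G1 (fun q => hmemG1 _)) := by
      intro q q' hqq
      have h1 : τ (q, 1) = τ (q', 1) := congrArg Subtype.val hqq
      rw [hτ1, hτ1] at h1
      exact hρ h1
    exact Subgroup.card_dvd_of_injective _ hinj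
  have hcopG1 : (Nat.card G1).Coprime p := by
    apply Nat.Coprime.coprime_dvd_left hF3
    apply Nat.Coprime.mul_left hQp
    rw [Nat.coprime_comm, Nat.Prime.coprime_iff_not_dvd hp]
    exact Nat.not_dvd_of_pos_of_lt (by have := hp.two_le; omega) (by have := hp.two_le; omega)
  rcases hmain with ⟨F, instF, fintF, e, he⟩ | hexc
  swap
  · -- the exceptional case
    exfalso
    rw [hV] at hexc
    obtain ⟨hp3, hn4⟩ := exc_card hp hn hexc
    subst hp3
    subst hn4
    have hV' : Nat.card V = 81 := by rw [hV]; norm_num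
    have hL' : L = 130 := by
      norm_num at hL
      omega
    rw [hL'] at hF1
    exact no_solvable_65 hV' G1 (Dvd.dvd.trans (by norm_num) hF1)
      (Dvd.dvd.trans (by norm_num) hF1)
  -- the semilinear case
  letI : Fintype (GaloisField p n) := Fintype.ofFinite _
  have hcardF : Fintype.card F = Fintype.card (GaloisField p n) := by
    rw [← Nat.card_eq_fintype_card, ← Nat.card_eq_fintype_card, GaloisField.card p n hn0, ← hV]
    exact (Nat.card_congr e.toEquiv).symm
  obtain ⟨r⟩ : Nonempty (F ≃+* GaloisField p n) := ⟨FiniteField.ringEquivOfCardEq hcardF⟩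
  obtain ⟨e', he'def⟩ : ∃ e' : V ≃+ GaloisField p n, ∀ v, e' v = r (e v) :=
    ⟨e.trans r.toAddEquiv, fun _ => rfl⟩
  have he' : ∀ g : G1, ∃ (a : GaloisField p n) (σ : GaloisField p n ≃+* GaloisField p n),
      ∀ v, e' ((g : V ≃ₗ[ZMod p] V) v) = a * σ (e' v) := by
    intro g
    obtain ⟨a, σ, h⟩ := he g
    refine ⟨r a, (r.symm.trans σ).trans r, fun v => ?_⟩
    rw [he'def, he'def]
    show r (e (G1.subtype g v)) = r a * r (σ (r.symm (r (e v))))
    rw [RingEquiv.symm_apply_apply, ← map_mul, h]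
  have hF2 : Nat.card G1 ∣ (p ^ n - 1) * n := by
    obtain ⟨κ0, hκ0⟩ : ∃ κ0 : (V ≃ₗ[ZMod p] V) →* Equiv.Perm (GaloisField p n),
        ∀ h x, κ0 h x = e' (h (e'.symm x)) := by
      refine ⟨{ toFun := fun h => (e'.symm.toEquiv.trans h.toEquiv).trans e'.toEquiv
                map_one' := by ext x; simp
                map_mul' := fun g h => by ext x; simp }, fun h x => rfl⟩
    have hmem : ∀ g : G1, (κ0.comp G1.subtype) g ∈ Cfsg.semiaffineGroup (GaloisField p n) := by
      intro g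
      obtain ⟨a, σ, h⟩ := he' g
      have ha : a ≠ 0 := by
        rintro rfl
        obtain ⟨v, hv⟩ := exists_ne (0 : V)
        have h1 := h v
        rw [zero_mul] at h1
        have h2 : (g : V ≃ₗ[ZMod p] V) v = 0 := (AddEquiv.map_eq_zero_iff e').mp h1
        exact hv ((LinearEquiv.map_eq_zero_iff _).mp h2)
      apply mem_semiaffineGroup_of _ a 0 σ ha
      intro x
      show κ0 (g : V ≃ₗ[ZMod p] V) x = _
      rw [hκ0, h, AddEquiv.apply_symm_apply, add_zero]
    have hκinj : Function.Injective ((κ0.comp G1.subtype).codRestrict _ hmem) := by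
      intro g g' hgg
      have h1 : ∀ x, κ0 (g : V ≃ₗ[ZMod p] V) x = κ0 (g' : V ≃ₗ[ZMod p] V) x := fun x => by
        have := congrArg
          (fun s : Cfsg.semiaffineGroup (GaloisField p n) => (s : Equiv.Perm _) x) hgg
        exact this
      apply Subtype.ext
      apply LinearEquiv.ext
      intro v
      have h2 := h1 (e' v)
      rw [hκ0, hκ0, AddEquiv.symm_apply_apply] at h2
      exact e'.injective h2
    have h1 := Subgroup.card_dvd_of_injective _ hκinj
    rw [card_semiaffineGroup, GaloisField.card p n hn0,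
      card_ringAut_of_card (GaloisField p n) hp (GaloisField.card p n hn0)] at h1
    have hcop : (Nat.card G1).Coprime (p ^ n) := Nat.Coprime.pow_right n hcopG1
    rw [show (p ^ n - 1) * p ^ n * n = p ^ n * ((p ^ n - 1) * n) by ring] at h1
    exact hcop.dvd_of_dvd_mul_left h1
  have hcase := conjp_arith hp hn hL (hF1.trans hF2)
  have hsemi : ∀ q : Q, ∃ (a : GaloisField p n) (σ : GaloisField p n ≃+* GaloisField p n),
      ∀ v, e' (ρ q v) = a * σ (e' v) := by
    intro q
    obtain ⟨a, σ, h⟩ := he' ⟨τ (q, 1), hmemG1 _⟩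
    refine ⟨a, σ, fun v => ?_⟩
    have := h v
    change e' (τ (q, 1) v) = a * σ (e' v) at this
    rw [hτ1] at this
    exact this
  refine ⟨hcase, e', hsemi, ?_⟩
  intro hp2
  subst hp2
  have hQG : Nat.card Q = Nat.card G1 := by
    apply Nat.dvd_antisymm hF4
    simpa using hF3
  have hF1' : L ∣ Nat.card Q := by
    rw [hQG]; simpa using hF1
  have hF2' : Nat.card Q ∣ (2 ^ n - 1) * n := by
    rw [hQG]; exact hF2
  rcases hcase with rfl | ⟨rfl, _⟩
  · have hL' : L = 7 := by
      norm_num at hL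
      omega
    rw [hL'] at hF1'
    obtain ⟨k, hk⟩ := hF1'
    rw [hk] at hF2'
    have hk3 : k ∣ 3 := by
      have : 7 * k ∣ 7 * 3 := by norm_num at hF2' ⊢; exact hF2'
      exact Nat.dvd_of_mul_dvd_mul_left (by norm_num) this
    rcases (Nat.dvd_prime (by norm_num)).mp hk3 with rfl | rfl
    · right
      refine ⟨rfl, by rw [hk], ?_⟩
      intro q
      obtain ⟨a, σ, h⟩ := hsemi q
      have hq7 : q ^ 7 = 1 := by
        have := pow_card_eq_one' (G := Q) (x := q)
        rw [hk] at this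
        simpa using this
      have hσ3 : σ ^ 3 = 1 := by
        have := pow_card_eq_one' (G := (GaloisField 2 3 ≃+* GaloisField 2 3)) (x := σ)
        rw [card_ringAut_of_card (GaloisField 2 3) hp (GaloisField.card 2 3 (by norm_num))] at this
        exact this
      have hσ3' : ∀ x, σ (σ (σ x)) = x := by
        intro x
        have := congrArg (fun t : GaloisField 2 3 ≃+* GaloisField 2 3 => t x) hσ3
        simpa [pow_succ] using this
      have h3 : ∀ v, e' ((ρ q ^ 3) v) = (a * σ a * σ (σ a)) * e' v := by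
        intro v
        have e1 : (ρ q ^ 3) v = ρ q (ρ q (ρ q v)) := by
          simp [pow_succ]
        rw [e1, h, h, h, map_mul, map_mul, map_mul, hσ3']
        ring
      have h15 := pow_mul_form e' (ρ q ^ 3) _ h3 5
      refine ⟨(a * σ a * σ (σ a)) ^ 5, fun v => ?_⟩
      have e2 : (ρ q ^ 3) ^ 5 = ρ q := by
        rw [← pow_mul, ← map_pow]
        congr 1
        calc q ^ (3 * 5) = (q ^ 7) ^ 2 * q := by group
          _ = q := by rw [hq7]; simp
      rw [← h15 v, e2]
    · left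
      rw [hk]
      norm_num
  · left
    have hL' : L = 155 := by
      norm_num at hL
      omega
    rw [hL'] at hF1'
    have h2 : Nat.card Q ∣ 155 := by
      norm_num at hF2' ⊢
      exact hF2'
    have := Nat.dvd_antisymm h2 hF1'
    rw [this]
    norm_num

end ConjP

end Cfsg.Agent.Helper12
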