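import Mathlib
import Cfsg.Agent.Helper12.ConjP

set_option autoImplicit false

/-!
# Groups with a normal elementary abelian Sylow subgroup whose subgroups of equal order are conjugate
-/

namespace Cfsg.Agent.Helper12

section ConjGrp

universe u

/-- an additive automorphism of a module over `ZMod p` is linear -/
def addEquivLin {p : ℕ} {V : Type u} [AddCommGroup V] [Module (ZMod p) V] (φ : V ≃+ V) :
    V ≃ₗ[ZMod p] V :=
  { φ with map_smul' := fun r x => ZMod.map_smul φ.toAddMonoidHom r x }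

/-- an abelian subgroup as a commutative group -/
@[reducible] def commGroupOfAbelian {Y : Type u} [Group Y] (W : Subgroup Y)
    (hWc : ∀ a ∈ W, ∀ b ∈ W, a * b = b * a) : CommGroup W :=
  { (inferInstance : Group W) with mul_comm := fun a b => Subtype.ext (hWc a a.2 b b.2) }

/-- an abelian group of exponent `p` embedded as a normal subgroup, seen as a module over `ZMod p`
with the conjugation action -/
theorem exists_module_data {p : ℕ} [Fact p.Prime] {Y : Type u} [Group Y] (A : Type u)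
    [CommGroup A] (hAp : ∀ a : A, a ^ p = 1) (j : A →* Y) (hj : Function.Injective j)
    (hnorm : ∀ (y : Y) (a : A), ∃ a' : A, j a' = y * j a * y⁻¹) :
    ∃ (V : Type u) (_ : AddCommGroup V) (_ : Module (ZMod p) V) (cw : V → Y)
      (ρY : Y →* (V ≃ₗ[ZMod p] V)),
      Function.Injective cw ∧ (∀ v v', cw (v + v') = cw v * cw v') ∧
      (∀ y, y ∈ j.range ↔ ∃ v, cw v = y) ∧ ∀ y v, cw (ρY y v) = y * cw v * y⁻¹ := by
  classical
  have hpV : ∀ v : Additive A, p • v = 0 := fun v =>
    congrArg Additive.ofMul (hAp (Additive.toMul v))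
  obtain ⟨instMod⟩ : Nonempty (Module (ZMod p) (Additive A)) := ⟨AddCommGroup.zmodModule hpV⟩
  choose c hc using hnorm
  have hc1 : ∀ a, c 1 a = a := fun a => hj (by rw [hc]; group)
  have hcmul : ∀ y y' a, c (y * y') a = c y (c y' a) := fun y y' a =>
    hj (by rw [hc, hc, hc]; group)
  have hcmap : ∀ y a b, c y (a * b) = c y a * c y b := fun y a b =>
    hj (by rw [hc, map_mul, map_mul, hc, hc]; group)
  let φ : Y → (Additive A ≃+ Additive A) := fun y =>
    { toFun := fun v => Additive.ofMul (c y (Additive.toMul v))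
      invFun := fun v => Additive.ofMul (c y⁻¹ (Additive.toMul v))
      left_inv := fun v => by
        show Additive.ofMul (c y⁻¹ (c y (Additive.toMul v))) = v
        rw [← hcmul, inv_mul_cancel, hc1]; rfl
      right_inv := fun v => by
        show Additive.ofMul (c y (c y⁻¹ (Additive.toMul v))) = v
        rw [← hcmul, mul_inv_cancel, hc1]; rfl
      map_add' := fun v v' => by
        show Additive.ofMul (c y (Additive.toMul v * Additive.toMul v')) =
          Additive.ofMul (c y (Additive.toMul v) * c y (Additive.toMul v'))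
        rw [hcmap] }
  refine ⟨Additive A, inferInstance, instMod, fun v => j (Additive.toMul v),
    { toFun := fun y => addEquivLin (φ y)
      map_one' := ?_
      map_mul' := ?_ }, ?_, ?_, ?_, ?_⟩
  · apply LinearEquiv.ext
    intro v
    show Additive.ofMul (c 1 (Additive.toMul v)) = v
    rw [hc1]; rfl
  · intro y y'
    apply LinearEquiv.ext
    intro v
    show Additive.ofMul (c (y * y') (Additive.toMul v)) =
      Additive.ofMul (c y (c y' (Additive.toMul v)))
    rw [hcmul]
  · intro v v' h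
    exact Additive.toMul.injective (hj h)
  · intro v v'
    exact map_mul j _ _
  · intro y
    constructor
    · rintro ⟨a, rfl⟩
      exact ⟨Additive.ofMul a, rfl⟩
    · rintro ⟨v, rfl⟩
      exact ⟨Additive.toMul v, rfl⟩
  · intro y v
    exact hc y (Additive.toMul v)

theorem conjp_group {p n : ℕ} [Fact p.Prime] (hn : 3 ≤ n) {Y : Type u} [Group Y] [Finite Y]
    [Group.IsSolvable Y] (W : Subgroup Y) (hWn : W.Normal)
    (hWc : ∀ a ∈ W, ∀ b ∈ W, a * b = b * a) (hWp : ∀ a ∈ W, a ^ p = 1)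
    (hWcard : Nat.card W = p ^ n) (hHall : (Nat.card W).Coprime W.index)
    (hZ : ∀ M : Subgroup Y, M.Normal → (Nat.card M).Coprime p → M = ⊥)
    (hT : ∀ A B : Subgroup Y, A ≤ W → B ≤ W → Nat.card A = Nat.card B →
      ∃ y : Y, ∀ a ∈ A, y * a * y⁻¹ ∈ B) :
    (n = 3 ∧ (∃ f : Y →* ↥(Cfsg.semiaffineGroup (GaloisField p 3)), Function.Injective f) ∧
      (p = 2 → Nonempty (Y ≃* Cfsg.semiaffineGroup (GaloisField 2 3)) ∨
               Nonempty (Y ≃* Cfsg.affineGroup (GaloisField 2 3)))) ∨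
    (n = 5 ∧ p = 2 ∧ Nonempty (Y ≃* Cfsg.semiaffineGroup (GaloisField 2 5))) := by
  classical
  have hp : p.Prime := Fact.out
  have hn0 : n ≠ 0 := by omega
  haveI := hWn
  -- a complement
  obtain ⟨Q, hQ⟩ := Subgroup.exists_right_complement'_of_coprime hHall
  have hQcard : Nat.card W * Nat.card Q = Nat.card Y := hQ.card_mul
  have hdec : ∀ y : Y, ∃ w ∈ W, ∃ q ∈ Q, y = w * q := by
    intro y
    obtain ⟨⟨w, q⟩, h⟩ := hQ.2 y
    exact ⟨w.1, w.2, q.1, q.2, h.symm⟩
  have hQidx : W.index = Nat.card Q := by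
    have h1 := Subgroup.card_mul_index W
    rw [← hQcard] at h1
    exact Nat.eq_of_mul_eq_mul_left Nat.card_pos h1
  have hQp : (Nat.card Q).Coprime p := by
    rw [← hQidx]
    rw [hWcard] at hHall
    exact (Nat.Coprime.coprime_dvd_left (dvd_pow_self p hn0) hHall).symm
  have hWQ : ∀ x, x ∈ W → x ∈ Q → x = 1 := by
    intro x hxW hxQ
    exact Subgroup.disjoint_def.mp hQ.disjoint hxW hxQ
  have hcore : Q.normalCore = ⊥ := by
    apply hZ _ (Subgroup.normalCore_normal Q)
    exact Nat.Coprime.coprime_dvd_left (Subgroup.card_dvd_of_le (Subgroup.normalCore_le Q)) hQp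
  have hcent : ∀ q ∈ Q, (∀ w ∈ W, q * w = w * q) → q = 1 := by
    intro q hq hqc
    have hmem : q ∈ Q.normalCore := by
      show ∀ b : Y, b * q * b⁻¹ ∈ Q
      intro y
      obtain ⟨w, hw, q', hq', rfl⟩ := hdec y
      have h1 : q' * q * q'⁻¹ ∈ Q := Q.mul_mem (Q.mul_mem hq' hq) (Q.inv_mem hq')
      have h2 : (q' * q * q'⁻¹) * w = w * (q' * q * q'⁻¹) := by
        have h3 : q'⁻¹ * w * q' ∈ W := by
          have := hWn.conj_mem w hw q'⁻¹
          simpa using this
        have h4 := hqc _ h3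
        calc q' * q * q'⁻¹ * w = q' * (q * (q'⁻¹ * w * q')) * q'⁻¹ := by group
          _ = q' * ((q'⁻¹ * w * q') * q) * q'⁻¹ := by rw [h4]
          _ = w * (q' * q * q'⁻¹) := by group
      have h5 : w * q' * q * (w * q')⁻¹ = q' * q * q'⁻¹ := by
        calc w * q' * q * (w * q')⁻¹ = w * (q' * q * q'⁻¹) * w⁻¹ := by group
          _ = (q' * q * q'⁻¹) * w * w⁻¹ := by rw [h2]
          _ = q' * q * q'⁻¹ := by group
      rw [h5]; exact h1
    rw [hcore, Subgroup.mem_bot] at hmem
    exact hmem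
  -- the module structure
  obtain ⟨V, instACG, instMod, cw, ρY, hcwinj, hcwadd, hcwrange, hcwρ⟩ :=
    @exists_module_data p _ Y _ (↥W) (commGroupOfAbelian W hWc)
      (fun a => Subtype.ext (hWp a a.2)) W.subtype W.subtype_injective
      (fun y a => ⟨⟨y * a * y⁻¹, hWn.conj_mem a a.2 y⟩, rfl⟩)
  have hcwW : ∀ v, cw v ∈ W := fun v => by
    obtain ⟨a, ha⟩ := (hcwrange (cw v)).mpr ⟨v, rfl⟩
    rw [← ha]
    exact a.2
  have hcwsurj : ∀ w ∈ W, ∃ v, cw v = w := fun w hw => (hcwrange w).mp ⟨⟨w, hw⟩, rfl⟩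
  have hcwzero : cw 0 = 1 := by
    have h := hcwadd 0 0
    rw [add_zero] at h
    exact mul_left_cancel (h.symm.trans (mul_one _).symm)
  have hcwneg : ∀ v, cw (-v) = (cw v)⁻¹ := fun v => by
    apply eq_inv_of_mul_eq_one_left
    rw [← hcwadd, neg_add_cancel, hcwzero]
  have hcwzsmul : ∀ (k : ℤ) v, cw (k • v) = cw v ^ k := fun k v => by
    let f : V →+ Additive Y :=
      { toFun := fun v => Additive.ofMul (cw v)
        map_zero' := congrArg Additive.ofMul hcwzero
        map_add' := fun v v' => congrArg Additive.ofMul (hcwadd v v') }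
    have h := map_zsmul f k v
    exact congrArg Additive.toMul h
  haveI : Finite V := Finite.of_injective cw hcwinj
  have hVcard : Nat.card V = p ^ n := by
    rw [← hWcard]
    apply Nat.card_congr
    refine Equiv.ofBijective (fun v : V => (⟨cw v, hcwW v⟩ : W)) ⟨?_, ?_⟩
    · intro v v' h
      exact hcwinj (congrArg Subtype.val h)
    · rintro ⟨w, hw⟩
      obtain ⟨v, hv⟩ := hcwsurj w hw
      exact ⟨v, Subtype.ext hv⟩
  haveI : Nontrivial V := by
    apply Finite.one_lt_card_iff_nontrivial.mp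
    rw [hVcard]; exact Nat.one_lt_pow hn0 hp.one_lt
  have hρW : ∀ w ∈ W, ∀ v, ρY w v = v := by
    intro w hw v
    apply hcwinj
    rw [hcwρ, hWc w hw (cw v) (hcwW v)]
    group
  have hYQ : ∀ y : Y, ∃ q : Q, ∀ v, ρY y v = ρY (q : Y) v := by
    intro y
    obtain ⟨w, hw, q, hq, rfl⟩ := hdec y
    refine ⟨⟨q, hq⟩, fun v => ?_⟩
    rw [map_mul, LinearEquiv.mul_apply, hρW w hw]
  have hρinj : Function.Injective (ρY.comp Q.subtype) := by
    rw [injective_iff_map_eq_one]
    intro q hq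
    apply Subtype.ext
    apply hcent q.1 q.2
    intro w hw
    obtain ⟨v, rfl⟩ := hcwsurj w hw
    have h1 : cw (ρY (q : Y) v) = cw v := by
      have h0 : ρY (q : Y) = 1 := hq
      rw [h0]; rfl
    rw [hcwρ] at h1
    calc (q : Y) * cw v = ((q : Y) * cw v * (q : Y)⁻¹) * q := by group
      _ = cw v * q := by rw [h1]
  have hT1 : ∀ v w : V, v ≠ 0 → w ≠ 0 →
      ∃ (q : Q) (c : ZMod p), (ρY.comp Q.subtype) q v = c • w := by
    intro v w hv hw
    have hcv1 : cw v ≠ 1 := fun h => hv (hcwinj (h.trans hcwzero.symm))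
    have hcw1 : cw w ≠ 1 := fun h => hw (hcwinj (h.trans hcwzero.symm))
    have hov : orderOf (cw v) = p := orderOf_eq_prime (hWp _ (hcwW v)) hcv1
    have how : orderOf (cw w) = p := orderOf_eq_prime (hWp _ (hcwW w)) hcw1
    obtain ⟨y, hy⟩ := hT (Subgroup.zpowers (cw v)) (Subgroup.zpowers (cw w))
      (by rw [Subgroup.zpowers_le]; exact hcwW v) (by rw [Subgroup.zpowers_le]; exact hcwW w)
      (by rw [Nat.card_zpowers, Nat.card_zpowers, hov, how])
    obtain ⟨k, hk⟩ := Subgroup.mem_zpowers_iff.mp (hy (cw v) (Subgroup.mem_zpowers _))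
    obtain ⟨q, hq⟩ := hYQ y
    refine ⟨q, (k : ZMod p), ?_⟩
    show ρY (q : Y) v = _
    rw [← hq v, Int.cast_smul_eq_zsmul]
    apply hcwinj
    rw [hcwρ, hcwzsmul]
    exact hk.symm
  have hT2 : ∀ U U' : Submodule (ZMod p) (V), Nat.card U = p ^ 2 →
      Nat.card U' = p ^ 2 → ∃ q : Q, ∀ u ∈ U, (ρY.comp Q.subtype) q u ∈ U' := by
    intro U U' hU hU'
    have hsub : ∀ U : Submodule (ZMod p) (V), ∃ A : Subgroup Y,
        (A : Set Y) = cw '' (U : Set (V)) := by
      intro U
      refine ⟨{ carrier := cw '' (U : Set (V))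
                mul_mem' := ?_
                one_mem' := ?_
                inv_mem' := ?_ }, rfl⟩
      · rintro _ _ ⟨u, hu, rfl⟩ ⟨u', hu', rfl⟩
        exact ⟨u + u', U.add_mem hu hu', hcwadd u u'⟩
      · exact ⟨0, U.zero_mem, hcwzero⟩
      · rintro _ ⟨u, hu, rfl⟩
        exact ⟨-u, U.neg_mem hu, hcwneg u⟩
    have hcardS : ∀ (A : Subgroup Y) (U : Submodule (ZMod p) (V)),
        (A : Set Y) = cw '' (U : Set (V)) → Nat.card A = Nat.card U := by
      intro A U hA
      have h1 : Nat.card A = (A : Set Y).ncard := Nat.card_coe_set_eq (A : Set Y)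
      have h2 : Nat.card U = (U : Set (V)).ncard :=
        Nat.card_coe_set_eq (U : Set (V))
      rw [h1, h2, hA, Set.ncard_image_of_injective _ hcwinj]
    have hmemS : ∀ (A : Subgroup Y) (U : Submodule (ZMod p) (V)),
        (A : Set Y) = cw '' (U : Set (V)) → ∀ y, y ∈ A ↔ ∃ u ∈ U, cw u = y := by
      intro A U hA y
      rw [← SetLike.mem_coe, hA]; rfl
    obtain ⟨A, hA⟩ := hsub U
    obtain ⟨B, hB⟩ := hsub U'
    have hAle : A ≤ W := fun y hy => by
      obtain ⟨u, _, rfl⟩ := (hmemS A U hA y).mp hy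
      exact hcwW u
    have hBle : B ≤ W := fun y hy => by
      obtain ⟨u, _, rfl⟩ := (hmemS B U' hB y).mp hy
      exact hcwW u
    obtain ⟨y, hy⟩ := hT A B hAle hBle (by rw [hcardS A U hA, hcardS B U' hB, hU, hU'])
    obtain ⟨q, hq⟩ := hYQ y
    refine ⟨q, fun u hu => ?_⟩
    show ρY (q : Y) u ∈ U'
    rw [← hq u]
    have h1 : y * cw u * y⁻¹ ∈ B := hy _ ((hmemS A U hA _).mpr ⟨u, hu, rfl⟩)
    obtain ⟨u', hu', h2⟩ := (hmemS B U' hB _).mp h1
    rw [← hcwρ] at h2
    rw [← hcwinj h2]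
    exact hu'
  obtain ⟨hcase, e, hsemi, h2⟩ :=
    conjp_linear hn hVcard hQp (ρY.comp Q.subtype) hρinj hT1 hT2
  -- the coset action
  have hβ0 : Function.Bijective (fun v : V => (QuotientGroup.mk (cw v) : Y ⧸ Q)) := by
    constructor
    · intro v v' h
      have h1 : (cw v)⁻¹ * cw v' ∈ Q := QuotientGroup.eq.mp h
      have h2 : (cw v)⁻¹ * cw v' ∈ W := W.mul_mem (W.inv_mem (hcwW v)) (hcwW v')
      have h3 := hWQ _ h2 h1
      exact hcwinj (inv_mul_eq_one.mp h3)
    · intro c
      obtain ⟨y, rfl⟩ := QuotientGroup.mk_surjective c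
      obtain ⟨w, hw, q, hq, rfl⟩ := hdec y
      obtain ⟨v, rfl⟩ := hcwsurj w hw
      exact ⟨v, (QuotientGroup.mk_mul_of_mem _ hq).symm⟩
  obtain ⟨β, hβ, hβsymm⟩ : ∃ β : Y ⧸ Q ≃ GaloisField p n,
      (∀ v, β (QuotientGroup.mk (cw v)) = e v) ∧
      (∀ x, β.symm x = QuotientGroup.mk (cw (e.symm x))) := by
    refine ⟨(Equiv.ofBijective _ hβ0).symm.trans e.toEquiv, ?_, ?_⟩
    · intro v
      show e ((Equiv.ofBijective _ hβ0).symm ((Equiv.ofBijective _ hβ0) v)) = e v
      rw [Equiv.symm_apply_apply]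
    · intro x
      rfl
  obtain ⟨Φ, hΦ⟩ : ∃ Φ : Y →* Equiv.Perm (GaloisField p n),
      ∀ y x, Φ y x = β (y • β.symm x) :=
    ⟨(β.permCongrHom.toMonoidHom).comp (MulAction.toPermHom Y (Y ⧸ Q)), fun _ _ => rfl⟩
  have hΦform : ∀ (v0 : V) (q : Y), q ∈ Q → ∀ x,
      Φ (cw v0 * q) x = e v0 + e (ρY q (e.symm x)) := by
    intro v0 q hq x
    rw [hΦ, hβsymm, ← map_add, ← hβ]
    congr 1
    rw [MulAction.Quotient.smul_mk, hcwadd, hcwρ]
    have h1 : cw v0 * q * cw (e.symm x) = cw v0 * (q * cw (e.symm x) * q⁻¹) * q := by group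
    rw [smul_eq_mul, h1]
    exact QuotientGroup.mk_mul_of_mem _ hq
  have hΦinj : Function.Injective Φ := by
    have hker : (MulAction.toPermHom Y (Y ⧸ Q)).ker = ⊥ := by
      rw [← Subgroup.normalCore_eq_ker, hcore]
    have h1 : Function.Injective (MulAction.toPermHom Y (Y ⧸ Q)) :=
      (MonoidHom.ker_eq_bot_iff _).mp hker
    intro y y' hyy
    apply h1
    apply β.permCongrHom.injective
    apply Equiv.ext
    intro x
    have := congrArg (fun t : Equiv.Perm (GaloisField p n) => t x) hyy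
    rw [hΦ, hΦ] at this
    exact this
  have hmemSA : ∀ y, Φ y ∈ Cfsg.semiaffineGroup (GaloisField p n) := by
    intro y
    obtain ⟨w, hw, q, hq, rfl⟩ := hdec y
    obtain ⟨v0, rfl⟩ := hcwsurj w hw
    obtain ⟨a, σ, h⟩ := hsemi ⟨q, hq⟩
    have ha : a ≠ 0 := by
      rintro rfl
      obtain ⟨v, hv⟩ := exists_ne (0 : V)
      have h1 := h v
      rw [zero_mul] at h1
      have h2 := (AddEquiv.map_eq_zero_iff e).mp h1
      exact hv ((LinearEquiv.map_eq_zero_iff _).mp h2)
    apply mem_semiaffineGroup_of _ a (e v0) σ ha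
    intro x
    rw [hΦform v0 q hq x, add_comm]
    congr 1
    have h3 := h (e.symm x)
    rw [AddEquiv.apply_symm_apply] at h3
    exact h3
  have hYcard : Nat.card Y = p ^ n * Nat.card Q := by rw [← hQcard, hWcard]
  have hcardSA : Nat.card (Cfsg.semiaffineGroup (GaloisField p n)) = (p ^ n - 1) * p ^ n * n := by
    rw [card_semiaffineGroup, GaloisField.card p n hn0,
      card_ringAut_of_card (GaloisField p n) hp (GaloisField.card p n hn0)]
  have hcardA : Nat.card (Cfsg.affineGroup (GaloisField p n)) = (p ^ n - 1) * p ^ n := by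
    rw [card_affineGroup, GaloisField.card p n hn0]
  have hΦsinj : Function.Injective (Φ.codRestrict _ hmemSA) := by
    intro y y' hyy
    exact hΦinj (congrArg Subtype.val hyy)
  have hiso : Nat.card Q = (p ^ n - 1) * n →
      Nonempty (Y ≃* Cfsg.semiaffineGroup (GaloisField p n)) := by
    intro hQc
    have hbij : Function.Bijective (Φ.codRestrict _ hmemSA) := by
      rw [Nat.bijective_iff_injective_and_card]
      refine ⟨hΦsinj, ?_⟩
      rw [hYcard, hcardSA, hQc]
      ring
    exact ⟨MulEquiv.ofBijective _ hbij⟩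
  have haff : (∀ q : Q, ∃ a : GaloisField p n, ∀ v, e ((ρY.comp Q.subtype) q v) = a * e v) →
      Nat.card Q = p ^ n - 1 → Nonempty (Y ≃* Cfsg.affineGroup (GaloisField p n)) := by
    intro hlin hQc
    have hmemA : ∀ y, Φ y ∈ Cfsg.affineGroup (GaloisField p n) := by
      intro y
      obtain ⟨w, hw, q, hq, rfl⟩ := hdec y
      obtain ⟨v0, rfl⟩ := hcwsurj w hw
      obtain ⟨a, h⟩ := hlin ⟨q, hq⟩
      have ha : a ≠ 0 := by
        rintro rfl
        obtain ⟨v, hv⟩ := exists_ne (0 : V)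
        have h1 := h v
        rw [zero_mul] at h1
        have h2 := (AddEquiv.map_eq_zero_iff e).mp h1
        exact hv ((LinearEquiv.map_eq_zero_iff _).mp h2)
      apply mem_affineGroup_of _ a (e v0) ha
      intro x
      rw [hΦform v0 q hq x, add_comm]
      congr 1
      have h3 := h (e.symm x)
      rw [AddEquiv.apply_symm_apply] at h3
      exact h3
    have hbij : Function.Bijective (Φ.codRestrict _ hmemA) := by
      rw [Nat.bijective_iff_injective_and_card]
      refine ⟨fun y y' hyy => hΦinj (congrArg Subtype.val hyy), ?_⟩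
      rw [hYcard, hcardA, hQc]
      ring
    exact ⟨MulEquiv.ofBijective _ hbij⟩
  rcases hcase with rfl | ⟨rfl, rfl⟩
  · left
    refine ⟨rfl, ⟨Φ.codRestrict _ hmemSA, hΦsinj⟩, ?_⟩
    intro hp2
    subst hp2
    rcases h2 rfl with hQ21 | ⟨_, hQ7, hlin⟩
    · left
      exact hiso (hQ21.trans (by norm_num))
    · right
      exact haff hlin (hQ7.trans (by norm_num))
  · right
    refine ⟨rfl, rfl, ?_⟩
    rcases h2 rfl with hQ | ⟨h3, _⟩
    · exact hiso (hQ.trans (by norm_num))
    · exact absurd h3 (by norm_num)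

end ConjGrp

end Cfsg.Agent.Helper12
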