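import Mathlib

set_option autoImplicit false

/-!
# Normal subgroups of index two

Tools producing a normal subgroup of index two: cyclic quotients of even order, cyclic Sylow
`2`-subgroups (via the transfer), sign characters, and semilinear groups over a finite field.
-/

namespace Cfsg.Agent.Helper12

/-- A homomorphism whose range is cyclic of even order gives a normal subgroup of index two. -/
theorem exists_index_two_of_cyclic_range {G Q : Type*} [Group G] [Group Q] (f : G →* Q)
    [Finite f.range] (hc : IsCyclic f.range) (heven : 2 ∣ Nat.card f.range) :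
    ∃ N : Subgroup G, N.Normal ∧ N.index = 2 := by
  obtain ⟨g, hg⟩ := IsCyclic.exists_ofOrder_eq_natCard (α := f.range)
  have hn : 0 < Nat.card f.range := Nat.card_pos
  have ho : orderOf (g ^ 2) = Nat.card f.range / 2 := by
    rw [orderOf_pow, hg, Nat.gcd_eq_right heven]
  have hM : Nat.card (Subgroup.zpowers (g ^ 2)) = Nat.card f.range / 2 := by
    rw [Nat.card_zpowers, ho]
  have hidx : (Subgroup.zpowers (g ^ 2)).index = 2 := by
    have h1 := Subgroup.card_mul_index (Subgroup.zpowers (g ^ 2))
    rw [hM] at h1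
    obtain ⟨k, hk⟩ := heven
    rw [hk] at h1 hn
    have h2 : 2 * k / 2 = k := by omega
    rw [h2] at h1
    have hk0 : 0 < k := by omega
    exact Nat.eq_of_mul_eq_mul_left hk0 (by rw [h1, mul_comm])
  have hMn := Subgroup.normal_of_index_eq_two hidx
  refine ⟨(Subgroup.zpowers (g ^ 2)).comap f.rangeRestrict, hMn.comap _, ?_⟩
  rw [Subgroup.index_comap_of_surjective _ f.rangeRestrict_surjective]
  exact hidx

/-- A finite group of even order with a cyclic Sylow `2`-subgroup has a normal subgroup of
index two. -/
theorem exists_index_two_of_cyclic_sylow {G : Type*} [Group G] [Finite G]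
    (heven : 2 ∣ Nat.card G) (T : Sylow 2 G) (hcyc : IsCyclic (T : Subgroup G)) :
    ∃ N : Subgroup G, N.Normal ∧ N.index = 2 := by
  haveI : Fact (Nat.Prime 2) := ⟨Nat.prime_two⟩
  have hmf : (Nat.card G).minFac = 2 := (Nat.minFac_eq_two_iff _).mpr heven
  have hNC := IsCyclic.normalizer_le_centralizer hmf hcyc
  have hcomp := MonoidHom.ker_transferSylow_isComplement' T hNC
  have hidx : (MonoidHom.transferSylow T hNC).ker.index = Nat.card (T : Subgroup G) :=
    hcomp.symm.index_eq_card
  have hT2 : 2 ∣ Nat.card (T : Subgroup G) := by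
    have h1 := Subgroup.card_mul_index (T : Subgroup G)
    have h2 : ¬ 2 ∣ (T : Subgroup G).index := T.not_dvd_index
    rw [← h1] at heven
    exact ((Nat.Prime.dvd_mul Nat.prime_two).mp heven).resolve_right h2
  haveI := hcyc
  apply exists_index_two_of_cyclic_range (MonoidHom.transferSylow T hNC) inferInstance
  rw [← Subgroup.index_ker, hidx]
  exact hT2

/-- The kernel of a sign character taking the value `-1` has index two. -/
theorem index_two_ker_of_neg_one {G : Type*} [Group G] (χ : G →* ℤˣ) (g : G) (hg : χ g = -1) :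
    χ.ker.index = 2 := by
  have hs : Function.Surjective χ := by
    intro x
    rcases Int.units_eq_one_or x with rfl | rfl
    · exact ⟨1, map_one χ⟩
    · exact ⟨g, hg⟩
  rw [Subgroup.index_ker, MonoidHom.range_eq_top.mpr hs, Subgroup.card_top,
    Nat.card_eq_fintype_card, Fintype.card_units_int]

/-- A normal subgroup whose index is a positive power of two lies in a normal subgroup of
index two. -/
theorem exists_index_two_of_normal_index_pow {G : Type*} [Group G] [Finite G] (K : Subgroup G)
    [K.Normal] (n : ℕ) (hK : K.index = 2 ^ (n + 1)) :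
    ∃ N : Subgroup G, N.Normal ∧ N.index = 2 := by
  haveI : Fact (Nat.Prime 2) := ⟨Nat.prime_two⟩
  have hcard : Nat.card (G ⧸ K) = 2 ^ (n + 1) := by rw [← hK]; rfl
  obtain ⟨M, hM⟩ := Sylow.exists_subgroup_card_pow_prime (G := G ⧸ K) 2
    (n := n) (by rw [hcard]; exact pow_dvd_pow 2 (Nat.le_succ n))
  have hidx : M.index = 2 := by
    have h1 := Subgroup.card_mul_index M
    rw [hM, hcard, pow_succ] at h1
    exact Nat.eq_of_mul_eq_mul_left (pow_pos (by norm_num) n) h1
  have hMn := Subgroup.normal_of_index_eq_two hidx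
  refine ⟨M.comap (QuotientGroup.mk' K), hMn.comap _, ?_⟩
  rw [Subgroup.index_comap_of_surjective _ (QuotientGroup.mk'_surjective K)]
  exact hidx

/-- The ring automorphisms of a finite field form a cyclic group. -/
theorem isCyclic_ringAut_of_finite_field (F : Type*) [Field F] [Finite F] :
    IsCyclic (F ≃+* F) := by
  obtain ⟨p, hp⟩ := CharP.exists F
  haveI := hp
  haveI : Fact p.Prime := ⟨CharP.char_is_prime F p⟩
  letI : Algebra (ZMod p) F := ZMod.algebra F p
  let φ : (F ≃ₐ[ZMod p] F) →* (F ≃+* F) :=
    { toFun := fun σ => σ.toRingEquiv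
      map_one' := rfl
      map_mul' := fun _ _ => rfl }
  apply isCyclic_of_surjective φ
  intro σ
  refine ⟨AlgEquiv.ofRingEquiv (f := σ) ?_, ?_⟩
  · intro x
    have h : (σ : F →+* F).comp (algebraMap (ZMod p) F) = algebraMap (ZMod p) F :=
      Subsingleton.elim _ _
    exact RingHom.congr_fun h x
  · ext x
    rfl

/-- A finite group of even order acting faithfully on a finite field by maps `x ↦ a * σ x`
(`σ` a field automorphism) has a normal subgroup of index two. -/
theorem exists_index_two_of_semilinear {F : Type*} [Field F] [Finite F] {G : Type*} [Group G]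
    [Finite G] (act : G → F → F) (hone : ∀ x, act 1 x = x)
    (hmul : ∀ g g' x, act (g * g') x = act g (act g' x))
    (hinj : ∀ g g', (∀ x, act g x = act g' x) → g = g')
    (hsemi : ∀ g, ∃ (a : F) (σ : F ≃+* F), ∀ x, act g x = a * σ x)
    (heven : 2 ∣ Nat.card G) : ∃ N : Subgroup G, N.Normal ∧ N.index = 2 := by
  classical
  choose a σ hσ using hsemi
  have ha1 : ∀ g, a g = act g 1 := fun g => by rw [hσ g 1, map_one, mul_one]
  have ha0 : ∀ g, a g ≠ 0 := by
    intro g h0
    have h1 : act g (act g⁻¹ 1) = 1 := by rw [← hmul, mul_inv_cancel, hone]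
    rw [hσ g, h0, zero_mul] at h1
    exact zero_ne_one h1
  have hσmul : ∀ g g', σ (g * g') = σ g * σ g' := by
    intro g g'
    have hx : ∀ x, a (g * g') * σ (g * g') x = a g * σ g (a g') * σ g (σ g' x) := by
      intro x
      rw [← hσ (g * g') x, hmul, hσ g' x, hσ g, map_mul, mul_assoc]
    have ha : a (g * g') = a g * σ g (a g') := by
      have h := hx 1
      rw [map_one, mul_one, map_one, map_one, mul_one] at h
      exact h
    ext x
    have h2 := hx x
    rw [ha] at h2
    have hne : a g * σ g (a g') ≠ 0 :=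
      mul_ne_zero (ha0 g) ((map_ne_zero_iff (σ g) (σ g).injective).mpr (ha0 g'))
    exact mul_left_cancel₀ hne h2
  let Φ : G →* (F ≃+* F) := MonoidHom.mk' σ hσmul
  have hΦ : ∀ g, Φ g = σ g := fun _ => rfl
  haveI : IsCyclic (F ≃+* F) := isCyclic_ringAut_of_finite_field F
  haveI : Finite (F ≃+* F) := Finite.of_injective (fun s : F ≃+* F => (s : F → F))
    DFunLike.coe_injective
  by_cases h2 : 2 ∣ Nat.card Φ.range
  · exact exists_index_two_of_cyclic_range Φ inferInstance h2
  -- the kernel is cyclic
  have hker : ∀ c : Φ.ker, ∀ x, σ (c : G) x = x := by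
    intro c x
    have h1 : Φ (c : G) = 1 := c.2
    rw [hΦ] at h1
    rw [h1]
    rfl
  let f : Φ.ker →* F :=
    { toFun := fun c => a (c : G)
      map_one' := by
        show a ((1 : Φ.ker) : G) = 1
        rw [ha1, Subgroup.coe_one, hone]
      map_mul' := by
        intro c c'
        show a ((c * c' : Φ.ker) : G) = a (c : G) * a (c' : G)
        rw [ha1, Subgroup.coe_mul, hmul, ← ha1, hσ (c : G), hker c] }
  have hf : Function.Injective f := by
    intro c c' hcc
    apply Subtype.ext
    apply hinj
    intro x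
    have h1 : a (c : G) = a (c' : G) := hcc
    rw [hσ, hσ, hker c, hker c', h1]
  haveI : IsCyclic Φ.ker := isCyclic_of_subgroup_isDomain f hf
  obtain ⟨T⟩ : Nonempty (Sylow 2 G) := inferInstance
  have hTle : (T : Subgroup G) ≤ Φ.ker := by
    intro t ht
    rw [MonoidHom.mem_ker]
    obtain ⟨k, hk⟩ := T.isPGroup' ⟨t, ht⟩
    have hk' : t ^ (2 ^ k) = 1 := by
      have h := congrArg Subtype.val hk
      simpa using h
    have h1 : Φ t ^ (2 ^ k) = 1 := by rw [← map_pow, hk', map_one]
    have h3 : Φ t ^ Nat.card Φ.range = 1 := by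
      have h := pow_card_eq_one' (G := Φ.range) (x := ⟨Φ t, t, rfl⟩)
      have h' := congrArg Subtype.val h
      simpa using h'
    have hcop : Nat.Coprime (2 ^ k) (Nat.card Φ.range) :=
      Nat.Coprime.pow_left k ((Nat.Prime.coprime_iff_not_dvd Nat.prime_two).mpr h2)
    have h4 := pow_gcd_eq_one.mpr ⟨h1, h3⟩
    rw [Nat.Coprime.gcd_eq_one hcop, pow_one] at h4
    exact h4
  have hTc : IsCyclic (T : Subgroup G) := by
    have e := Subgroup.subgroupOfEquivOfLe hTle
    exact isCyclic_of_surjective e.toMonoidHom e.surjective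
  exact exists_index_two_of_cyclic_sylow heven T hTc

end Cfsg.Agent.Helper12
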