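import Mathlib

/-!
# Counting with an involutory automorphism having few fixed points (helper12)

Abstract tools for the two-point stabiliser `H` of a sharply 3-transitive group and the
automorphism `φ` induced by an element interchanging the two points.
-/

set_option autoImplicit false

namespace Cfsg.Agent.Helper12

section KTCount

universe u v

/-- The counting lemma: an involutory automorphism `φ` with at most two fixed points, inverting
at most two elements "of order 6", cannot leave invariant a subgroup `M` containing a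
non-commutative set `Q` with `2|Q| + 8 ≤ |M|` such that the elements of `M` outside `Q` have
order `3` or `6`. -/
theorem cnt_false {H : Type u} [Group H] [Finite H] (φ : H →* H) (hφ2 : ∀ h, φ (φ h) = h)
    (hfix : Set.ncard {h : H | φ h = h} ≤ 2)
    (hB : Set.ncard {g : H | φ g = g⁻¹ ∧ g ^ 6 = 1 ∧ g ^ 3 ≠ 1 ∧ g ^ 2 ≠ 1} ≤ 2)
    (z : H) (hzc : ∀ h, z * h = h * z) (hz2 : z ^ 2 = 1) (hz1 : z ≠ 1) (hφz : φ z = z)
    (M : Subgroup H) (Q : Set H) (hMφ : ∀ h ∈ M, φ h ∈ M)
    (hQna : ∃ x ∈ Q, ∃ y ∈ Q, x * y ∈ Q ∧ x * y ≠ y * x)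
    (hcard : 2 * Q.ncard + 8 ≤ Nat.card M)
    (hord : ∀ g ∈ M, g ∉ Q → (g ^ 3 = 1 ∧ g ≠ 1) ∨ (g ^ 6 = 1 ∧ g ^ 3 ≠ 1 ∧ g ^ 2 ≠ 1)) :
    False := by
  classical
  haveI : Fintype H := Fintype.ofFinite H
  set O6 : Set H := {g : H | φ g = g⁻¹ ∧ g ^ 6 = 1 ∧ g ^ 3 ≠ 1 ∧ g ^ 2 ≠ 1} with hO6
  set O3 : Set H := {g : H | φ g = g⁻¹ ∧ g ^ 3 = 1 ∧ g ≠ 1} with hO3
  have hzinv : z⁻¹ = z := by
    rw [inv_eq_iff_mul_eq_one, ← pow_two]; exact hz2
  have hz6 : z ^ 6 = 1 := by
    rw [show (6 : ℕ) = 2 * 3 from rfl, pow_mul, hz2, one_pow]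
  have hz3 : z ^ 3 = z := by
    rw [pow_succ, hz2, one_mul]
  have h36 : O3.ncard ≤ O6.ncard := by
    apply Set.ncard_le_ncard_of_injOn (fun g => z * g)
    · rintro g ⟨hg1, hg3, hg1'⟩
      have hcomm : Commute z g := hzc g
      have hg6 : g ^ 6 = 1 := by
        rw [show (6 : ℕ) = 3 * 2 from rfl, pow_mul, hg3, one_pow]
      refine ⟨?_, ?_, ?_, ?_⟩
      · show φ (z * g) = (z * g)⁻¹
        rw [map_mul, hφz, hg1, mul_inv_rev, hzinv]
        exact hzc g⁻¹
      · show (z * g) ^ 6 = 1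
        rw [hcomm.mul_pow, hz6, hg6, one_mul]
      · show (z * g) ^ 3 ≠ 1
        rw [hcomm.mul_pow, hg3, mul_one, hz3]; exact hz1
      · show (z * g) ^ 2 ≠ 1
        rw [hcomm.mul_pow, hz2, one_mul]
        intro h2
        apply hg1'
        have h3 : g ^ 3 = g := by rw [pow_succ, h2, one_mul]
        rw [hg3] at h3
        exact h3.symm
    · intro g _ g' _ h
      exact mul_left_cancel h
  have hO3' : O3.ncard ≤ 2 := le_trans h36 hB
  set IM : Set H := {g : H | g ∈ M ∧ φ g = g⁻¹} with hIM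
  have hM2 : Nat.card M ≤ 2 * IM.ncard := by
    let sM : Finset H := Finset.univ.filter (fun g => g ∈ M)
    let sFix : Finset H := Finset.univ.filter (fun h => φ h = h)
    let sI : Finset H := Finset.univ.filter (fun g => g ∈ M ∧ φ g = g⁻¹)
    have hsM : Nat.card M = sM.card := by
      rw [← Set.ncard_coe_finset, ← Nat.card_coe_set_eq]
      apply Nat.card_congr
      exact Equiv.subtypeEquivRight (fun x => by simp [sM])
    have hsFix : sFix.card ≤ 2 := by
      have h1 : ({h : H | φ h = h} : Set H) = ↑sFix := by ext x; simp [sFix]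
      rw [h1, Set.ncard_coe_finset] at hfix
      exact hfix
    have hsI : IM.ncard = sI.card := by
      have h1 : IM = ↑sI := by ext x; simp [sI, hIM]
      rw [h1, Set.ncard_coe_finset]
    have hfib : ∀ a ∈ sM.image (fun g => φ g * g⁻¹),
        (sM.filter (fun x => φ x * x⁻¹ = a)).card ≤ 2 := by
      intro a ha
      obtain ⟨g', hg', rfl⟩ := Finset.mem_image.mp ha
      have hsub : sM.filter (fun x => φ x * x⁻¹ = φ g' * g'⁻¹) ⊆
          sFix.image (fun h => g' * h) := by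
        intro x hx
        rw [Finset.mem_filter] at hx
        rw [Finset.mem_image]
        refine ⟨g'⁻¹ * x, ?_, mul_inv_cancel_left g' x⟩
        simp only [sFix, Finset.mem_filter, Finset.mem_univ, true_and]
        have h2 : φ x = φ g' * g'⁻¹ * x := by rw [← hx.2]; group
        rw [map_mul, map_inv, h2]; group
      calc (sM.filter (fun x => φ x * x⁻¹ = φ g' * g'⁻¹)).card
          ≤ (sFix.image (fun h => g' * h)).card := Finset.card_le_card hsub
        _ ≤ sFix.card := Finset.card_image_le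
        _ ≤ 2 := hsFix
    have h1 := Finset.card_le_mul_card_image sM 2 hfib
    have h2 : sM.image (fun g => φ g * g⁻¹) ⊆ sI := by
      intro a ha
      obtain ⟨g, hg, rfl⟩ := Finset.mem_image.mp ha
      simp only [sM, Finset.mem_filter, Finset.mem_univ, true_and] at hg
      simp only [sI, Finset.mem_filter, Finset.mem_univ, true_and]
      refine ⟨M.mul_mem (hMφ g hg) (M.inv_mem hg), ?_⟩
      rw [map_mul, map_inv, hφ2, mul_inv_rev, inv_inv]
    have h3 := Finset.card_le_card h2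
    rw [hsM, hsI]
    omega
  have hsub : IM ⊆ (IM ∩ Q) ∪ (O3 ∪ O6) := by
    rintro g ⟨hgM, hgφ⟩
    by_cases hgQ : g ∈ Q
    · exact Or.inl ⟨⟨hgM, hgφ⟩, hgQ⟩
    · rcases hord g hgM hgQ with ⟨h3, h1⟩ | ⟨h6, h3, h2⟩
      · exact Or.inr (Or.inl ⟨hgφ, h3, h1⟩)
      · exact Or.inr (Or.inr ⟨hgφ, h6, h3, h2⟩)
  have hc1 : IM.ncard ≤ (IM ∩ Q).ncard + (O3.ncard + O6.ncard) := by
    have h1 : IM.ncard ≤ ((IM ∩ Q) ∪ (O3 ∪ O6)).ncard := Set.ncard_le_ncard hsub
    have h2 := Set.ncard_union_le (IM ∩ Q) (O3 ∪ O6)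
    have h3 := Set.ncard_union_le O3 O6
    omega
  have hc3 : Q.ncard ≤ (IM ∩ Q).ncard := by
    have : O6.ncard ≤ 2 := hB
    omega
  have hQI : IM ∩ Q = Q := Set.eq_of_subset_of_ncard_le Set.inter_subset_right hc3
  have hQsub : ∀ x ∈ Q, φ x = x⁻¹ := by
    intro x hx
    have h1 : x ∈ IM ∩ Q := by rw [hQI]; exact hx
    exact h1.1.2
  obtain ⟨x, hx, y, hy, hxy, hne⟩ := hQna
  apply hne
  have h1 := hQsub _ hxy
  rw [map_mul, hQsub x hx, hQsub y hy, mul_inv_rev] at h1
  have h2 : (y * x)⁻¹ = (x * y)⁻¹ := by rw [mul_inv_rev, mul_inv_rev]; exact h1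
  exact (inv_injective h2).symm

/-- From a subgroup of index 2 to one invariant under an involutory endomorphism. -/
theorem exists_invariant_index_two {H : Type u} [Group H] (φ : H →* H)
    (hφ2 : ∀ h, φ (φ h) = h) (N₀ : Subgroup H) (hN₀ : N₀.index = 2) :
    ∃ N : Subgroup H, N.index = 2 ∧ ∀ h ∈ N, φ h ∈ N := by
  by_cases hinv : ∀ h ∈ N₀, φ h ∈ N₀
  · exact ⟨N₀, hN₀, hinv⟩
  · push Not at hinv
    obtain ⟨a, ha, hφa⟩ := hinv
    let N : Subgroup H :=
      { carrier := {h | h ∈ N₀ ↔ φ h ∈ N₀}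
        mul_mem' := by
          intro x y hx hy
          show x * y ∈ N₀ ↔ φ (x * y) ∈ N₀
          have hx' : x ∈ N₀ ↔ φ x ∈ N₀ := hx
          have hy' : y ∈ N₀ ↔ φ y ∈ N₀ := hy
          rw [map_mul, Subgroup.mul_mem_iff_of_index_two hN₀,
            Subgroup.mul_mem_iff_of_index_two hN₀, hx', hy']
        one_mem' := by
          show (1 : H) ∈ N₀ ↔ φ 1 ∈ N₀
          rw [map_one]
        inv_mem' := by
          intro x hx
          show x⁻¹ ∈ N₀ ↔ φ x⁻¹ ∈ N₀
          have hx' : x ∈ N₀ ↔ φ x ∈ N₀ := hx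
          rw [map_inv, inv_mem_iff, inv_mem_iff]
          exact hx' }
    have hN : ∀ h, h ∈ N ↔ (h ∈ N₀ ↔ φ h ∈ N₀) := fun _ => Iff.rfl
    refine ⟨N, ?_, ?_⟩
    · rw [Subgroup.index_eq_two_iff]
      refine ⟨a, fun b => ?_⟩
      rw [hN, hN, map_mul, Subgroup.mul_mem_iff_of_index_two hN₀,
        Subgroup.mul_mem_iff_of_index_two hN₀]
      simp only [ha, hφa, iff_true, iff_false]
      unfold Xor
      tauto
    · intro h hh
      rw [hN] at hh ⊢
      rw [hφ2]
      exact hh.symm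

/-- Transport of an involutory endomorphism to an isomorphic copy of an invariant subgroup. -/
theorem transport_aut {H : Type u} {L : Type v} [Group H] [Group L] [Finite H] (φ : H →* H)
    (hφ2 : ∀ h, φ (φ h) = h) (E : Subgroup H) (hE : ∀ x ∈ E, φ x ∈ E) (π : E ≃* L) :
    ∃ ψ : L →* L, (∀ g, ψ (ψ g) = g) ∧
      Set.ncard {g : L | ψ g = g} ≤ Set.ncard {h : H | φ h = h} ∧
      Set.ncard {g : L | ψ g = g⁻¹ ∧ g ^ 6 = 1 ∧ g ^ 3 ≠ 1 ∧ g ^ 2 ≠ 1} ≤
        Set.ncard {g : H | φ g = g⁻¹ ∧ g ^ 6 = 1 ∧ g ^ 3 ≠ 1 ∧ g ^ 2 ≠ 1} := by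
  let φE : E →* E := (φ.comp E.subtype).codRestrict E (fun x => hE x x.2)
  have hφE : ∀ x : E, ((φE x : E) : H) = φ x := fun _ => rfl
  have hφE2 : ∀ x : E, φE (φE x) = x := fun x => Subtype.ext (by rw [hφE, hφE, hφ2])
  let ψ : L →* L := π.toMonoidHom.comp (φE.comp π.symm.toMonoidHom)
  have hψ : ∀ g, ψ g = π (φE (π.symm g)) := fun _ => rfl
  have hkey : ∀ g g' : L, ψ g = g' → φ (π.symm g : H) = (π.symm g' : H) := by
    intro g g' h
    rw [hψ] at h
    rw [← h, π.symm_apply_apply, hφE]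
  have hpow : ∀ (g : L) (n : ℕ), ((π.symm g : E) : H) ^ n = 1 ↔ g ^ n = 1 := by
    intro g n
    rw [← Subgroup.coe_pow, ← map_pow, OneMemClass.coe_eq_one, MulEquiv.map_eq_one_iff]
  have hinj : Function.Injective (fun g : L => ((π.symm g : E) : H)) := by
    intro g g' h
    exact π.symm.injective (Subtype.ext h)
  refine ⟨ψ, ?_, ?_, ?_⟩
  · intro g
    rw [hψ, hψ, π.symm_apply_apply, hφE2, π.apply_symm_apply]
  · apply Set.ncard_le_ncard_of_injOn (fun g : L => ((π.symm g : E) : H))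
    · intro g hg
      exact hkey g g hg
    · exact hinj.injOn
  · apply Set.ncard_le_ncard_of_injOn (fun g : L => ((π.symm g : E) : H))
    · rintro g ⟨hg1, hg6, hg3, hg2⟩
      refine ⟨?_, ?_, ?_, ?_⟩
      · show φ ((π.symm g : E) : H) = ((π.symm g : E) : H)⁻¹
        rw [hkey g g⁻¹ hg1, map_inv, Subgroup.coe_inv]
      · exact (hpow g 6).mpr hg6
      · exact fun h => hg3 ((hpow g 3).mp h)
      · exact fun h => hg2 ((hpow g 2).mp h)
    · exact hinj.injOn

/-- In `H ≃* L × C` with `L` of exponent dividing `n` and `C` having no `n`-torsion, the elements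
with `x ^ n = 1` form a subgroup isomorphic to `L`. -/
theorem exists_char_factor {H : Type u} {L C : Type v} [Group H] [Group L] [Group C]
    (f : H ≃* L × C) (n : ℕ) (hL : ∀ l : L, l ^ n = 1) (hC : ∀ c : C, c ^ n = 1 → c = 1) :
    ∃ (E : Subgroup H) (_ : E ≃* L), ∀ x : H, x ∈ E ↔ x ^ n = 1 := by
  let E : Subgroup H := ((MonoidHom.snd L C).comp f.toMonoidHom).ker
  have hE : ∀ x : H, x ∈ E ↔ (f x).2 = 1 := fun x => MonoidHom.mem_ker
  have hchar : ∀ x : H, x ∈ E ↔ x ^ n = 1 := by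
    intro x
    rw [hE]
    constructor
    · intro h
      apply f.injective
      rw [map_pow, map_one]
      apply Prod.ext
      · rw [Prod.pow_fst]; exact hL _
      · rw [Prod.pow_snd, h, one_pow]; rfl
    · intro h
      apply hC
      have h1 : (f x) ^ n = 1 := by rw [← map_pow, h, map_one]
      have h2 := congrArg Prod.snd h1
      rwa [Prod.pow_snd] at h2
  let π : E ≃* L :=
    { toFun := fun x => (f x).1
      invFun := fun l => ⟨f.symm (l, 1), by rw [hE, f.apply_symm_apply]⟩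
      left_inv := by
        intro x
        apply Subtype.ext
        show f.symm ((f x).1, 1) = x
        have h1 : ((f (x : H)).1, (1 : C)) = f x := Prod.ext rfl ((hE x).mp x.2).symm
        rw [h1, f.symm_apply_apply]
      right_inv := by
        intro l
        show (f (f.symm (l, 1))).1 = l
        rw [f.apply_symm_apply]
      map_mul' := by
        intro x y
        show (f ((x : H) * (y : H))).1 = (f x).1 * (f y).1
        rw [map_mul]; rfl }
  exact ⟨E, π, hchar⟩

end KTCount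

end Cfsg.Agent.Helper12
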