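import Mathlib

/-!
# Sharply 3-transitive groups: a fixed-point lemma for inverted elements of order 6 (helper12)

`G` acts on `α`, `s` interchanges `a, b` and fixes `c`; `V` is the kernel of `G_b` written
additively as `W` via `e`, and `ρ` is the linear action of `G_a ⊓ G_b` on `W`.  For every
`g ∈ G_a ⊓ G_b` of order 6 inverted by `s`, the element `s * (t * z)` (where `t ∈ V`, `t • a = c`
and `z` is the involution of `G_a ⊓ G_b`) fixes `g • c`.
-/

set_option autoImplicit false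

namespace Cfsg.Agent.Helper12

open MulAction

section KTLemmaB

universe u v w

theorem rho_mul_apply {p : ℕ} {W : Type w} [AddCommGroup W] [Module (ZMod p) W]
    {H : Type u} [Group H] (ρ : H →* (W ≃ₗ[ZMod p] W)) (h k : H) (v : W) :
    ρ (h * k) v = ρ h (ρ k v) := by
  rw [map_mul]; rfl

/-- an involution of a semiregular linear group is `-1` -/
theorem lin_neg_of_invol {p : ℕ} {W : Type w} [AddCommGroup W] [Module (ZMod p) W]
    {H : Type u} [Group H] (ρ : H →* (W ≃ₗ[ZMod p] W))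
    (hreg : ∀ v : W, v ≠ 0 → ∀ h, ρ h v = v → h = 1) (j : H) (hj2 : j ^ 2 = 1) (hj1 : j ≠ 1)
    (w : W) : ρ j w = -w := by
  have h1 : ρ j (ρ j w) = w := by
    rw [← rho_mul_apply, ← pow_two, hj2, map_one]; rfl
  have h2 : ρ j (ρ j w + w) = ρ j w + w := by rw [map_add, h1, add_comm]
  by_contra hne
  apply hj1
  apply hreg (ρ j w + w) _ j h2
  intro h0
  exact hne (eq_neg_of_add_eq_zero_left h0)

theorem eq_zero_of_eq_neg {p : ℕ} [Fact p.Prime] (hp2 : p ≠ 2) {W : Type w} [AddCommGroup W]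
    [Module (ZMod p) W] (v : W) (hv : v = -v) : v = 0 := by
  have h1 : (2 : ZMod p) • v = 0 := by
    rw [two_smul]
    nth_rewrite 2 [hv]
    exact add_neg_cancel v
  rcases smul_eq_zero.mp h1 with h | h
  · exfalso
    have h2 : ((2 : ℕ) : ZMod p) = 0 := by exact_mod_cast h
    rw [ZMod.natCast_eq_zero_iff] at h2
    exact hp2 ((Nat.prime_dvd_prime_iff_eq Fact.out Nat.prime_two).mp h2)
  · exact h

/-- a linear group of odd characteristic regular on the non-zero vectors contains `-1` -/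
theorem exists_lin_invol {p : ℕ} [Fact p.Prime] (hp2 : p ≠ 2) {W : Type w} [AddCommGroup W]
    [Module (ZMod p) W] [Nontrivial W] {H : Type u} [Group H] (ρ : H →* (W ≃ₗ[ZMod p] W))
    (htrans : ∀ v w : W, v ≠ 0 → w ≠ 0 → ∃ h, ρ h v = w)
    (hreg : ∀ v : W, v ≠ 0 → ∀ h, ρ h v = v → h = 1) :
    ∃ z : H, z ^ 2 = 1 ∧ z ≠ 1 ∧ ∀ w, ρ z w = -w := by
  obtain ⟨v, hv⟩ := exists_ne (0 : W)
  obtain ⟨z, hz⟩ := htrans v (-v) hv (neg_ne_zero.mpr hv)
  have hz2 : z ^ 2 = 1 := by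
    apply hreg v hv
    rw [pow_two, rho_mul_apply, hz, map_neg, hz, neg_neg]
  have hz1 : z ≠ 1 := by
    rintro rfl
    rw [map_one] at hz
    exact hv (eq_zero_of_eq_neg hp2 v hz)
  exact ⟨z, hz2, hz1, lin_neg_of_invol ρ hreg z hz2 hz1⟩

theorem kt_fixed {G : Type u} [Group G] {α : Type v} [MulAction G α] {a b c : α} (hab : a ≠ b)
    (s : G) (hsb : s • b = a) (hsc : s • c = c)
    {p : ℕ} (V : Subgroup G) {W : Type w} [AddCommGroup W] [Module (ZMod p) W]
    (e : V ≃ W) (ρ : ↥(stabilizer G a ⊓ stabilizer G b) →* (W ≃ₗ[ZMod p] W))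
    (hVb : ∀ x ∈ V, x • b = b)
    (hadd : ∀ x y : V, e (x * y) = e x + e y)
    (hconj : ∀ (h : ↥(stabilizer G a ⊓ stabilizer G b)) (x : V),
        ((e.symm (ρ h (e x)) : V) : G) = (h : G) * (x : G) * (h : G)⁻¹)
    (hρ : Function.Injective ρ)
    (hreg : ∀ v : W, v ≠ 0 → ∀ h, ρ h v = v → h = 1)
    (z : ↥(stabilizer G a ⊓ stabilizer G b)) (hz2 : z ^ 2 = 1) (hz : ∀ w, ρ z w = -w)
    (t : G) (ht : t ∈ V) (hta : t • a = c) :
    (s * (t * (z : G)) ≠ 1) ∧ ∀ g : ↥(stabilizer G a ⊓ stabilizer G b),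
      s * (g : G) * s⁻¹ = (g : G)⁻¹ → g ^ 6 = 1 → g ^ 3 ≠ 1 → g ^ 2 ≠ 1 →
      (s * (t * (z : G))) • ((g : G) • c) = (g : G) • c := by
  constructor
  · intro h
    have h1 : (s * (t * (z : G))) • b = a := by
      rw [mul_smul, mul_smul, mem_stabilizer_iff.mp z.2.2, hVb t ht, hsb]
    rw [h, one_smul] at h1
    exact hab h1.symm
  · intro g hg hg6 hg3 hg2
    have hg3z : g ^ 3 = z := by
      have h1 : (g ^ 3) ^ 2 = 1 := by rw [← pow_mul]; exact hg6
      apply hρ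
      apply LinearEquiv.ext
      intro w
      rw [lin_neg_of_invol ρ hreg (g ^ 3) h1 hg3 w, hz]
    have hγ3 : ∀ w, ρ g (ρ g (ρ g w)) = -w := by
      intro w
      have h1 : ρ (g ^ 3) w = ρ g (ρ g (ρ g w)) := by
        rw [pow_succ, pow_two, rho_mul_apply, rho_mul_apply]
      rw [← h1, hg3z, hz]
    have hγinj : ∀ w, ρ g w = -w → w = 0 := by
      intro w hw
      by_contra hw0
      have h1 : ρ (z * g) w = w := by rw [rho_mul_apply, hw, map_neg, hz, neg_neg]
      have h2 := hreg w hw0 _ h1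
      apply hg2
      have h3 : g = z⁻¹ := eq_inv_of_mul_eq_one_right h2
      rw [h3, inv_pow, hz2, inv_one]
    have hquad : ∀ w, ρ g (ρ g w) - ρ g w + w = 0 := by
      intro w
      apply hγinj
      rw [map_add, map_sub, hγ3]
      abel
    have h5 : ρ g (e ⟨t, ht⟩ - ρ g (e ⟨t, ht⟩)) = e ⟨t, ht⟩ := by
      have h'' := hquad (e ⟨t, ht⟩)
      have h' : ρ g (ρ g (e ⟨t, ht⟩)) = ρ g (e ⟨t, ht⟩) - e ⟨t, ht⟩ := by
        rw [eq_sub_iff_add_eq, ← sub_eq_zero, ← h'']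
        abel
      rw [map_sub, h']
      abel
    have hK : (g : G)⁻¹ * t * (g : G) =
        t * ((z : G) * (g : G) * t * ((z : G) * (g : G))⁻¹) := by
      have h6 := hconj g⁻¹ ⟨t, ht⟩
      have h7 := hconj (z * g) ⟨t, ht⟩
      have h8 : ρ g⁻¹ (e ⟨t, ht⟩) = e ⟨t, ht⟩ - ρ g (e ⟨t, ht⟩) := by
        have h9 : ρ g⁻¹ (ρ g (e ⟨t, ht⟩ - ρ g (e ⟨t, ht⟩))) =
            e ⟨t, ht⟩ - ρ g (e ⟨t, ht⟩) := by
          rw [← rho_mul_apply, inv_mul_cancel, map_one]; rfl
        rw [h5] at h9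
        exact h9
      have h9 : ρ (z * g) (e ⟨t, ht⟩) = -ρ g (e ⟨t, ht⟩) := by rw [rho_mul_apply, hz]
      have h10 : (⟨t, ht⟩ : V) * e.symm (ρ (z * g) (e ⟨t, ht⟩)) =
          e.symm (ρ g⁻¹ (e ⟨t, ht⟩)) := by
        apply e.injective
        rw [hadd, e.apply_symm_apply, e.apply_symm_apply, h8, h9]
        abel
      have h11 := congrArg (fun x : V => (x : G)) h10
      simp only [Subgroup.coe_mul] at h11
      rw [h6, h7] at h11
      simp only [Subgroup.coe_mul, InvMemClass.coe_inv, inv_inv] at h11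
      exact h11.symm
    have hga : (g : G) • a = a := mem_stabilizer_iff.mp g.2.1
    have hza : (z : G) • a = a := mem_stabilizer_iff.mp z.2.1
    have hsg : s * (g : G)⁻¹ = (g : G) * s := by
      have h1 : s * (g : G)⁻¹ * s⁻¹ = (g : G) := by
        have h2 : s * (g : G)⁻¹ * s⁻¹ = (s * (g : G) * s⁻¹)⁻¹ := by group
        rw [h2, hg, inv_inv]
      calc s * (g : G)⁻¹ = s * (g : G)⁻¹ * s⁻¹ * s := by group
        _ = (g : G) * s := by rw [h1]
    have e1 : (s * (t * (z : G))) • ((g : G) • c) =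
        (s * (t * ((z : G) * (g : G) * t * ((z : G) * (g : G))⁻¹)) * ((z : G) * (g : G))) • a := by
      rw [← hta, ← mul_smul, ← mul_smul]
      congr 1
      group
    have e2 : (s * ((g : G)⁻¹ * t * (g : G)) * ((z : G) * (g : G))) • a = s • (g : G)⁻¹ • c := by
      simp only [mul_smul, hga, hza, hta]
    have e3 : s • (g : G)⁻¹ • c = (g : G) • c := by
      rw [← mul_smul, hsg, mul_smul, hsc]
    rw [e1, ← hK, e2, e3]

end KTLemmaB

end Cfsg.Agent.Helper12
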