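import Cfsg.Agent.Helper55.N9Defs
import Cfsg.Agent.Helper58.SecRank

/-!
# CALL S4409, piece Q4 (helper12, double): the subgroup generated by the squares of a 2-group is
not a quaternion group of order 8.
-/

set_option autoImplicit false

namespace Cfsg.Agent.Helper12.N9

open Subgroup Cfsg.Agent.Helper55.N9

variable {G : Type*} [Group G] [Finite G]

theorem n9q4_d1 : ∀ c : QuaternionGroup 2, (∀ g, c * g = g * c) → c * c = 1 := by decide

theorem n9q4_d2 : ∀ c c' : QuaternionGroup 2, (∀ g, c * g = g * c) → (∀ g, c' * g = g * c') →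
    c ≠ 1 → c' ≠ 1 → c = c' := by decide

theorem n9q4_d3 : ∃ g h : QuaternionGroup 2, g * h ≠ h * g := by decide

/-- a finite 2-group whose squares generate a subgroup `F` : `F` is not quaternion of order 8 -/
theorem n9q4_core {P : Type*} [Group P] [Finite P] (hP : IsPGroup 2 P)
    (φ : ↥(closure {y : P | ∃ x : P, y = x ^ 2}) ≃* QuaternionGroup 2) : False := by
  classical
  haveI : Fact (Nat.Prime 2) := ⟨Nat.prime_two⟩
  set S : Set P := {y : P | ∃ x : P, y = x ^ 2} with hS
  set F : Subgroup P := closure S with hF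
  -- `F` is normal
  haveI hFn : F.Normal := by
    have : F = normalClosure S := by
      show closure S = closure (Group.conjugatesOfSet S)
      congr 1
      ext y
      rw [Group.mem_conjugatesOfSet_iff]
      constructor
      · intro hy
        exact ⟨y, hy, IsConj.refl y⟩
      · rintro ⟨b, ⟨x, rfl⟩, hb⟩
        obtain ⟨c, hc⟩ := isConj_iff.mp hb
        refine ⟨c * x * c⁻¹, ?_⟩
        rw [conj_pow]
        exact hc.symm
    rw [this]
    exact normalClosure_normal
  -- centrality facts in `F`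
  have hcentF : ∀ c : F, (∀ g : P, (c : P) * g = g * c) → ∀ g : QuaternionGroup 2,
      φ c * g = g * φ c := by
    intro c hc g
    obtain ⟨f, rfl⟩ := φ.surjective g
    rw [← map_mul, ← map_mul]
    congr 1
    apply Subtype.ext
    exact hc f
  have hFne : F ≠ ⊥ := by
    intro h
    obtain ⟨g, h', hgh⟩ := n9q4_d3
    apply hgh
    have h1 : ∀ f : F, f = 1 := by
      intro f
      apply Subtype.ext
      have := (le_of_eq h) f.2
      rw [mem_bot] at this
      exact this
    have hg := h1 (φ.symm g)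
    have hh := h1 (φ.symm h')
    have hg' : g = 1 := by simpa using congrArg φ hg
    have hh' : h' = 1 := by simpa using congrArg φ hh
    rw [hg', hh']
  obtain ⟨z0, hz0F, hz01, hz0c⟩ := Cfsg.Agent.Helper58.pgroup_normal_meets_center hP F hFne
  -- the quotient step
  set Zs : Subgroup P := F ⊓ center P with hZs
  haveI hZn : Zs.Normal := inferInstance
  have hQ : IsPGroup 2 (P ⧸ Zs) := hP.to_quotient Zs
  set Nb : Subgroup (P ⧸ Zs) := F.map (QuotientGroup.mk' Zs) with hNb
  haveI hNbn : Nb.Normal := hFn.map _ (QuotientGroup.mk'_surjective Zs)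
  have hNbne : Nb ≠ ⊥ := by
    intro h
    have hle : F ≤ Zs := by
      intro f hf
      have : QuotientGroup.mk' Zs f ∈ Nb := mem_map_of_mem _ hf
      rw [h, mem_bot] at this
      exact (QuotientGroup.eq_one_iff f).mp this
    obtain ⟨g, h', hgh⟩ := n9q4_d3
    apply hgh
    have hc := hcentF (φ.symm g) (fun x => by
      have := (hle (φ.symm g).2).2
      exact (mem_center_iff.mp this x).symm)
    have := hc h'
    rw [MulEquiv.apply_symm_apply] at this
    exact this
  obtain ⟨ab, habN, hab1, habc⟩ := Cfsg.Agent.Helper58.pgroup_normal_meets_center hQ Nb hNbne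
  obtain ⟨a, haF, rfl⟩ := mem_map.mp habN
  have haZ : a ∉ Zs := by
    intro h
    exact hab1 ((QuotientGroup.eq_one_iff a).mpr h)
  -- the commutators with `a` are central of order 2
  have hcx : ∀ x : P, (a * x)⁻¹ * (x * a) ∈ Zs := by
    intro x
    have h1 := mem_center_iff.mp habc (QuotientGroup.mk' Zs x)
    rw [← map_mul, ← map_mul] at h1
    exact QuotientGroup.eq.mp h1.symm
  have hsq : ∀ c : P, c ∈ Zs → c * c = 1 := by
    intro c hc
    have h1 := hcentF ⟨c, hc.1⟩ (fun g => (mem_center_iff.mp hc.2 g).symm)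
    have h2 := n9q4_d1 _ h1
    rw [← map_mul] at h2
    have h3 : (⟨c, hc.1⟩ : F) * ⟨c, hc.1⟩ = 1 := by
      apply φ.injective
      rw [h2, map_one]
    exact congrArg Subtype.val h3
  have hcomm : ∀ x : P, x ^ 2 * a = a * x ^ 2 := by
    intro x
    obtain ⟨c, hxa, hcZ⟩ : ∃ c, x * a = a * x * c ∧ c ∈ Zs :=
      ⟨(a * x)⁻¹ * (x * a), by group, hcx x⟩
    have hcc := hsq c hcZ
    have hccen : ∀ g : P, g * c = c * g := fun g => mem_center_iff.mp hcZ.2 g
    calc x ^ 2 * a = x * (x * a) := by rw [pow_two, mul_assoc]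
      _ = x * (a * x * c) := by rw [hxa]
      _ = (x * a) * x * c := by group
      _ = a * x * c * x * c := by rw [hxa]
      _ = a * x * (c * x) * c := by group
      _ = a * x * (x * c) * c := by rw [hccen x]
      _ = a * x ^ 2 * (c * c) := by rw [pow_two]; simp only [mul_assoc]
      _ = a * x ^ 2 := by rw [hcc, mul_one]
  have hFa : ∀ f ∈ F, f * a = a * f := by
    intro f hf
    have hle : F ≤ centralizer {a} := by
      rw [hF, closure_le]
      rintro y ⟨x, rfl⟩
      rw [SetLike.mem_coe, mem_centralizer_iff]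
      intro b hb
      rw [Set.mem_singleton_iff] at hb
      rw [hb]
      exact (hcomm x).symm
    have := mem_centralizer_iff.mp (hle hf) a rfl
    exact this.symm
  -- `a` and `z0` are both nontrivial central elements of `F`
  have ha1 : (⟨a, haF⟩ : F) ≠ 1 := by
    intro h
    apply haZ
    have : a = 1 := congrArg Subtype.val h
    rw [this]
    exact one_mem _
  have hz1 : (⟨z0, hz0F⟩ : F) ≠ 1 := by
    intro h
    exact hz01 (congrArg Subtype.val h)
  have hcA : ∀ g : QuaternionGroup 2, φ ⟨a, haF⟩ * g = g * φ ⟨a, haF⟩ := by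
    intro g
    obtain ⟨f, rfl⟩ := φ.surjective g
    rw [← map_mul, ← map_mul]
    congr 1
    apply Subtype.ext
    exact (hFa f f.2).symm
  have hcZ0 := hcentF ⟨z0, hz0F⟩ (fun g => (mem_center_iff.mp hz0c g).symm)
  have heq := n9q4_d2 _ _ hcA hcZ0 (fun h => ha1 (φ.injective (h.trans (map_one φ).symm)))
    (fun h => hz1 (φ.injective (h.trans (map_one φ).symm)))
  have : a = z0 := congrArg Subtype.val (φ.injective heq)
  apply haZ
  rw [this]
  exact ⟨hz0F, hz0c⟩

-- Q4
theorem n9_q8_not_sqs (X : Subgroup G) (hX : IsPGroup 2 X) (hQ : IsQ8 (sqs X)) : False := by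
  obtain ⟨ψ⟩ := hQ
  have hmap : (closure {y : ↥X | ∃ x : ↥X, y = x ^ 2}).map X.subtype = sqs X := by
    rw [MonoidHom.map_closure]
    unfold sqs
    congr 1
    ext g
    constructor
    · rintro ⟨y, ⟨x, rfl⟩, rfl⟩
      exact ⟨x, x.2, rfl⟩
    · rintro ⟨x, hx, rfl⟩
      exact ⟨⟨x, hx⟩ ^ 2, ⟨⟨x, hx⟩, rfl⟩, rfl⟩
  exact n9q4_core hX
    (((closure {y : ↥X | ∃ x : ↥X, y = x ^ 2}).equivMapOfInjective X.subtype
      X.subtype_injective).trans ((MulEquiv.subgroupCongr hmap).trans ψ))

end Cfsg.Agent.Helper12.N9
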