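import Mathlib

set_option autoImplicit false

/-!
# CALL NP (helper13, row S5989), piece SPIN4 (helper12)
-/

namespace Cfsg.Agent.Helper12.NP5989

/-- SPIN4: a permutation with `σ⁴ = 1` and `σ²` fixed-point-free has all cycles of length `4`. -/
theorem np_sign_four {α : Type*} [Fintype α] [DecidableEq α] (σ : Equiv.Perm α) (h4 : σ ^ 4 = 1)
    (hf : ∀ x, σ (σ x) ≠ x) :
    4 ∣ Fintype.card α ∧ Equiv.Perm.sign σ = (-1) ^ (Fintype.card α / 4) := by
  have hall : ∀ n ∈ σ.cycleType, n = 4 := by
    intro n hn
    have h1 : n ∣ 4 := (Equiv.Perm.dvd_of_mem_cycleType hn).trans (orderOf_dvd_of_pow_eq_one h4)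
    have h2 : 2 ≤ n := Equiv.Perm.two_le_of_mem_cycleType hn
    have h3 : n ≠ 2 := by
      rintro rfl
      rw [Equiv.Perm.cycleType_def, Multiset.mem_map] at hn
      obtain ⟨c, hc, hcard⟩ := hn
      rw [Finset.mem_val, Equiv.Perm.mem_cycleFactorsFinset_iff] at hc
      obtain ⟨hcyc, hcσ⟩ := hc
      have hc2 : c ^ 2 = 1 := by
        have h := hcyc.orderOf
        have hcard' : c.support.card = 2 := hcard
        rw [← hcard', ← h]
        exact pow_orderOf_eq_one c
      obtain ⟨x, hx⟩ : c.support.Nonempty := by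
        rw [← Finset.card_pos]
        have hcard' : c.support.card = 2 := hcard
        omega
      have hcx : c x ∈ c.support := Equiv.Perm.apply_mem_support.mpr hx
      apply hf x
      rw [← hcσ x hx, ← hcσ (c x) hcx]
      have := congrArg (fun f => f x) hc2
      simpa [pow_two] using this
    have h4' : n ≤ 4 := Nat.le_of_dvd (by norm_num) h1
    interval_cases n <;> simp_all
  have hrep : σ.cycleType = Multiset.replicate (Multiset.card σ.cycleType) 4 :=
    Multiset.eq_replicate_card.mpr hall
  have hsupp : σ.support = Finset.univ := by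
    ext x
    simp only [Equiv.Perm.mem_support, Finset.mem_univ, iff_true]
    intro hx
    exact hf x (by rw [hx, hx])
  have hsum : σ.cycleType.sum = Fintype.card α := by
    rw [Equiv.Perm.sum_cycleType, hsupp, Finset.card_univ]
  have hcard : Fintype.card α = 4 * Multiset.card σ.cycleType := by
    rw [← hsum]
    conv_lhs => rw [hrep]
    rw [Multiset.sum_replicate]
    simp [mul_comm]
  refine ⟨⟨_, hcard⟩, ?_⟩
  rw [Equiv.Perm.sign_of_cycleType, hsum, hcard, Nat.mul_div_cancel_left _ (by norm_num : 0 < 4)]
  rw [pow_add, pow_mul]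
  norm_num

end Cfsg.Agent.Helper12.NP5989
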