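import Mathlib
import Cfsg.Agent.Helper12.NearLin
import Cfsg.Agent.Helper56.ZNS3

set_option autoImplicit false

/-!
# Exceptional near-fields: the quaternion and `SL(2,5)` cases

`H ≤ GL(V)` over `ZMod p`, regular on the nonzero vectors, with a normal subgroup `N`
isomorphic to `Q₈` or `SL(2,5)`: then `|V| = p²` with `p` small, and the centraliser of `N`
is abelian.
-/

namespace Cfsg.Agent.Helper12

open Cfsg.Agent.Helper56

theorem q8_words : ∀ a b g : QuaternionGroup 2, a * b ≠ b * a →
    g = 1 ∨ g = a ∨ g = a * a ∨ g = a * a * a ∨ g = b ∨ g = b * a ∨ g = b * a * a ∨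
      g = b * a * a * a := by decide

theorem q8_pairs_card :
    Fintype.card {x : QuaternionGroup 2 × QuaternionGroup 2 // x.1 * x.2 ≠ x.2 * x.1} = 24 := by
  decide

theorem q8_commute_all {N : Type*} [Group N] (e : N ≃* QuaternionGroup 2) {M : Type*} [Monoid M]
    (φ : N →* M) (h : M) (x y : N) (hxy : x * y ≠ y * x) (hx : Commute h (φ x))
    (hy : Commute h (φ y)) (n : N) : Commute h (φ n) := by
  have hne : e x * e y ≠ e y * e x := by
    intro hc
    apply hxy
    apply e.injective
    rw [map_mul, map_mul]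
    exact hc
  rcases q8_words (e x) (e y) (e n) hne with h' | h' | h' | h' | h' | h' | h' | h'
  · have hn : n = 1 := e.injective (by rw [h', map_one])
    rw [hn, map_one]; exact Commute.one_right h
  · have hn : n = x := e.injective h'
    rw [hn]; exact hx
  · have hn : n = x * x := e.injective (by rw [h', map_mul])
    rw [hn, map_mul]; exact hx.mul_right hx
  · have hn : n = x * x * x := e.injective (by rw [h', map_mul, map_mul])
    rw [hn, map_mul, map_mul]; exact (hx.mul_right hx).mul_right hx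
  · have hn : n = y := e.injective h'
    rw [hn]; exact hy
  · have hn : n = y * x := e.injective (by rw [h', map_mul])
    rw [hn, map_mul]; exact hy.mul_right hx
  · have hn : n = y * x * x := e.injective (by rw [h', map_mul, map_mul])
    rw [hn, map_mul, map_mul]; exact (hy.mul_right hx).mul_right hx
  · have hn : n = y * x * x * x := e.injective (by rw [h', map_mul, map_mul, map_mul])
    rw [hn, map_mul, map_mul, map_mul]; exact ((hy.mul_right hx).mul_right hx).mul_right hx

/-- pairs of non-commuting elements of a subgroup -/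
abbrev NCPairs {H : Type*} [Group H] (N : Subgroup H) := {x : N × N // x.1 * x.2 ≠ x.2 * x.1}

/-- The centraliser of a normal quaternion subgroup of order eight has index dividing `24`. -/
theorem index_centralizer_dvd_of_q8 {H : Type*} [Group H] (N : Subgroup H) [hNn : N.Normal]
    (e : N ≃* QuaternionGroup 2) : (Subgroup.centralizer (N : Set H)).index ∣ 24 := by
  classical
  letI : MulAction H (NCPairs N) :=
    { smul := fun h x => ⟨(MulAut.conjNormal h x.1.1, MulAut.conjNormal h x.1.2), fun hc => x.2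
          ((MulAut.conjNormal h : MulAut N).injective (by rw [map_mul, map_mul]; exact hc))⟩
      one_smul := fun x => by
        apply Subtype.ext
        apply Prod.ext
        · show (MulAut.conjNormal (1 : H) : MulAut N) x.1.1 = x.1.1
          rw [map_one]; rfl
        · show (MulAut.conjNormal (1 : H) : MulAut N) x.1.2 = x.1.2
          rw [map_one]; rfl
      mul_smul := fun g h x => by
        apply Subtype.ext
        apply Prod.ext
        · show (MulAut.conjNormal (g * h) : MulAut N) x.1.1 =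
            MulAut.conjNormal g (MulAut.conjNormal h x.1.1)
          rw [map_mul]; rfl
        · show (MulAut.conjNormal (g * h) : MulAut N) x.1.2 =
            MulAut.conjNormal g (MulAut.conjNormal h x.1.2)
          rw [map_mul]; rfl }
  have hsmul1 : ∀ (h : H) (x : NCPairs N), (((h • x : NCPairs N).1.1 : N) : H) =
      h * (x.1.1 : H) * h⁻¹ := fun h x => MulAut.conjNormal_apply h x.1.1
  have hsmul2 : ∀ (h : H) (x : NCPairs N), (((h • x : NCPairs N).1.2 : N) : H) =
      h * (x.1.2 : H) * h⁻¹ := fun h x => MulAut.conjNormal_apply h x.1.2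
  have hstab : ∀ x : NCPairs N,
      MulAction.stabilizer H x = Subgroup.centralizer (N : Set H) := by
    intro x
    ext h
    rw [MulAction.mem_stabilizer_iff, Subgroup.mem_centralizer_iff]
    constructor
    · intro hx n hn
      have h1 : h * (x.1.1 : H) * h⁻¹ = x.1.1 := by rw [← hsmul1, hx]
      have h2 : h * (x.1.2 : H) * h⁻¹ = x.1.2 := by rw [← hsmul2, hx]
      have c1 : Commute h (N.subtype x.1.1) := by
        show h * (x.1.1 : H) = (x.1.1 : H) * h
        calc h * (x.1.1 : H) = (h * (x.1.1 : H) * h⁻¹) * h := by group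
          _ = (x.1.1 : H) * h := by rw [h1]
      have c2 : Commute h (N.subtype x.1.2) := by
        show h * (x.1.2 : H) = (x.1.2 : H) * h
        calc h * (x.1.2 : H) = (h * (x.1.2 : H) * h⁻¹) * h := by group
          _ = (x.1.2 : H) * h := by rw [h2]
      exact (q8_commute_all e N.subtype h x.1.1 x.1.2 x.2 c1 c2 ⟨n, hn⟩).eq.symm
    · intro hc
      apply Subtype.ext
      apply Prod.ext
      · apply Subtype.ext
        rw [hsmul1, ← hc _ x.1.1.2, mul_inv_cancel_right]
      · apply Subtype.ext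
        rw [hsmul2, ← hc _ x.1.2.2, mul_inv_cancel_right]
  have hdvd := index_dvd_card_of_stabilizer_eq (Subgroup.centralizer (N : Set H)) hstab
  have hcard : Nat.card (NCPairs N) = 24 := by
    rw [← q8_pairs_card, ← Nat.card_eq_fintype_card]
    apply Nat.card_congr
    refine Equiv.subtypeEquiv (Equiv.prodCongr e.toEquiv e.toEquiv) ?_
    intro a
    show a.1 * a.2 ≠ a.2 * a.1 ↔ e a.1 * e a.2 ≠ e a.2 * e a.1
    rw [← map_mul, ← map_mul, Ne, Ne, e.injective.eq_iff]
  rw [hcard] at hdvd
  exact hdvd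

theorem card_sup_le_of_commute {H : Type*} [Group H] [Finite H] (S M : Subgroup H)
    (hcomm : ∀ s ∈ S, ∀ x ∈ M, s * x = x * s) :
    Nat.card (S ⊔ M : Subgroup H) ≤ Nat.card S * Nat.card M := by
  let T : Subgroup H :=
    { carrier := {g | ∃ s ∈ S, ∃ m ∈ M, g = s * m}
      mul_mem' := by
        rintro _ _ ⟨s, hs, m, hm, rfl⟩ ⟨s', hs', m', hm', rfl⟩
        refine ⟨s * s', S.mul_mem hs hs', m * m', M.mul_mem hm hm', ?_⟩
        calc s * m * (s' * m') = s * (m * s') * m' := by group
          _ = s * (s' * m) * m' := by rw [hcomm s' hs' m hm]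
          _ = s * s' * (m * m') := by group
      one_mem' := ⟨1, S.one_mem, 1, M.one_mem, by rw [mul_one]⟩
      inv_mem' := by
        rintro _ ⟨s, hs, m, hm, rfl⟩
        refine ⟨s⁻¹, S.inv_mem hs, m⁻¹, M.inv_mem hm, ?_⟩
        rw [mul_inv_rev, hcomm s⁻¹ (S.inv_mem hs) m⁻¹ (M.inv_mem hm)] }
  have hle : S ⊔ M ≤ T := by
    apply sup_le
    · intro s hs; exact ⟨s, hs, 1, M.one_mem, by rw [mul_one]⟩
    · intro m hm; exact ⟨1, S.one_mem, m, hm, by rw [one_mul]⟩
  have hsurj : Function.Surjective (fun x : S × M =>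
      (⟨(x.1 : H) * (x.2 : H), ⟨x.1, x.1.2, x.2, x.2.2, rfl⟩⟩ : T)) := by
    rintro ⟨g, s, hs, m, hm, rfl⟩
    exact ⟨(⟨s, hs⟩, ⟨m, hm⟩), rfl⟩
  calc Nat.card (S ⊔ M : Subgroup H) ≤ Nat.card T := Subgroup.card_le_of_le hle
    _ ≤ Nat.card (S × M) := Nat.card_le_card_of_surjective _ hsurj
    _ = Nat.card S * Nat.card M := Nat.card_prod _ _

section Cases

variable {p : ℕ} [Fact p.Prime] {V : Type*} [AddCommGroup V] [Module (ZMod p) V] [Finite V]

/-- If `|V| = p²` and `N` contains a quaternion pair, the centraliser of `N` is abelian. -/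
theorem centralizer_comm_of_quat (H : Subgroup (V ≃ₗ[ZMod p] V))
    (hfix : ∀ (h : H) (v : V), v ≠ 0 → (h : V ≃ₗ[ZMod p] V) v = v → h = 1) (N : Subgroup H)
    (z i j : N) (hz : z ≠ 1) (hz2 : z * z = 1) (hi : i * i = z) (hj : j * j = z)
    (hij : i * j = z * (j * i)) (hV : Nat.card V = p * p) :
    ∀ a ∈ Subgroup.centralizer (N : Set H), ∀ b ∈ Subgroup.centralizer (N : Set H),
      a * b = b * a := by
  obtain ⟨hp2, hi', hj', hij'⟩ := quat_lin_of_rel H hfix (z : H) i j
    (fun h => hz (Subtype.ext h)) (congrArg Subtype.val hz2) (congrArg Subtype.val hi)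
    (congrArg Subtype.val hj) (congrArg Subtype.val hij)
  obtain ⟨W, hWcard, hWinv⟩ := quat_decomp hp2 (((i : H) : V ≃ₗ[ZMod p] V) : V →ₗ[ZMod p] V)
    (((j : H) : V ≃ₗ[ZMod p] V) : V →ₗ[ZMod p] V) hi' hj' hij'
  have hWp : Nat.card W = p := by
    rw [hV] at hWcard
    exact (Nat.mul_self_inj.mp hWcard).symm
  apply comm_of_invariant_line H hfix _ W hWp
  intro c hc w hw
  have hci : (i : H) * c = c * i := (Subgroup.mem_centralizer_iff.mp hc) _ i.2
  have hcj : (j : H) * c = c * j := (Subgroup.mem_centralizer_iff.mp hc) _ j.2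
  refine hWinv ((c : V ≃ₗ[ZMod p] V) : V →ₗ[ZMod p] V) ?_ ?_ w hw
  · intro v
    exact (congrArg (fun g : H => (g : V ≃ₗ[ZMod p] V) v) hci).symm
  · intro v
    exact (congrArg (fun g : H => (g : V ≃ₗ[ZMod p] V) v) hcj).symm

/-- **Quaternion case.** -/
theorem q8_case (H : Subgroup (V ≃ₗ[ZMod p] V))
    (hreg : ∀ v w : V, v ≠ 0 → w ≠ 0 → ∃! h : H, (h : V ≃ₗ[ZMod p] V) v = w)
    (N : Subgroup H) (hNn : N.Normal) (e : N ≃* QuaternionGroup 2) :
    (p = 3 ∨ p = 5 ∨ p = 7 ∨ p = 11 ∨ p = 23) ∧ Nat.card V = p * p ∧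
      ∀ a ∈ Subgroup.centralizer (N : Set H), ∀ b ∈ Subgroup.centralizer (N : Set H),
        a * b = b * a := by
  have hp : p.Prime := Fact.out
  haveI : Finite (V ≃ₗ[ZMod p] V) := finite_linEquiv
  have hfix := hfix_of_reg H hreg
  have q1 : (QuaternionGroup.a 2 : QuaternionGroup 2) * QuaternionGroup.a 2 = 1 := by decide
  have q2 : (QuaternionGroup.a 2 : QuaternionGroup 2) ≠ 1 := by decide
  have q3 : (QuaternionGroup.a 1 : QuaternionGroup 2) * QuaternionGroup.a 1 =
      QuaternionGroup.a 2 := by decide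
  have q4 : (QuaternionGroup.xa 0 : QuaternionGroup 2) * QuaternionGroup.xa 0 =
      QuaternionGroup.a 2 := by decide
  have q5 : (QuaternionGroup.a 1 : QuaternionGroup 2) * QuaternionGroup.xa 0 =
      QuaternionGroup.a 2 * (QuaternionGroup.xa 0 * QuaternionGroup.a 1) := by decide
  have hz : e.symm (QuaternionGroup.a 2) ≠ 1 := by
    intro h
    apply q2
    have h1 := congrArg e h
    rw [MulEquiv.apply_symm_apply, map_one] at h1
    exact h1
  have hz2 : e.symm (QuaternionGroup.a 2) * e.symm (QuaternionGroup.a 2) = 1 := by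
    rw [← map_mul, q1, map_one]
  have hi : e.symm (QuaternionGroup.a 1) * e.symm (QuaternionGroup.a 1) =
      e.symm (QuaternionGroup.a 2) := by rw [← map_mul, q3]
  have hj : e.symm (QuaternionGroup.xa 0) * e.symm (QuaternionGroup.xa 0) =
      e.symm (QuaternionGroup.a 2) := by rw [← map_mul, q4]
  have hij : e.symm (QuaternionGroup.a 1) * e.symm (QuaternionGroup.xa 0) =
      e.symm (QuaternionGroup.a 2) * (e.symm (QuaternionGroup.xa 0) *
        e.symm (QuaternionGroup.a 1)) := by rw [← map_mul, ← map_mul, ← map_mul, q5]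
  generalize e.symm (QuaternionGroup.a 2) = z at hz hz2 hi hj hij
  generalize e.symm (QuaternionGroup.a 1) = i at hi hij
  generalize e.symm (QuaternionGroup.xa 0) = j at hj hij
  have hzH : (z : H) ≠ 1 := fun h => hz (Subtype.ext h)
  haveI : Nontrivial V := nontrivial_of_ne H hzH
  obtain ⟨hp2, hi', hj', hij'⟩ := quat_lin_of_rel H hfix (z : H) i j hzH
    (congrArg Subtype.val hz2) (congrArg Subtype.val hi) (congrArg Subtype.val hj)
    (congrArg Subtype.val hij)
  obtain ⟨k, hVk, hC2⟩ := quat_centralizer_card hp2 H hfix (i : H) j hi' hj' hij'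
  have hKle : Subgroup.centralizer (N : Set H) ≤
      Subgroup.centralizer ({(i : H), (j : H)} : Set H) := by
    apply Subgroup.centralizer_le
    intro g hg
    rcases hg with rfl | rfl
    · exact i.2
    · exact j.2
  have hKdvd : Nat.card (Subgroup.centralizer (N : Set H)) ∣ p ^ k - 1 :=
    Dvd.dvd.trans (Subgroup.card_dvd_of_le hKle) hC2
  haveI := hNn
  have hidx := index_centralizer_dvd_of_q8 N e
  have hcardH := card_add_one_of_reg H hreg
  have hmul := Subgroup.card_mul_index (Subgroup.centralizer (N : Set H))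
  have hq2 : 2 ≤ p ^ k := by
    by_contra hlt
    have h1 : p ^ k ≤ 1 := by omega
    have h2 : p ^ k * p ^ k ≤ 1 * 1 := Nat.mul_le_mul h1 h1
    have h3 : 0 < Nat.card H := Nat.card_pos
    omega
  have h24 := near_arith_q8 (p ^ k) _ _ hq2 (by rw [hmul, hcardH, hVk]) hKdvd hidx
  obtain ⟨hk1, hplist⟩ := near_arith_q8' p k hp hp2 hq2 h24
  subst hk1
  rw [pow_one] at hVk
  exact ⟨hplist, hVk, centralizer_comm_of_quat H hfix N z i j hz hz2 hi hj hij hVk⟩

/-- **`SL(2,5)` case.** -/
theorem sl25_case (H : Subgroup (V ≃ₗ[ZMod p] V))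
    (hreg : ∀ v w : V, v ≠ 0 → w ≠ 0 → ∃! h : H, (h : V ≃ₗ[ZMod p] V) v = w)
    (N : Subgroup H) (hperf : commutator N = ⊤) (e : N ≃* SL25) :
    p ≤ 119 ∧ Nat.card V = p * p ∧
      ∀ a ∈ Subgroup.centralizer (N : Set H), ∀ b ∈ Subgroup.centralizer (N : Set H),
        a * b = b * a := by
  have hp : p.Prime := Fact.out
  haveI : Finite (V ≃ₗ[ZMod p] V) := finite_linEquiv
  have hfix := hfix_of_reg H hreg
  have hN120 : Nat.card N = 120 := by rw [Nat.card_congr e.toEquiv, card_SL25]
  haveI : Nontrivial N := by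
    apply (Finite.one_lt_card_iff_nontrivial).mp
    rw [hN120]; norm_num
  obtain ⟨n1, n2, hn12⟩ := exists_pair_ne N
  haveI : Nontrivial V := nontrivial_of_ne H (a := (n1 : H)) (b := (n2 : H))
    (fun h => hn12 (Subtype.ext h))
  have hρ := lin_fpf H hfix
  obtain ⟨z, i, j, hz, hz2, hi, hj, hij⟩ := exists_quat_pair (hρ.subgroup N) hperf
    (by rw [hN120]; norm_num)
  have hns : ¬ Group.IsSolvable H := by
    intro hs
    haveI := hs
    exact (Group.IsSolvable.commutator_lt_top_of_nontrivial (G := N)).ne hperf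
  obtain ⟨G₀, hG₀n, hidx, S, M, hSM, hSMbot, hcomm, ⟨eS⟩, hcyc, hcop⟩ :=
    hρ.nonsolvable_structure hns
  -- transfer the pair to `S`
  have hzS : (e.trans eS.symm) z ≠ 1 := by
    intro h
    apply hz
    have h1 := congrArg (e.trans eS.symm).symm h
    rw [MulEquiv.symm_apply_apply, map_one] at h1
    exact h1
  have hzS2 : (e.trans eS.symm) z * (e.trans eS.symm) z = 1 := by rw [← map_mul, hz2, map_one]
  have hiS : (e.trans eS.symm) i * (e.trans eS.symm) i = (e.trans eS.symm) z := by
    rw [← map_mul, hi]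
  have hjS : (e.trans eS.symm) j * (e.trans eS.symm) j = (e.trans eS.symm) z := by
    rw [← map_mul, hj]
  have hijS : (e.trans eS.symm) i * (e.trans eS.symm) j =
      (e.trans eS.symm) z * ((e.trans eS.symm) j * (e.trans eS.symm) i) := by
    rw [← map_mul, ← map_mul, ← map_mul, hij]
  generalize (e.trans eS.symm) z = z' at hzS hzS2 hiS hjS hijS
  generalize (e.trans eS.symm) i = i' at hiS hijS
  generalize (e.trans eS.symm) j = j' at hjS hijS
  have hz'H : (z' : H) ≠ 1 := fun h => hzS (Subtype.ext h)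
  have hz'2 : (z' : H) * z' = 1 := congrArg Subtype.val hzS2
  obtain ⟨hp2, hi', hj', hij'⟩ := quat_lin_of_rel H hfix (z' : H) i' j' hz'H hz'2
    (congrArg Subtype.val hiS) (congrArg Subtype.val hjS) (congrArg Subtype.val hijS)
  obtain ⟨k, hVk, hC2⟩ := quat_centralizer_card hp2 H hfix (i' : H) j' hi' hj' hij'
  have hC4 := quat_centralizer_not_four hp2 H hfix (i' : H) j' hi' hj' hij'
  have hMC : M ≤ Subgroup.centralizer ({(i' : H), (j' : H)} : Set H) := by
    intro m hm
    rw [Subgroup.mem_centralizer_iff]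
    intro g hg
    rcases hg with rfl | rfl
    · exact hcomm _ i'.2 m hm
    · exact hcomm _ j'.2 m hm
  have hMdvd := Subgroup.card_dvd_of_le hMC
  have hzC : (z' : H) ∈ Subgroup.centralizer ({(i' : H), (j' : H)} : Set H) := by
    rw [Subgroup.mem_centralizer_iff]
    intro g _
    exact hρ.invol_comm hz'H hz'2 g
  have h2C : 2 ∣ Nat.card (Subgroup.centralizer ({(i' : H), (j' : H)} : Set H)) := by
    have ho : orderOf (⟨(z' : H), hzC⟩ :
        Subgroup.centralizer ({(i' : H), (j' : H)} : Set H)) = 2 := by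
      apply orderOf_eq_prime
      · apply Subtype.ext
        show (z' : H) ^ 2 = 1
        rw [sq]; exact hz'2
      · intro h
        exact hz'H (congrArg Subtype.val h)
    rw [← ho]
    exact orderOf_dvd_natCard _
  have h2M : 2 * Nat.card M ∣
      Nat.card (Subgroup.centralizer ({(i' : H), (j' : H)} : Set H)) :=
    Nat.Coprime.mul_dvd_of_dvd_of_dvd
      (Nat.Coprime.coprime_dvd_right (by norm_num : 2 ∣ 30) hcop).symm h2C hMdvd
  have hS120 : Nat.card S = 120 := by rw [Nat.card_congr eS.toEquiv, card_SL25]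
  have hG₀ : Nat.card G₀ ≤ 120 * Nat.card M := by
    rw [← hSM, ← hS120]
    exact card_sup_le_of_commute S M hcomm
  have hH240 : Nat.card H ≤ 240 * Nat.card M := by
    have h1 := Subgroup.card_mul_index G₀
    rcases hidx with h | h <;> rw [h] at h1 <;> omega
  have h120 : 120 ∣ Nat.card H := by
    rw [← hN120]; exact Subgroup.card_subgroup_dvd_card N
  have hcardH := card_add_one_of_reg H hreg
  obtain ⟨hk1, hp119⟩ := near_arith_sl p k (Nat.card H) (Nat.card M) _ hp
    (by rw [hcardH, hVk]) hH240 h120 hC2 h2M hC4 Nat.card_pos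
  subst hk1
  rw [pow_one] at hVk
  exact ⟨hp119, hVk, centralizer_comm_of_quat H hfix N z i j hz hz2 hi hj hij hVk⟩

/-- In a module with `p²` elements a submodule is `⊥`, `⊤` or has `p` elements. -/
theorem submodule_card_cases (hV : Nat.card V = p * p) (W : Submodule (ZMod p) V) :
    W = ⊥ ∨ W = ⊤ ∨ Nat.card W = p := by
  have hp : p.Prime := Fact.out
  have hWcard : Nat.card W = p ^ Module.finrank (ZMod p) W := by
    rw [Module.natCard_eq_pow_finrank (K := ZMod p), Nat.card_zmod]
  have hle : Nat.card W ≤ Nat.card V :=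
    Nat.card_le_card_of_injective (fun w : W => (w : V)) Subtype.val_injective
  have hd2 : Module.finrank (ZMod p) W ≤ 2 := by
    rw [hWcard, hV, ← pow_two] at hle
    exact (Nat.pow_le_pow_iff_right hp.one_lt).mp hle
  rcases Nat.lt_or_ge (Module.finrank (ZMod p) W) 1 with h0 | h1
  · left
    have h00 : Module.finrank (ZMod p) W = 0 := by omega
    have h1 : Nat.card W = 1 := by rw [hWcard, h00, pow_zero]
    haveI := (Nat.card_eq_one_iff_unique.mp h1).1
    exact Submodule.eq_bot_of_subsingleton
  · rcases Nat.lt_or_ge (Module.finrank (ZMod p) W) 2 with h1' | h2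
    · right; right
      have h11 : Module.finrank (ZMod p) W = 1 := by omega
      rw [hWcard, h11, pow_one]
    · right; left
      have h22 : Module.finrank (ZMod p) W = 2 := by omega
      have hc : Nat.card W = Nat.card V := by rw [hWcard, hV, h22, pow_two]
      rw [eq_top_iff]
      intro v _
      have hbij : Function.Bijective (fun w : W => (w : V)) :=
        (Nat.bijective_iff_injective_and_card _).mpr ⟨Subtype.val_injective, hc⟩
      obtain ⟨w, hw⟩ := hbij.2 v
      rw [← hw]
      exact w.2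

end Cases

end Cfsg.Agent.Helper12
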