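import Mathlib
import Cfsg.Agent.Helper12.NearQ8
import Cfsg.Agent.Helper12.Idx2
import Cfsg.Agent.Helper29.SL23
import Cfsg.Agent.S0685

set_option autoImplicit false

/-!
# Exceptional soluble near-fields: structure of the group

`H ≤ GL(V)` regular on the nonzero vectors with a normal quaternion subgroup `N` of order
eight: recognition of `SL(2,3)` and `SL(2,3) × C₅`, and normal subgroups of index two in the
other cases.
-/

namespace Cfsg.Agent.Helper12

open Cfsg.Agent.Helper56

section Quaternion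

open QuaternionGroup

theorem q8_triple_dec : ∀ a b d : QuaternionGroup 2, b ≠ a → b ≠ a⁻¹ → d ≠ b → d ≠ b⁻¹ →
    d ≠ a → d ≠ a⁻¹ → (a * a = 1 ↔ b * b = 1) → (b * b = 1 ↔ d * d = 1) →
    a * a * a * a = 1 ∧ a * a ≠ 1 ∧ b * a * b⁻¹ = a⁻¹ ∧ b * b = a * a ∧
      (d = a * b ∨ d = b * a) := by decide

theorem q8_triple {N : Type*} [Group N] (e : N ≃* QuaternionGroup 2) (a b d : N) (h1 : b ≠ a)
    (h2 : b ≠ a⁻¹) (h3 : d ≠ b) (h4 : d ≠ b⁻¹) (h5 : d ≠ a) (h6 : d ≠ a⁻¹)
    (h7 : a * a = 1 ↔ b * b = 1) (h8 : b * b = 1 ↔ d * d = 1) :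
    a * a * a * a = 1 ∧ a * a ≠ 1 ∧ b * a * b⁻¹ = a⁻¹ ∧ b * b = a * a ∧
      (d = a * b ∨ d = b * a) := by
  have hinj := e.injective
  have hone : ∀ x : N, e x * e x = 1 ↔ x * x = 1 := by
    intro x
    rw [← map_mul, map_eq_one_iff e hinj]
  have key := q8_triple_dec (e a) (e b) (e d) (fun h => h1 (hinj h))
    (fun h => h2 (hinj (by rw [h, map_inv]))) (fun h => h3 (hinj h))
    (fun h => h4 (hinj (by rw [h, map_inv]))) (fun h => h5 (hinj h))
    (fun h => h6 (hinj (by rw [h, map_inv])))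
    (by rw [hone, hone]; exact h7) (by rw [hone, hone]; exact h8)
  obtain ⟨k1, k2, k3, k4, k5⟩ := key
  refine ⟨hinj (by rw [map_mul, map_mul, map_mul, k1, map_one]),
    fun h => k2 (by rw [← map_mul, h, map_one]),
    hinj (by rw [map_mul, map_mul, map_inv, k3, map_inv]),
    hinj (by rw [map_mul, map_mul, k4]), ?_⟩
  rcases k5 with k | k
  · left; exact hinj (by rw [k, map_mul])
  · right; exact hinj (by rw [k, map_mul])

theorem q8_swap_words : ∀ x : QuaternionGroup 2, x = 1 ∨ x = a 1 ∨ x = a 1 * a 1 ∨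
    x = a 1 * a 1 * a 1 ∨ x = xa 0 ∨ x = xa 0 * a 1 ∨ x = xa 0 * a 1 * a 1 ∨
    x = xa 0 * a 1 * a 1 * a 1 := by decide

/-- The automorphism of `Q₈` exchanging the two standard generators is an odd permutation. -/
theorem q8_swap_sign (φ : QuaternionGroup 2 ≃* QuaternionGroup 2) (h1 : φ (a 1) = xa 0)
    (h2 : φ (xa 0) = a 1) : Equiv.Perm.sign φ.toEquiv = -1 := by
  have hφ : φ.toEquiv = Equiv.swap (a 1 : QuaternionGroup 2) (xa 0) *
      Equiv.swap (a 3 : QuaternionGroup 2) (xa 2) *
      Equiv.swap (xa 1 : QuaternionGroup 2) (xa 3) := by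
    ext x
    show φ x = _
    rcases q8_swap_words x with rfl | rfl | rfl | rfl | rfl | rfl | rfl | rfl
    · rw [map_one]; decide
    · rw [h1]; decide
    · rw [map_mul, h1]; decide
    · rw [map_mul, map_mul, h1]; decide
    · rw [h2]; decide
    · rw [map_mul, h1, h2]; decide
    · rw [map_mul, map_mul, h1, h2]; decide
    · rw [map_mul, map_mul, map_mul, h1, h2]; decide
  rw [hφ, map_mul, map_mul, Equiv.Perm.sign_swap (by decide), Equiv.Perm.sign_swap (by decide),
    Equiv.Perm.sign_swap (by decide)]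
  decide

end Quaternion

section Abstract

variable {H : Type*} [Group H]

/-- An element of order three not centralising a normal quaternion subgroup satisfies, with a
suitable element of order four, the defining relations of `SL(2,3)`. -/
theorem exists_sl23Rel (N : Subgroup H) [hNn : N.Normal] (e : N ≃* QuaternionGroup 2) (γ : H)
    (hγ3 : γ ^ 3 = 1) (hγ : γ ∉ Subgroup.centralizer (N : Set H)) :
    ∃ α ∈ N, Cfsg.Agent.Helper29.SL23Rel α γ := by
  have hφ : ∀ n : N, ((MulAut.conjNormal γ n : N) : H) = γ * n * γ⁻¹ :=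
    fun n => MulAut.conjNormal_apply γ n
  have hφ3 : ∀ n : N, MulAut.conjNormal γ (MulAut.conjNormal γ (MulAut.conjNormal γ n)) = n := by
    intro n
    apply Subtype.ext
    rw [hφ, hφ, hφ]
    have h3' : γ * γ * γ = 1 := by rw [← hγ3, pow_succ, pow_succ, pow_one]
    have h1 : γ * (γ * (γ * (n : H) * γ⁻¹) * γ⁻¹) * γ⁻¹ = (γ * γ * γ) * n * (γ * γ * γ)⁻¹ := by
      simp only [mul_inv_rev, mul_assoc]
    rw [h1, h3', one_mul, inv_one, mul_one]
  generalize hφdef : (MulAut.conjNormal γ : MulAut N) = φ at hφ hφ3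
  have hex : ∃ a : N, φ a ≠ a ∧ φ a ≠ a⁻¹ := by
    by_contra hcon
    push_neg at hcon
    apply hγ
    rw [Subgroup.mem_centralizer_iff]
    intro n hn
    have hfix : φ ⟨n, hn⟩ = ⟨n, hn⟩ := by
      by_cases h : φ ⟨n, hn⟩ = ⟨n, hn⟩
      · exact h
      · have h1 := hcon ⟨n, hn⟩ h
        have h3 := hφ3 ⟨n, hn⟩
        rw [h1, map_inv, h1, inv_inv, h1] at h3
        rw [h1, h3]
    have h2 := congrArg Subtype.val hfix
    rw [hφ] at h2
    calc n * γ = (γ * n * γ⁻¹) * γ := by rw [h2]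
      _ = γ * n := by group
  obtain ⟨a, ha1, ha2⟩ := hex
  obtain ⟨k1, k2, k3, k4, k5⟩ := q8_triple e a (φ a) (φ (φ a)) ha1 ha2
    (fun h => ha1 (φ.injective h))
    (fun h => ha2 (φ.injective (by rw [h, map_inv])))
    (fun h => ha1 (by
      have h' := congrArg φ h
      rw [hφ3] at h'
      exact h'.symm))
    (fun h => ha2 (by
      have h' := congrArg φ h
      rw [hφ3, map_inv] at h'
      exact (inv_eq_iff_eq_inv.mpr h').symm))
    ⟨fun h => by rw [← map_mul, h, map_one], fun h => φ.injective (by rw [map_mul, h, map_one])⟩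
    ⟨fun h => by rw [← map_mul, h, map_one], fun h => φ.injective (by rw [map_mul, h, map_one])⟩
  have K1 : (a : H) * a * a * a = 1 := congrArg Subtype.val k1
  have A4 : (a : H) ^ 4 = 1 := by
    have h : (a : H) ^ 4 = (a : H) * a * a * a := by rw [pow_succ, pow_succ, pow_succ, pow_one]
    rw [h, K1]
  have A2 : (a : H) ^ 2 ≠ 1 := by
    intro h
    apply k2
    apply Subtype.ext
    show (a : H) * a = 1
    rw [← pow_two]
    exact h
  have K3 : γ * a * γ⁻¹ * a * (γ * a * γ⁻¹)⁻¹ = (a : H)⁻¹ := by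
    have h : ((φ a : N) : H) * a * ((φ a : N) : H)⁻¹ = (a : H)⁻¹ := congrArg Subtype.val k3
    rw [hφ] at h
    exact h
  have K4 : (γ * a * γ⁻¹) ^ 2 = (a : H) ^ 2 := by
    have h : ((φ a : N) : H) * ((φ a : N) : H) = (a : H) * a := congrArg Subtype.val k4
    rw [hφ] at h
    rw [pow_two, pow_two]
    exact h
  rcases k5 with k | k
  · have K5 : γ * (γ * a * γ⁻¹) * γ⁻¹ = (a : H) * (γ * a * γ⁻¹) := by
      have h : ((φ (φ a) : N) : H) = (a : H) * ((φ a : N) : H) := congrArg Subtype.val k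
      rw [hφ, hφ] at h
      exact h
    exact ⟨a, a.2, ⟨A4, A2, hγ3, K3, K4, K5⟩⟩
  · have K5 : γ * (γ * a * γ⁻¹) * γ⁻¹ = (γ * a * γ⁻¹) * (a : H) := by
      have h : ((φ (φ a) : N) : H) = ((φ a : N) : H) * (a : H) := congrArg Subtype.val k
      rw [hφ, hφ] at h
      exact h
    have e1 : γ * (a : H)⁻¹ * γ⁻¹ = (γ * a * γ⁻¹)⁻¹ := by group
    refine ⟨(a : H)⁻¹, N.inv_mem a.2, ⟨?_, ?_, hγ3, ?_, ?_, ?_⟩⟩
    · rw [inv_pow, A4, inv_one]
    · intro h
      rw [inv_pow, inv_eq_one] at h
      exact A2 h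
    · rw [e1, inv_inv, inv_inv]
      calc (γ * a * γ⁻¹)⁻¹ * (a : H)⁻¹ * (γ * a * γ⁻¹)
          = (γ * a * γ⁻¹)⁻¹ * (γ * a * γ⁻¹ * a * (γ * a * γ⁻¹)⁻¹) * (γ * a * γ⁻¹) := by rw [K3]
        _ = a := by group
    · rw [e1, inv_pow, inv_pow, K4]
    · have e2 : γ * (γ * (a : H)⁻¹ * γ⁻¹) * γ⁻¹ = (γ * (γ * a * γ⁻¹) * γ⁻¹)⁻¹ := by
        simp only [mul_inv_rev, inv_inv, mul_assoc]
      rw [e2, K5, mul_inv_rev, e1]

/-- `SL(2,3)`: order `24` with a normal quaternion subgroup whose centraliser has order `2`. -/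
theorem sl23_of_card [Finite H] (N : Subgroup H) [hNn : N.Normal] (e : N ≃* QuaternionGroup 2)
    (hH : Nat.card H = 24) (hK : Nat.card (Subgroup.centralizer (N : Set H)) = 2) :
    Nonempty (H ≃* Matrix.SpecialLinearGroup (Fin 2) (ZMod 3)) := by
  haveI : Fact (Nat.Prime 3) := ⟨by norm_num⟩
  obtain ⟨γ, hγ⟩ := exists_prime_orderOf_dvd_card' (G := H) 3 (by rw [hH]; norm_num)
  have hγ3 : γ ^ 3 = 1 := by rw [← hγ]; exact pow_orderOf_eq_one γ
  have hγK : γ ∉ Subgroup.centralizer (N : Set H) := by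
    intro hmem
    have h1 := Subgroup.orderOf_dvd_natCard _ hmem
    rw [hγ, hK] at h1
    omega
  obtain ⟨α, _, hrel⟩ := exists_sl23Rel N e γ hγ3 hγK
  exact Cfsg.Agent.Helper29.nonempty_mulEquiv_sl23 hH α γ hrel

/-- `SL(2,3) × C₅`: order `120` with a normal quaternion subgroup whose centraliser is abelian
of order `10`. -/
theorem sl23_prod_of_card [Finite H] (N : Subgroup H) [hNn : N.Normal]
    (e : N ≃* QuaternionGroup 2) (hH : Nat.card H = 120)
    (hK : Nat.card (Subgroup.centralizer (N : Set H)) = 10)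
    (hKc : ∀ a ∈ Subgroup.centralizer (N : Set H), ∀ b ∈ Subgroup.centralizer (N : Set H),
      a * b = b * a) :
    Nonempty (H ≃* Matrix.SpecialLinearGroup (Fin 2) (ZMod 3) × Multiplicative (ZMod 5)) := by
  haveI : Fact (Nat.Prime 3) := ⟨by norm_num⟩
  haveI : Fact (Nat.Prime 5) := ⟨by norm_num⟩
  -- the Sylow `5`-subgroup of the centraliser
  obtain ⟨P⟩ : Nonempty (Sylow 5 (Subgroup.centralizer (N : Set H))) := inferInstance
  have hPn : (P : Subgroup (Subgroup.centralizer (N : Set H))).Normal := by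
    constructor
    intro n hn g
    have h1 : g * n = n * g := Subtype.ext (hKc g g.2 n n.2)
    rw [h1, mul_inv_cancel_right]
    exact hn
  haveI := P.characteristic_of_normal hPn
  have hPcard : Nat.card (P : Subgroup (Subgroup.centralizer (N : Set H))) = 5 := by
    obtain ⟨n, hn⟩ := IsPGroup.iff_card.mp P.isPGroup'
    have h1 := Subgroup.card_mul_index (P : Subgroup (Subgroup.centralizer (N : Set H)))
    rw [hK] at h1
    have h2 : ¬ 5 ∣ (P : Subgroup (Subgroup.centralizer (N : Set H))).index := P.not_dvd_index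
    rcases n with _ | _ | n
    · exfalso
      rw [pow_zero] at hn
      rw [hn, one_mul] at h1
      rw [h1] at h2
      omega
    · rw [hn]; norm_num
    · exfalso
      have h3 : 25 ≤ Nat.card (P : Subgroup (Subgroup.centralizer (N : Set H))) := by
        rw [hn]
        calc 25 = 5 ^ 2 := by norm_num
          _ ≤ 5 ^ (n + 1 + 1) := Nat.pow_le_pow_right (by norm_num) (by omega)
      have h4 : Nat.card (P : Subgroup (Subgroup.centralizer (N : Set H))) ≤ 10 :=
        Nat.le_of_dvd (by norm_num) (Dvd.intro _ h1)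
      omega
  have hRn : ((P : Subgroup (Subgroup.centralizer (N : Set H))).map
      (Subgroup.centralizer (N : Set H)).subtype).Normal :=
    ConjAct.normal_of_characteristic_of_normal
  have hRcard : Nat.card ((P : Subgroup (Subgroup.centralizer (N : Set H))).map
      (Subgroup.centralizer (N : Set H)).subtype) = 5 := by
    rw [Subgroup.card_map_of_injective (Subgroup.subtype_injective _), hPcard]
  have hRle : (P : Subgroup (Subgroup.centralizer (N : Set H))).map
      (Subgroup.centralizer (N : Set H)).subtype ≤ Subgroup.centralizer (N : Set H) :=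
    Subgroup.map_subtype_le _
  generalize (P : Subgroup (Subgroup.centralizer (N : Set H))).map
      (Subgroup.centralizer (N : Set H)).subtype = R at hRn hRcard hRle
  -- an element of order three
  obtain ⟨γ, hγ⟩ := exists_prime_orderOf_dvd_card' (G := H) 3 (by rw [hH]; norm_num)
  have hγ3 : γ ^ 3 = 1 := by rw [← hγ]; exact pow_orderOf_eq_one γ
  have hγK : γ ∉ Subgroup.centralizer (N : Set H) := by
    intro hmem
    have h1 := Subgroup.orderOf_dvd_natCard _ hmem
    rw [hγ, hK] at h1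
    omega
  obtain ⟨α, hαN, hrel⟩ := exists_sl23Rel N e γ hγ3 hγK
  -- `γ` centralises `R`
  have hγR : ∀ r ∈ R, γ * r = r * γ := by
    haveI : IsCyclic R := isCyclic_of_prime_card hRcard
    have hcard : Nat.card (MulAut R) = 4 := by
      rw [IsCyclic.card_mulAut, hRcard, Nat.totient_prime (by norm_num)]
    have h1 : (MulAut.conjNormal γ : MulAut R) ^ 3 = 1 := by rw [← map_pow, hγ3, map_one]
    have h2 : orderOf (MulAut.conjNormal γ : MulAut R) ∣ 3 := orderOf_dvd_of_pow_eq_one h1
    have h3 : orderOf (MulAut.conjNormal γ : MulAut R) ∣ 4 := by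
      rw [← hcard]; exact orderOf_dvd_natCard _
    have h4 : orderOf (MulAut.conjNormal γ : MulAut R) = 1 := by
      have h5 := Nat.dvd_gcd h2 h3
      exact Nat.dvd_one.mp h5
    have h5 : (MulAut.conjNormal γ : MulAut R) = 1 := orderOf_eq_one_iff.mp h4
    intro r hr
    have h6 : ((MulAut.conjNormal γ ⟨r, hr⟩ : R) : H) = r := by rw [h5]; rfl
    rw [MulAut.conjNormal_apply] at h6
    calc γ * r = (γ * r * γ⁻¹) * γ := by group
      _ = r * γ := by rw [h6]
  have hαR : ∀ r ∈ R, α * r = r * α := fun r hr =>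
    (Subgroup.mem_centralizer_iff.mp (hRle hr)) α hαN
  have hTR : Subgroup.closure ({α, γ} : Set H) ≤ Subgroup.centralizer (R : Set H) := by
    rw [Subgroup.closure_le]
    rintro x (rfl | rfl)
    · exact Subgroup.mem_centralizer_iff.mpr (fun r hr => (hαR r hr).symm)
    · exact Subgroup.mem_centralizer_iff.mpr (fun r hr => (hγR r hr).symm)
  have hTcard := hrel.card_eq
  have hα : α ∈ Subgroup.closure ({α, γ} : Set H) := Subgroup.subset_closure (by simp)
  have hγmem : γ ∈ Subgroup.closure ({α, γ} : Set H) := Subgroup.subset_closure (by simp)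
  have hrelT : Cfsg.Agent.Helper29.SL23Rel (⟨α, hα⟩ : Subgroup.closure ({α, γ} : Set H))
      ⟨γ, hγmem⟩ := by
    refine ⟨Subtype.ext hrel.a4, fun h => hrel.a2 (congrArg Subtype.val h), Subtype.ext hrel.c3,
      Subtype.ext hrel.inv, Subtype.ext hrel.sq, Subtype.ext hrel.conj⟩
  obtain ⟨eT⟩ := Cfsg.Agent.Helper29.nonempty_mulEquiv_sl23 hTcard _ _ hrelT
  generalize Subgroup.closure ({α, γ} : Set H) = T at hTR hTcard eT
  have hcomm : ∀ (t : T) (r : R), Commute (T.subtype t) (R.subtype r) := by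
    intro t r
    exact ((Subgroup.mem_centralizer_iff.mp (hTR t.2)) r r.2).symm
  have hinj : Function.Injective (MonoidHom.noncommCoprod T.subtype R.subtype hcomm) := by
    rw [MonoidHom.noncommCoprod_injective]
    refine ⟨Subgroup.subtype_injective _, Subgroup.subtype_injective _, ?_⟩
    rw [Subgroup.range_subtype, Subgroup.range_subtype]
    apply Subgroup.disjoint_of_coprime_natCard
    rw [hTcard, hRcard]
    norm_num
  have hbij : Function.Bijective (MonoidHom.noncommCoprod T.subtype R.subtype hcomm) := by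
    rw [Nat.bijective_iff_injective_and_card]
    refine ⟨hinj, ?_⟩
    rw [Nat.card_prod, hTcard, hRcard, hH]
  have eR : R ≃* Multiplicative (ZMod 5) := mulEquivOfPrimeCardEq (p := 5) hRcard
    ((Nat.card_congr (Multiplicative.toAdd (α := ZMod 5))).trans (Nat.card_zmod 5))
  exact ⟨(MulEquiv.ofBijective _ hbij).symm.trans (MulEquiv.prodCongr eT eR)⟩

end Abstract

end Cfsg.Agent.Helper12
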