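import Mathlib
import Cfsg.Agent.Helper12.NearSL

set_option autoImplicit false

/-!
# Exceptional soluble near-fields: the quaternion subgroup and index two

* the conjugation action on the non-commuting pairs of a normal quaternion subgroup is
  transitive when the centraliser has index `24`; an element exchanging the two generators is
  an odd permutation of the subgroup, whence a normal subgroup of index two;
* the structure of a soluble regular linear group without irreducible cyclic normal subgroup.
-/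

namespace Cfsg.Agent.Helper12

open Cfsg.Agent.Helper56

section Abstract

variable {H : Type*} [Group H]

/-- If the centraliser of a normal quaternion subgroup has index `24`, conjugation is
transitive on its non-commuting pairs. -/
theorem exists_conj_pair (N : Subgroup H) [hNn : N.Normal] (e : N ≃* QuaternionGroup 2)
    (hidx : (Subgroup.centralizer (N : Set H)).index = 24) (x y : NCPairs N) :
    ∃ g : H, MulAut.conjNormal g x.1.1 = y.1.1 ∧ MulAut.conjNormal g x.1.2 = y.1.2 := by
  classical
  letI : MulAction H (NCPairs N) :=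
    { smul := fun h x => ⟨(MulAut.conjNormal h x.1.1, MulAut.conjNormal h x.1.2), fun hc => x.2
          ((MulAut.conjNormal h : MulAut N).injective (by rw [map_mul, map_mul]; exact hc))⟩
      one_smul := fun x => by
        apply Subtype.ext
        apply Prod.ext
        · show (MulAut.conjNormal (1 : H) : MulAut N) x.1.1 = x.1.1
          rw [map_one]; rfl
        · show (MulAut.conjNormal (1 : H) : MulAut N) x.1.2 = x.1.2
          rw [map_one]; rfl
      mul_smul := fun g h x => by
        apply Subtype.ext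
        apply Prod.ext
        · show (MulAut.conjNormal (g * h) : MulAut N) x.1.1 =
            MulAut.conjNormal g (MulAut.conjNormal h x.1.1)
          rw [map_mul]; rfl
        · show (MulAut.conjNormal (g * h) : MulAut N) x.1.2 =
            MulAut.conjNormal g (MulAut.conjNormal h x.1.2)
          rw [map_mul]; rfl }
  have hsmul1 : ∀ (h : H) (x : NCPairs N), (((h • x : NCPairs N).1.1 : N) : H) =
      h * (x.1.1 : H) * h⁻¹ := fun h x => MulAut.conjNormal_apply h x.1.1
  have hsmul2 : ∀ (h : H) (x : NCPairs N), (((h • x : NCPairs N).1.2 : N) : H) =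
      h * (x.1.2 : H) * h⁻¹ := fun h x => MulAut.conjNormal_apply h x.1.2
  have hstab : ∀ x : NCPairs N,
      MulAction.stabilizer H x = Subgroup.centralizer (N : Set H) := by
    intro x
    ext h
    rw [MulAction.mem_stabilizer_iff, Subgroup.mem_centralizer_iff]
    constructor
    · intro hx n hn
      have h1 : h * (x.1.1 : H) * h⁻¹ = x.1.1 := by rw [← hsmul1, hx]
      have h2 : h * (x.1.2 : H) * h⁻¹ = x.1.2 := by rw [← hsmul2, hx]
      have c1 : Commute h (N.subtype x.1.1) := by
        show h * (x.1.1 : H) = (x.1.1 : H) * h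
        calc h * (x.1.1 : H) = (h * (x.1.1 : H) * h⁻¹) * h := by group
          _ = (x.1.1 : H) * h := by rw [h1]
      have c2 : Commute h (N.subtype x.1.2) := by
        show h * (x.1.2 : H) = (x.1.2 : H) * h
        calc h * (x.1.2 : H) = (h * (x.1.2 : H) * h⁻¹) * h := by group
          _ = (x.1.2 : H) * h := by rw [h2]
      exact (q8_commute_all e N.subtype h x.1.1 x.1.2 x.2 c1 c2 ⟨n, hn⟩).eq.symm
    · intro hc
      apply Subtype.ext
      apply Prod.ext
      · apply Subtype.ext
        rw [hsmul1, ← hc _ x.1.1.2, mul_inv_cancel_right]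
      · apply Subtype.ext
        rw [hsmul2, ← hc _ x.1.2.2, mul_inv_cancel_right]
  have hcard : Nat.card (NCPairs N) = 24 := by
    rw [← q8_pairs_card, ← Nat.card_eq_fintype_card]
    apply Nat.card_congr
    refine Equiv.subtypeEquiv (Equiv.prodCongr e.toEquiv e.toEquiv) ?_
    intro a
    show a.1 * a.2 ≠ a.2 * a.1 ↔ e a.1 * e a.2 ≠ e a.2 * e a.1
    rw [← map_mul, ← map_mul, Ne, Ne, e.injective.eq_iff]
  haveI : Finite N := Finite.of_equiv _ e.symm.toEquiv
  have h1 := MulAction.index_stabilizer H x
  rw [hstab x, hidx] at h1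
  have huniv : MulAction.orbit H x = Set.univ :=
    (Set.eq_univ_iff_ncard _).mpr (by rw [← h1, hcard])
  have hy : y ∈ MulAction.orbit H x := by rw [huniv]; trivial
  obtain ⟨g, hg⟩ := hy
  exact ⟨g, congrArg (fun z : NCPairs N => z.1.1) hg, congrArg (fun z : NCPairs N => z.1.2) hg⟩

/-- If the centraliser of a normal quaternion subgroup has index `24`, the group has a normal
subgroup of index two. -/
theorem exists_index_two_of_q8_index (N : Subgroup H) [hNn : N.Normal]
    (e : N ≃* QuaternionGroup 2) (hidx : (Subgroup.centralizer (N : Set H)).index = 24) :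
    ∃ M : Subgroup H, M.Normal ∧ M.index = 2 := by
  classical
  haveI : Finite N := Finite.of_equiv _ e.symm.toEquiv
  letI := Fintype.ofFinite N
  have hne : e.symm (QuaternionGroup.a 1) * e.symm (QuaternionGroup.xa 0) ≠
      e.symm (QuaternionGroup.xa 0) * e.symm (QuaternionGroup.a 1) := by
    intro h
    rw [← map_mul, ← map_mul] at h
    exact absurd (e.symm.injective h) (by decide)
  obtain ⟨g, hg1, hg2⟩ := exists_conj_pair N e hidx
    ⟨(e.symm (QuaternionGroup.a 1), e.symm (QuaternionGroup.xa 0)), hne⟩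
    ⟨(e.symm (QuaternionGroup.xa 0), e.symm (QuaternionGroup.a 1)), fun h => hne h.symm⟩
  have hs := q8_swap_sign ((e.symm.trans (MulAut.conjNormal g : MulAut N)).trans e)
    (by
      show e (MulAut.conjNormal g (e.symm (QuaternionGroup.a 1))) = QuaternionGroup.xa 0
      rw [hg1, MulEquiv.apply_symm_apply])
    (by
      show e (MulAut.conjNormal g (e.symm (QuaternionGroup.xa 0))) = QuaternionGroup.a 1
      rw [hg2, MulEquiv.apply_symm_apply])
  have h2 := Equiv.Perm.sign_symm_trans_trans (MulAut.toPerm N (MulAut.conjNormal g)) e.toEquiv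
  have hχ : ((Equiv.Perm.sign (α := N)).comp
      ((MulAut.toPerm N).comp (MulAut.conjNormal : H →* MulAut N))) g = -1 := by
    show Equiv.Perm.sign (MulAut.toPerm N (MulAut.conjNormal g)) = -1
    rw [← h2]
    exact hs
  exact ⟨_, MonoidHom.normal_ker _, index_two_ker_of_neg_one _ g hχ⟩

end Abstract

theorem near_sl_arith (p c m : ℕ) (hp : p = 5 ∨ p = 7 ∨ p = 11 ∨ p = 23)
    (hcm : c * m + 1 = p * p) (hc1 : c ∣ p - 1) (hc4 : ¬ 4 ∣ c) (hc2 : 2 ∣ c) (hm : m ∣ 24) :
    (p = 5 ∧ c = 2 ∧ m = 12) ∨ (p = 7 ∧ (m = 24 ∨ m = 8)) ∨ (p = 11 ∧ c = 10 ∧ m = 12) ∨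
      (p = 23 ∧ m = 24) := by
  have hm24 : m ≤ 24 := Nat.le_of_dvd (by norm_num) hm
  have hc0 : 0 < c := by
    rcases Nat.eq_zero_or_pos c with h | h
    · exfalso
      subst h
      rcases hp with rfl | rfl | rfl | rfl <;> omega
    · exact h
  rcases hp with rfl | rfl | rfl | rfl
  · have h1 : c ≤ 4 := Nat.le_of_dvd (by norm_num) hc1
    interval_cases c <;> omega
  · have h1 : c ≤ 6 := Nat.le_of_dvd (by norm_num) hc1
    interval_cases c <;> omega
  · have h1 : c ≤ 10 := Nat.le_of_dvd (by norm_num) hc1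
    interval_cases c <;> omega
  · have h1 : c ≤ 22 := Nat.le_of_dvd (by norm_num) hc1
    interval_cases c <;> omega

section Lin

variable {p : ℕ} [Fact p.Prime] {V : Type*} [AddCommGroup V] [Module (ZMod p) V] [Finite V]

/-- The centraliser of a normal quaternion subgroup of a regular linear group on `p²` points:
its order divides `p - 1`, is even and is not divisible by four. -/
theorem q8_centralizer_facts (H : Subgroup (V ≃ₗ[ZMod p] V))
    (hreg : ∀ v w : V, v ≠ 0 → w ≠ 0 → ∃! h : H, (h : V ≃ₗ[ZMod p] V) v = w)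
    (N : Subgroup H) (e : N ≃* QuaternionGroup 2) (hV : Nat.card V = p * p) :
    Nat.card (Subgroup.centralizer (N : Set H)) ∣ p - 1 ∧
      ¬ 4 ∣ Nat.card (Subgroup.centralizer (N : Set H)) ∧
      2 ∣ Nat.card (Subgroup.centralizer (N : Set H)) := by
  have hp : p.Prime := Fact.out
  haveI : Finite (V ≃ₗ[ZMod p] V) := finite_linEquiv
  have hfix := hfix_of_reg H hreg
  have q1 : (QuaternionGroup.a 2 : QuaternionGroup 2) * QuaternionGroup.a 2 = 1 := by decide
  have q2 : (QuaternionGroup.a 2 : QuaternionGroup 2) ≠ 1 := by decide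
  have q3 : (QuaternionGroup.a 1 : QuaternionGroup 2) * QuaternionGroup.a 1 =
      QuaternionGroup.a 2 := by decide
  have q4 : (QuaternionGroup.xa 0 : QuaternionGroup 2) * QuaternionGroup.xa 0 =
      QuaternionGroup.a 2 := by decide
  have q5 : (QuaternionGroup.a 1 : QuaternionGroup 2) * QuaternionGroup.xa 0 =
      QuaternionGroup.a 2 * (QuaternionGroup.xa 0 * QuaternionGroup.a 1) := by decide
  have hz : e.symm (QuaternionGroup.a 2) ≠ 1 := by
    intro h
    apply q2
    have h1 := congrArg e h
    rw [MulEquiv.apply_symm_apply, map_one] at h1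
    exact h1
  have hz2 : e.symm (QuaternionGroup.a 2) * e.symm (QuaternionGroup.a 2) = 1 := by
    rw [← map_mul, q1, map_one]
  have hi : e.symm (QuaternionGroup.a 1) * e.symm (QuaternionGroup.a 1) =
      e.symm (QuaternionGroup.a 2) := by rw [← map_mul, q3]
  have hj : e.symm (QuaternionGroup.xa 0) * e.symm (QuaternionGroup.xa 0) =
      e.symm (QuaternionGroup.a 2) := by rw [← map_mul, q4]
  have hij : e.symm (QuaternionGroup.a 1) * e.symm (QuaternionGroup.xa 0) =
      e.symm (QuaternionGroup.a 2) * (e.symm (QuaternionGroup.xa 0) *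
        e.symm (QuaternionGroup.a 1)) := by rw [← map_mul, ← map_mul, ← map_mul, q5]
  generalize e.symm (QuaternionGroup.a 2) = z at hz hz2 hi hj hij
  generalize e.symm (QuaternionGroup.a 1) = i at hi hij
  generalize e.symm (QuaternionGroup.xa 0) = j at hj hij
  have hzH : (z : H) ≠ 1 := fun h => hz (Subtype.ext h)
  have hzH2 : (z : H) * z = 1 := congrArg Subtype.val hz2
  haveI : Nontrivial V := nontrivial_of_ne H hzH
  obtain ⟨hp2, hi', hj', hij'⟩ := quat_lin_of_rel H hfix (z : H) i j hzH hzH2
    (congrArg Subtype.val hi) (congrArg Subtype.val hj) (congrArg Subtype.val hij)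
  obtain ⟨k, hVk, hC2⟩ := quat_centralizer_card hp2 H hfix (i : H) j hi' hj' hij'
  have hC4 := quat_centralizer_not_four hp2 H hfix (i : H) j hi' hj' hij'
  have hKle : Subgroup.centralizer (N : Set H) ≤
      Subgroup.centralizer ({(i : H), (j : H)} : Set H) := by
    apply Subgroup.centralizer_le
    intro g hg
    rcases hg with rfl | rfl
    · exact i.2
    · exact j.2
  have hpk : p ^ k = p := by
    rw [hV] at hVk
    exact (Nat.mul_self_inj.mp hVk).symm
  rw [hpk] at hC2
  have hρ := lin_fpf H hfix
  have hzK : (z : H) ∈ Subgroup.centralizer (N : Set H) := by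
    rw [Subgroup.mem_centralizer_iff]
    intro g _
    exact hρ.invol_comm hzH hzH2 g
  have h2K : 2 ∣ Nat.card (Subgroup.centralizer (N : Set H)) := by
    have ho : orderOf (⟨(z : H), hzK⟩ : Subgroup.centralizer (N : Set H)) = 2 := by
      apply orderOf_eq_prime
      · apply Subtype.ext
        show (z : H) ^ 2 = 1
        rw [sq]; exact hzH2
      · intro h
        exact hzH (congrArg Subtype.val h)
    rw [← ho]
    exact orderOf_dvd_natCard _
  exact ⟨(Subgroup.card_dvd_of_le hKle).trans hC2,
    fun h4 => hC4 (h4.trans (Subgroup.card_dvd_of_le hKle)), h2K⟩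

/-- A soluble linear group, regular on the nonzero vectors, without irreducible cyclic normal
subgroup has a normal quaternion subgroup with abelian centraliser, and `|V| = p²` with
`p ∈ {5, 7, 11, 23}`. -/
theorem type_two_structure (H : Subgroup (V ≃ₗ[ZMod p] V))
    (hreg : ∀ v w : V, v ≠ 0 → w ≠ 0 → ∃! h : H, (h : V ≃ₗ[ZMod p] V) v = w)
    (hI : ∀ A : Subgroup H, A.Normal → IsCyclic A → ∃ W : Submodule (ZMod p) V,
      W ≠ ⊥ ∧ W ≠ ⊤ ∧ ∀ a ∈ A, ∀ v ∈ W, ((a : H) : V ≃ₗ[ZMod p] V) v ∈ W)
    (hsolv : Group.IsSolvable H) :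
    ∃ (N : Subgroup H) (_ : N.Normal) (_ : N ≃* QuaternionGroup 2),
      (p = 5 ∨ p = 7 ∨ p = 11 ∨ p = 23) ∧ Nat.card V = p * p ∧
      ∀ a ∈ Subgroup.centralizer (N : Set H), ∀ b ∈ Subgroup.centralizer (N : Set H),
        a * b = b * a := by
  classical
  have hp : p.Prime := Fact.out
  haveI : Finite (V ≃ₗ[ZMod p] V) := finite_linEquiv
  have hfix := hfix_of_reg H hreg
  have hbotc : IsMulCommutative (⊥ : Subgroup H) := by
    rw [isMulComm_sub_iff]
    intro a ha b hb
    rw [Subgroup.mem_bot] at ha hb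
    rw [ha, hb]
  haveI : Nontrivial V := by
    obtain ⟨W, hW0, _, _⟩ := hI ⊥ inferInstance inferInstance
    by_contra h
    rw [not_nontrivial_iff_subsingleton] at h
    apply hW0
    rw [eq_bot_iff]
    intro w _
    rw [Submodule.mem_bot]
    exact Subsingleton.elim _ _
  have hρ := lin_fpf H hfix
  obtain ⟨A, hA⟩ := (Set.toFinite {B : Subgroup H | B.Normal ∧ IsMulCommutative B}).exists_maximal
    ⟨⊥, inferInstance, hbotc⟩
  have hAn : A.Normal := hA.prop.1
  have hAc : IsMulCommutative A := hA.prop.2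
  have hAmax : ∀ B : Subgroup H, B.Normal → IsMulCommutative B → A ≤ B → B = A := by
    intro B hBn hBc hAB
    exact le_antisymm (hA.le_of_ge ⟨hBn, hBc⟩ hAB) hAB
  obtain ⟨_, hCna⟩ := Cfsg.Agent.S0685.result H hreg hI A hAn hAc hAmax
  haveI := hAn
  obtain ⟨N, hN⟩ := (Set.toFinite {M : Subgroup H | M.Normal ∧
      M ≤ Subgroup.centralizer (A : Set H) ∧ ¬ IsMulCommutative M}).exists_minimal
    ⟨Subgroup.centralizer (A : Set H), inferInstance, le_refl _, hCna⟩
  have hNn : N.Normal := hN.prop.1
  have hNle : N ≤ Subgroup.centralizer (A : Set H) := hN.prop.2.1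
  have hNna : ¬ IsMulCommutative N := hN.prop.2.2
  have hNmin : ∀ M : Subgroup H, M.Normal → M ≤ N → ¬ IsMulCommutative M → M = N := by
    intro M hMn hMN hMna
    exact le_antisymm hMN (hN.le_of_le ⟨hMn, hMN.trans hNle, hMna⟩ hMN)
  have hna : ∃ x y : N, x * y ≠ y * x := by
    by_contra h
    push_neg at h
    exact hNna (isMulCommutative_iff.mpr h)
  rcases fpf_min_nonabelian hρ A hAn hAc hAmax N hNn hNle hNna hNmin with
    ⟨_, ⟨e⟩⟩ | ⟨hperf, _⟩
  swap
  · exfalso
    haveI := hsolv
    haveI : Nontrivial N := by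
      obtain ⟨x, y, hxy⟩ := hna
      exact ⟨⟨x * y, y * x, hxy⟩⟩
    exact (Group.IsSolvable.commutator_lt_top_of_nontrivial (G := N)).ne hperf
  obtain ⟨hpl, hV, hKc⟩ := q8_case H hreg N hNn e
  refine ⟨N, hNn, e, ?_, hV, hKc⟩
  rcases hpl with h | h | h | h | h
  · exfalso
    have hcardH := card_add_one_of_reg H hreg
    have hpp : p * p = 9 := by rw [h]
    have hV9 : Nat.card V = 9 := hV.trans hpp
    have hH8 : Nat.card H = 8 := by omega
    have ho : orderOf ((e.symm (QuaternionGroup.a 1) : N) : H) = 4 := by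
      rw [Subgroup.orderOf_coe, MulEquiv.orderOf_eq, QuaternionGroup.orderOf_a_one]
    have hB4 : Nat.card (Subgroup.zpowers ((e.symm (QuaternionGroup.a 1) : N) : H)) = 4 := by
      rw [Nat.card_zpowers, ho]
    have hBidx : (Subgroup.zpowers ((e.symm (QuaternionGroup.a 1) : N) : H)).index = 2 := by
      have h1 := Subgroup.card_mul_index (Subgroup.zpowers ((e.symm (QuaternionGroup.a 1) : N) : H))
      rw [hB4, hH8] at h1
      omega
    have hBn := Subgroup.normal_of_index_eq_two hBidx
    obtain ⟨W, hW0, hW1, hWinv⟩ := hI _ hBn inferInstance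
    have hdvd := card_dvd_of_invariant H hfix _ W hWinv
    rw [hB4] at hdvd
    rcases submodule_card_cases hV W with h' | h' | h'
    · exact hW0 h'
    · exact hW1 h'
    · rw [h', h] at hdvd
      omega
  · exact Or.inl h
  · exact Or.inr (Or.inl h)
  · exact Or.inr (Or.inr (Or.inl h))
  · exact Or.inr (Or.inr (Or.inr h))

end Lin

end Cfsg.Agent.Helper12
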