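import Mathlib

/-!
CALL S0997 (helper79) -- PIECE NA2 (helper12, double of helper41): arithmetic of case (α), the order.
-/

set_option autoImplicit false

namespace Cfsg.Agent.Helper12

/-- NA2 -/
theorem s997_num_alpha_order (p q e b g₀ n : ℕ) (hp : p.Prime) (hq : q.Prime)
    (hpe : p = 2 * e + 1) (he3 : 3 ≤ e) (heo : ¬ 2 ∣ e)
    (hq1 : q ∣ p + 1) (hq2 : q ∣ p - 1) (heg : e ∣ g₀) (hg : g₀ < p - 1)
    (hord : q ^ b * g₀ = e * (1 + n * p)) (hdvd : p + 1 ∣ p * (e * (1 + n * p))) :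
    q = 2 ∧ g₀ = e ∧ 1 + n * p = 2 ^ b ∧ ∃ m : ℕ, p = 2 ^ m - 1 := by
  have hp2 := hp.two_le
  -- `q = 2`
  have hq2' : q ∣ 2 := by
    have h1 : p + 1 = (p - 1) + 2 := by omega
    rw [h1] at hq1
    exact (Nat.dvd_add_right hq2).mp hq1
  have hq2'' : q = 2 := (Nat.prime_dvd_prime_iff_eq hq Nat.prime_two).mp hq2'
  subst hq2''
  -- `g₀ > 0`
  have hg0 : 0 < g₀ := by
    rcases Nat.eq_zero_or_pos g₀ with h | h
    · exfalso
      rw [h, mul_zero] at hord
      have : 0 < e * (1 + n * p) := by positivity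
      omega
    · exact h
  -- `g₀ = e`
  have hge : g₀ = e := by
    obtain ⟨k, hk⟩ := heg
    have hk1 : 1 ≤ k := by
      rcases Nat.eq_zero_or_pos k with h | h
      · rw [h, mul_zero] at hk; omega
      · exact h
    have hk2 : k < 2 := by
      by_contra hcon
      have h2 : 2 ≤ k := by omega
      have : e * 2 ≤ e * k := Nat.mul_le_mul_left e h2
      omega
    have : k = 1 := by omega
    rw [hk, this, mul_one]
  -- `1 + n p = 2 ^ b`
  have hnp : 1 + n * p = 2 ^ b := by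
    rw [hge] at hord
    have h1 : e * 2 ^ b = e * (1 + n * p) := by rw [← hord]; ring
    exact (Nat.eq_of_mul_eq_mul_left (by omega) h1).symm
  -- `e + 1 ∣ 2 ^ b`
  have h1 : e + 1 ∣ p * (e * 2 ^ b) := by
    rw [← hnp]
    refine dvd_trans ?_ hdvd
    exact ⟨2, by omega⟩
  have hcop_p : Nat.Coprime (e + 1) p := by
    rw [Nat.coprime_comm]
    apply (Nat.Prime.coprime_iff_not_dvd hp).2
    intro h
    have := Nat.le_of_dvd (by omega) h
    omega
  have hcop_e : Nat.Coprime (e + 1) e := by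
    rw [Nat.coprime_comm]
    have : Nat.Coprime e (e + 1) := by
      rw [Nat.coprime_self_add_right]; exact Nat.coprime_one_right e
    exact this
  have h2 : e + 1 ∣ e * 2 ^ b := hcop_p.dvd_of_dvd_mul_left h1
  have h3 : e + 1 ∣ 2 ^ b := hcop_e.dvd_of_dvd_mul_left h2
  obtain ⟨k, hkb, hk⟩ := (Nat.dvd_prime_pow Nat.prime_two).mp h3
  refine ⟨rfl, hge, hnp, k + 1, ?_⟩
  rw [pow_succ, ← hk]
  omega

end Cfsg.Agent.Helper12
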