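import Mathlib

set_option autoImplicit false

namespace Cfsg.Agent.Helper12

open MulAction

section Sharp2

variable {G : Type*} [Group G] {α : Type*} [MulAction G α]

/-- The fixed-point-free elements of an action. -/
def fpf (G : Type*) [Group G] (α : Type*) [MulAction G α] : Set G := {g | ∀ a : α, g • a ≠ a}

theorem conj_mem_fpf {g : G} (hg : g ∈ fpf G α) (h : G) : h * g * h⁻¹ ∈ fpf G α := by
  intro a ha
  apply hg (h⁻¹ • a)
  rw [mul_smul, mul_smul, smul_eq_iff_eq_inv_smul] at ha
  exact ha

theorem one_notMem_fpf [Nonempty α] : (1 : G) ∉ fpf G α := by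
  intro h
  obtain ⟨a⟩ := ‹Nonempty α›
  exact h a (one_smul G a)

/-- Burnside count: in a transitive action where non-identity elements fix at most one point,
the number of fixed-point-free elements is one less than the degree. -/
theorem ncard_fpf_add_one [Finite G] [Fintype α] [Nonempty α] (htr : IsPretransitive G α)
    (hsharp : ∀ (g : G) (a b : α), a ≠ b → g • a = a → g • b = b → g = 1)
    (h2 : 2 ≤ Fintype.card α) :
    (fpf G α).ncard + 1 = Fintype.card α := by
  classical
  have := Fintype.ofFinite G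
  have hq : Fintype.card (orbitRel.Quotient G α) = 1 := by
    have hu := (pretransitive_iff_unique_quotient_of_nonempty G α).mp htr
    obtain ⟨u⟩ := hu
    exact Fintype.card_eq_one_iff.mpr ⟨u.default, fun y => u.uniq y⟩
  have hB := sum_card_fixedBy_eq_card_orbits_mul_card_group G α
  rw [hq, one_mul] at hB
  have key : ∀ g : G, Fintype.card (fixedBy α g) + (if g ∈ fpf G α then 1 else 0)
      = 1 + (if g = 1 then (Fintype.card α - 1) else 0) := by
    intro g
    by_cases hg1 : g = 1
    · subst hg1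
      rw [if_neg one_notMem_fpf, if_pos rfl]
      have : Fintype.card (fixedBy α (1 : G)) = Fintype.card α := by
        rw [← Nat.card_eq_fintype_card, ← Nat.card_eq_fintype_card, Nat.card_coe_set_eq,
          fixedBy_one_eq_univ, Set.ncard_univ, Nat.card_eq_fintype_card]
      omega
    · rw [if_neg hg1]
      by_cases hgf : g ∈ fpf G α
      · rw [if_pos hgf]
        have : Fintype.card (fixedBy α g) = 0 := by
          rw [Fintype.card_eq_zero_iff]
          exact ⟨fun x => hgf x.1 x.2⟩
        omega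
      · rw [if_neg hgf]
        have : Fintype.card (fixedBy α g) = 1 := by
          rw [Fintype.card_eq_one_iff]
          simp only [fpf, Set.mem_ofPred_eq, not_forall, not_not] at hgf
          obtain ⟨a, ha⟩ := hgf
          refine ⟨⟨a, ha⟩, fun y => ?_⟩
          by_contra hne
          apply hg1
          exact hsharp g a y.1 (fun h => hne (Subtype.ext h.symm)) ha y.2
        omega
  have hsum := Finset.sum_congr rfl (fun g (_ : g ∈ Finset.univ) => key g)
  rw [Finset.sum_add_distrib, Finset.sum_add_distrib, hB] at hsum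
  simp only [Finset.sum_const, Finset.card_univ, smul_eq_mul, mul_one, Finset.sum_ite_eq',
    Finset.mem_univ, if_true, Finset.sum_boole] at hsum
  have hF : (fpf G α).ncard = (Finset.univ.filter (fun g => g ∈ fpf G α)).card := by
    rw [← Set.ncard_coe_finset]
    congr 1
    ext g
    simp
  rw [hF]
  simp only [Nat.cast_id] at hsum
  omega

/-- A `p`-subgroup acts semiregularly when `p` divides the degree. -/
theorem pgroup_semiregular [Fintype α] {p : ℕ} [Fact p.Prime] (hp : p ∣ Fintype.card α)
    (hsharp : ∀ (g : G) (a b : α), a ≠ b → g • a = a → g • b = b → g = 1)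
    (Q : Subgroup G) (hQ : IsPGroup p Q) {g : G} (hg : g ∈ Q) {a : α} (ha : g • a = a) :
    g = 1 := by
  set S : Subgroup G := Q ⊓ stabilizer G a with hS_def
  have hS : IsPGroup p S := hQ.to_le inf_le_left
  have hmod := hS.card_modEq_card_fixedPoints α
  have hdvd : p ∣ Nat.card (fixedPoints S α) := by
    rw [Nat.card_eq_fintype_card] at hmod
    exact (Nat.modEq_zero_iff_dvd.mp (hmod.symm.trans (Nat.modEq_zero_iff_dvd.mpr hp)))
  have hamem : a ∈ fixedPoints S α := fun s => s.2.2
  have hne : Nonempty (fixedPoints S α) := ⟨⟨a, hamem⟩⟩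
  have hlt : 1 < Nat.card (fixedPoints S α) := by
    have hpos : 0 < Nat.card (fixedPoints S α) := Nat.card_pos
    have h1 := Nat.le_of_dvd hpos hdvd
    have h2 := (Fact.out : p.Prime).two_le
    omega
  have hnt : Nontrivial (fixedPoints S α) := Finite.one_lt_card_iff_nontrivial.mp hlt
  obtain ⟨⟨b, hb⟩, hba⟩ := exists_ne (⟨a, hamem⟩ : fixedPoints S α)
  have hab : a ≠ b := fun h => hba (Subtype.ext h.symm)
  exact hsharp g a b hab ha (hb ⟨g, hg, ha⟩)

/-- Structure of a finite sharply 2-transitive group (abstract form): the degree is a prime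
power `p ^ j`, and the centraliser `N` of an element of order `p` is a regular normal elementary
abelian subgroup, consisting of the identity and the fixed-point-free elements, and containing
every `p`-subgroup. -/
theorem sharp2_main [Finite G] [Fintype α] (htr : IsPretransitive G α)
    (hsharp : ∀ (g : G) (a b : α), a ≠ b → g • a = a → g • b = b → g = 1)
    (h2 : 2 ≤ Fintype.card α)
    (hcard : Nat.card G = Fintype.card α * (Fintype.card α - 1)) :
    ∃ (p j : ℕ) (N : Subgroup G), p.Prime ∧ 1 ≤ j ∧ Fintype.card α = p ^ j ∧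
      N.Normal ∧ (∀ x ∈ N, ∀ y ∈ N, x * y = y * x) ∧ (∀ x ∈ N, x ^ p = 1) ∧
      (∀ a b : α, ∃ g ∈ N, g • a = b) ∧ (∀ g ∈ N, ∀ a : α, g • a = a → g = 1) ∧
      (∀ g : G, g ∈ N ↔ g = 1 ∨ g ∈ fpf G α) ∧
      (∀ Q : Subgroup G, IsPGroup p Q → Q ≤ N) ∧ IsPGroup p N := by
  classical
  have hne : Nonempty α := Fintype.card_pos_iff.mp (by omega)
  obtain ⟨m, hm⟩ : ∃ m, Fintype.card α = m + 2 := ⟨Fintype.card α - 2, by omega⟩
  obtain ⟨p, hp, hpn⟩ := Nat.exists_prime_and_dvd (show Fintype.card α ≠ 1 by omega)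
  have : Fact p.Prime := ⟨hp⟩
  have hpG : p ∣ Nat.card G := by rw [hcard]; exact Dvd.dvd.mul_right hpn _
  obtain ⟨x, hx⟩ := exists_prime_orderOf_dvd_card' p hpG
  have hx1 : x ≠ 1 := by
    rintro rfl
    rw [orderOf_one] at hx
    exact hp.one_lt.ne hx
  have hxp : x ^ p = 1 := by rw [← hx]; exact pow_orderOf_eq_one x
  have hzp : IsPGroup p (Subgroup.zpowers x) := by
    apply IsPGroup.of_card (n := 1)
    rw [Nat.card_zpowers, hx, pow_one]
  have hxf : x ∈ fpf G α := by
    intro a ha
    exact hx1 (pgroup_semiregular hpn hsharp _ hzp (Subgroup.mem_zpowers x) ha)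
  set C : Subgroup G := Subgroup.centralizer {x} with hC
  have hCsemi : ∀ c ∈ C, ∀ a : α, c • a = a → c = 1 := by
    intro c hc a ha
    have hcx : x * c = c * x := Subgroup.mem_centralizer_iff.mp hc x rfl
    refine hsharp c a (x • a) (fun h => hxf a h.symm) ha ?_
    rw [← mul_smul, ← hcx, mul_smul, ha]
  obtain ⟨a0⟩ := id hne
  have hCinj : ∀ a : α, Function.Injective (fun c : C => (c : G) • a) := by
    intro a c d hcd
    simp only at hcd
    have h1 : (c : G)⁻¹ * (d : G) = 1 :=
      hCsemi _ (C.mul_mem (C.inv_mem c.2) d.2) a (by rw [mul_smul, ← hcd, inv_smul_smul])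
    rw [inv_mul_eq_one] at h1
    exact Subtype.ext h1
  have hCcard : Nat.card C ≤ m + 2 := by
    have := Nat.card_le_card_of_injective _ (hCinj a0)
    rwa [Nat.card_eq_fintype_card (α := α), hm] at this
  set Im : Set G := {y | ∃ g : G, g * x * g⁻¹ = y} with hIm
  have hImF : Im ⊆ fpf G α := by
    rintro _ ⟨g, rfl⟩
    exact conj_mem_fpf hxf g
  have hFcard := ncard_fpf_add_one htr hsharp h2
  have hle : Nat.card G ≤ Nat.card Im * Nat.card C := by
    choose s hs using (fun y : Im => y.2)
    let yy : G → Im := fun g => ⟨g * x * g⁻¹, g, rfl⟩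
    have hmemC : ∀ g : G, (s (yy g))⁻¹ * g ∈ C := by
      intro g
      rw [hC, Subgroup.mem_centralizer_iff]
      intro h hh
      rw [Set.mem_singleton_iff] at hh
      subst hh
      have h1 : s (yy g) * h * (s (yy g))⁻¹ = g * h * g⁻¹ := hs (yy g)
      calc h * ((s (yy g))⁻¹ * g) = (s (yy g))⁻¹ * (s (yy g) * h * (s (yy g))⁻¹) * g := by group
        _ = (s (yy g))⁻¹ * (g * h * g⁻¹) * g := by rw [h1]
        _ = (s (yy g))⁻¹ * g * h := by group
    let f : G → Im × C := fun g => (yy g, ⟨(s (yy g))⁻¹ * g, hmemC g⟩)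
    have hf : Function.Injective f := by
      intro g g' h
      have h1 : yy g = yy g' := congrArg Prod.fst h
      have h2 : (s (yy g))⁻¹ * g = (s (yy g'))⁻¹ * g' := congrArg (fun q : Im × C => (q.2 : G)) h
      rw [h1] at h2
      exact mul_left_cancel h2
    have := Nat.card_le_card_of_injective f hf
    rwa [Nat.card_prod] at this
  have hImle : Nat.card Im ≤ m + 1 := by
    rw [Nat.card_coe_set_eq]
    have := Set.ncard_le_ncard hImF (Set.toFinite _)
    omega
  rw [hcard, hm] at hle
  have hCeq : Nat.card C = m + 2 := by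
    by_contra hcon
    have h1 : Nat.card C ≤ m + 1 := by omega
    have := Nat.mul_le_mul hImle h1
    have h3 : m + 2 - 1 = m + 1 := by omega
    rw [h3] at hle
    nlinarith
  have hImeq : Nat.card Im = m + 1 := by
    by_contra hcon
    have h1 : Nat.card Im ≤ m := by omega
    have := Nat.mul_le_mul h1 hCcard
    have h3 : m + 2 - 1 = m + 1 := by omega
    rw [h3] at hle
    nlinarith
  have hImF' : Im = fpf G α := by
    apply Set.eq_of_subset_of_ncard_le hImF _ (Set.toFinite _)
    rw [Nat.card_coe_set_eq] at hImeq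
    omega
  have hCset : (C : Set G) = insert 1 (fpf G α) := by
    apply Set.eq_of_subset_of_ncard_le _ _ (Set.toFinite _)
    · intro c hc
      by_cases hc1 : c = 1
      · exact Or.inl hc1
      · right
        intro a ha
        exact hc1 (hCsemi c hc a ha)
    · rw [Set.ncard_insert_of_notMem (one_notMem_fpf (α := α)) (Set.toFinite _)]
      have : (C : Set G).ncard = Nat.card C := (Nat.card_coe_set_eq (C : Set G)).symm
      rw [this, hCeq]
      omega
  have hmem : ∀ g : G, g ∈ C ↔ g = 1 ∨ g ∈ fpf G α := by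
    intro g
    rw [← SetLike.mem_coe, hCset]
    rfl
  have hFp : ∀ y ∈ fpf G α, y ^ p = 1 := by
    intro y hy
    rw [← hImF'] at hy
    obtain ⟨g, rfl⟩ := hy
    rw [conj_pow, hxp, mul_one, mul_inv_cancel]
  have hnormal : C.Normal := by
    refine ⟨fun g hg h => ?_⟩
    rw [hmem] at hg ⊢
    rcases hg with rfl | hg
    · left; group
    · right; exact conj_mem_fpf hg h
  have hcomm : ∀ x1 ∈ C, ∀ y1 ∈ C, x1 * y1 = y1 * x1 := by
    intro x1 hx1 y1 hy1
    rcases (hmem y1).mp hy1 with rfl | hy1f
    · rw [mul_one, one_mul]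
    · rw [← hImF'] at hy1f
      obtain ⟨g, rfl⟩ := hy1f
      have h1 : g⁻¹ * x1 * g ∈ C := by
        have := hnormal.conj_mem x1 hx1 g⁻¹
        rwa [inv_inv] at this
      have h2 : x * (g⁻¹ * x1 * g) = g⁻¹ * x1 * g * x := Subgroup.mem_centralizer_iff.mp h1 x rfl
      calc x1 * (g * x * g⁻¹) = g * (g⁻¹ * x1 * g * x) * g⁻¹ := by group
        _ = g * (x * (g⁻¹ * x1 * g)) * g⁻¹ := by rw [h2]
        _ = g * x * g⁻¹ * x1 := by group
  have hexp : ∀ x1 ∈ C, x1 ^ p = 1 := by
    intro x1 hx1
    rcases (hmem x1).mp hx1 with rfl | h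
    · exact one_pow p
    · exact hFp x1 h
  have hCp : IsPGroup p C := by
    intro g
    refine ⟨1, ?_⟩
    apply Subtype.ext
    rw [pow_one, Subgroup.coe_pow, hexp g g.2]
    rfl
  obtain ⟨j, hj⟩ := (IsPGroup.iff_card (p := p)).mp hCp
  have hj1 : 1 ≤ j := by
    by_contra hcon
    have : j = 0 := by omega
    rw [this, pow_zero, hCeq] at hj
    omega
  have htrans : ∀ a b : α, ∃ g ∈ C, g • a = b := by
    intro a b
    have hbij := (hCinj a).bijective_of_nat_card_le (by
      rw [Nat.card_eq_fintype_card (α := α), hm, hCeq])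
    obtain ⟨c, hc⟩ := hbij.2 b
    exact ⟨c.1, c.2, hc⟩
  refine ⟨p, j, C, hp, hj1, ?_, hnormal, hcomm, hexp, htrans, hCsemi, hmem, ?_, hCp⟩
  · rw [hm, ← hCeq, hj]
  · intro Q hQ g hg
    rw [hmem]
    by_cases hg1 : g = 1
    · exact Or.inl hg1
    · right
      intro a ha
      exact hg1 (pgroup_semiregular hpn hsharp Q hQ hg ha)

end Sharp2

end Cfsg.Agent.Helper12
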