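import Mathlib
import Cfsg.Agent.Helper12.Sharp2

set_option autoImplicit false

namespace Cfsg.Agent.Helper12

open MulAction

section SharpK

variable {G : Type*} [Group G] {α : Type*} [MulAction G α]

/-- In a `k`-transitive action, any injective `k`-tuple can be moved to any other. -/
theorem sharpK_ex {k : ℕ} (hk : IsMultiplyPretransitive G α k) (f f' : Fin k → α)
    (hf : Function.Injective f) (hf' : Function.Injective f') :
    ∃ g : G, ∀ i, g • f i = f' i := by
  obtain ⟨g, hg⟩ := hk.exists_smul_eq (⟨f, hf⟩ : Fin k ↪ α) ⟨f', hf'⟩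
  refine ⟨g, fun i => ?_⟩
  have h := congrArg (fun e : Fin k ↪ α => e i) hg
  simpa using h

/-- In a sharply `k`-transitive action, an element is determined by its values on an
injective `k`-tuple. -/
theorem sharpK_eq {k : ℕ} (hsharp : ∀ x : Fin k ↪ α, stabilizer G x = ⊥) (f : Fin k → α)
    (hf : Function.Injective f) (g g' : G) (h : ∀ i, g • f i = g' • f i) : g = g' := by
  have hmem : g⁻¹ * g' ∈ stabilizer G (⟨f, hf⟩ : Fin k ↪ α) := by
    rw [mem_stabilizer_iff]
    ext i
    simp only [Function.Embedding.smul_apply, Function.Embedding.coeFn_mk]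
    rw [mul_smul, ← h i, inv_smul_smul]
  rw [hsharp, Subgroup.mem_bot] at hmem
  exact inv_mul_eq_one.mp hmem

/-- Four pairwise distinct points. -/
def D4 (a b c d : α) : Prop := a ≠ b ∧ a ≠ c ∧ a ≠ d ∧ b ≠ c ∧ b ≠ d ∧ c ≠ d

theorem inj4 {a b c d : α} (h : D4 a b c d) : Function.Injective ![a, b, c, d] := by
  obtain ⟨hab, hac, had, hbc, hbd, hcd⟩ := h
  intro i j hij
  fin_cases i <;> fin_cases j <;> simp_all

theorem ex4 (h4 : IsMultiplyPretransitive G α 4) {a b c d a' b' c' d' : α}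
    (h : D4 a b c d) (h' : D4 a' b' c' d') :
    ∃ g : G, g • a = a' ∧ g • b = b' ∧ g • c = c' ∧ g • d = d' := by
  obtain ⟨g, hg⟩ := sharpK_ex h4 ![a, b, c, d] ![a', b', c', d'] (inj4 h) (inj4 h')
  exact ⟨g, hg 0, hg 1, hg 2, hg 3⟩

theorem eq4 (hsharp : ∀ x : Fin 4 ↪ α, stabilizer G x = ⊥) {a b c d : α}
    (h : D4 a b c d) {g g' : G} (ha : g • a = g' • a) (hb : g • b = g' • b)
    (hc : g • c = g' • c) (hd : g • d = g' • d) : g = g' := by
  apply sharpK_eq hsharp ![a, b, c, d] (inj4 h)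
  intro i
  fin_cases i
  · exact ha
  · exact hb
  · exact hc
  · exact hd

/-- The subgroup of elements commuting with `t` and fixing every fixed point of `t`. -/
def fixCent (α : Type*) [MulAction G α] (t : G) : Subgroup G where
  carrier := {h | h * t = t * h ∧ ∀ y : α, t • y = y → h • y = y}
  mul_mem' := by
    rintro h h' ⟨h1, h2⟩ ⟨h1', h2'⟩
    refine ⟨?_, fun y hy => ?_⟩
    · rw [mul_assoc, h1', ← mul_assoc, h1, mul_assoc]
    · rw [mul_smul, h2' y hy, h2 y hy]
  one_mem' := ⟨by rw [one_mul, mul_one], fun y _ => one_smul G y⟩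
  inv_mem' := by
    rintro h ⟨h1, h2⟩
    refine ⟨?_, fun y hy => ?_⟩
    · have : Commute h t := h1
      exact this.inv_left
    · rw [inv_smul_eq_iff, h2 y hy]

theorem mem_fixCent {t h : G} :
    h ∈ fixCent α t ↔ h * t = t * h ∧ ∀ y : α, t • y = y → h • y = y := Iff.rfl

/-- The configuration of Tits' argument: `t` swaps `a, b` and fixes `c, d`. -/
structure TitsConf (G : Type*) [Group G] (α : Type*) [MulAction G α] (a b c d : α) (t : G) :
    Prop where
  h4 : IsMultiplyPretransitive G α 4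
  sharp : ∀ x : Fin 4 ↪ α, stabilizer G x = ⊥
  dist : D4 a b c d
  ta : t • a = b
  tb : t • b = a
  tc : t • c = c
  td : t • d = d

namespace TitsConf

variable {a b c d : α} {t : G}

theorem tt (C : TitsConf G α a b c d t) : t * t = 1 := by
  apply eq4 C.sharp C.dist
  · rw [mul_smul, C.ta, C.tb, one_smul]
  · rw [mul_smul, C.tb, C.ta, one_smul]
  · rw [mul_smul, C.tc, C.tc, one_smul]
  · rw [mul_smul, C.td, C.td, one_smul]

theorem tinv (C : TitsConf G α a b c d t) (y : α) : t • t • y = y := by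
  rw [← mul_smul, C.tt, one_smul]

theorem t_ne_one (C : TitsConf G α a b c d t) : t ≠ 1 := by
  intro h
  have h1 := C.ta
  rw [h, one_smul] at h1
  exact C.dist.1 h1

theorem fix4_false (C : TitsConf G α a b c d t) {p q r s : α} (hD : D4 p q r s)
    (hp : t • p = p) (hq : t • q = q) (hr : t • r = r) (hs : t • s = s) : False :=
  C.t_ne_one (eq4 C.sharp hD (by rw [hp, one_smul]) (by rw [hq, one_smul])
    (by rw [hr, one_smul]) (by rw [hs, one_smul]))

theorem fix_unique (C : TitsConf G α a b c d t) {e e' : α} (he : t • e = e) (he' : t • e' = e')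
    (hec : e ≠ c) (hed : e ≠ d) (he'c : e' ≠ c) (he'd : e' ≠ d) : e = e' := by
  by_contra hne
  exact C.fix4_false ⟨C.dist.2.2.2.2.2, hec.symm, he'c.symm, hed.symm, he'd.symm, hne⟩
    C.tc C.td he he'

theorem t_mem (_C : TitsConf G α a b c d t) : t ∈ fixCent α t := ⟨rfl, fun _ hy => hy⟩

/-- Points moved by `t` give four distinct points together with `c, d`. -/
theorem d4_moved (C : TitsConf G α a b c d t) {y : α} (hy : t • y ≠ y) : D4 c d y (t • y) := by
  refine ⟨C.dist.2.2.2.2.2, ?_, ?_, ?_, ?_, Ne.symm hy⟩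
  · rintro rfl; exact hy C.tc
  · intro h
    apply hy
    have h1 : t • c = y := by rw [h, C.tinv]
    rw [C.tc] at h1
    rw [← h1, C.tc]
  · rintro rfl; exact hy C.td
  · intro h
    apply hy
    have h1 : t • d = y := by rw [h, C.tinv]
    rw [C.td] at h1
    rw [← h1, C.td]

theorem reg_ex (C : TitsConf G α a b c d t) {y y' : α} (hy : t • y ≠ y) (hy' : t • y' ≠ y') :
    ∃ h ∈ fixCent α t, h • y = y' := by
  obtain ⟨g, hgc, hgd, hgy, hgty⟩ := ex4 C.h4 (C.d4_moved hy) (C.d4_moved hy')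
  have hcomm : g * t = t * g := by
    apply eq4 C.sharp (C.d4_moved hy)
    · rw [mul_smul, mul_smul, C.tc, hgc, C.tc]
    · rw [mul_smul, mul_smul, C.td, hgd, C.td]
    · rw [mul_smul, mul_smul, hgty, hgy]
    · rw [mul_smul, mul_smul, C.tinv, hgy, hgty, C.tinv]
  refine ⟨g, ⟨hcomm, fun s hs => ?_⟩, hgy⟩
  by_contra hne
  have hsc : s ≠ c := by rintro rfl; exact hne hgc
  have hsd : s ≠ d := by rintro rfl; exact hne hgd
  have hgs : t • (g • s) = g • s := by
    rw [← mul_smul, ← hcomm, mul_smul, hs]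
  have hgsc : g • s ≠ c := by
    intro h
    rw [← hgc] at h
    exact hsc (smul_left_cancel g h)
  have hgsd : g • s ≠ d := by
    intro h
    rw [← hgd] at h
    exact hsd (smul_left_cancel g h)
  exact hne (C.fix_unique hgs hs hgsc hgsd hsc hsd)

theorem reg_uniq (C : TitsConf G α a b c d t) {h h' : G} (hh : h ∈ fixCent α t)
    (hh' : h' ∈ fixCent α t) {y : α} (hy : t • y ≠ y) (e : h • y = h' • y) : h = h' := by
  apply eq4 C.sharp (C.d4_moved hy)
  · rw [hh.2 c C.tc, hh'.2 c C.tc]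
  · rw [hh.2 d C.td, hh'.2 d C.td]
  · exact e
  · rw [← mul_smul, ← mul_smul, hh.1, hh'.1, mul_smul, mul_smul, e]

theorem ta_ne (C : TitsConf G α a b c d t) : t • a ≠ a := by
  rw [C.ta]; exact Ne.symm C.dist.1

/-- Conjugation by an element commuting with `t` preserves `fixCent`. -/
theorem conj_mem (_C : TitsConf G α a b c d t) {σ h : G} (hσ : σ * t = t * σ)
    (hh : h ∈ fixCent α t) : σ * h * σ⁻¹ ∈ fixCent α t := by
  have hσc : Commute σ t := hσ
  have hhc : Commute h t := hh.1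
  refine ⟨((hσc.mul_left hhc).mul_left hσc.inv_left : Commute (σ * h * σ⁻¹) t), fun y hy => ?_⟩
  have h1 : t • (σ⁻¹ • y) = σ⁻¹ • y := by
    have h2 : σ⁻¹ * t = t * σ⁻¹ := hσc.inv_left
    rw [← mul_smul, ← h2, mul_smul, hy]
  rw [mul_smul, mul_smul, hh.2 _ h1, smul_inv_smul]

/-- An element commuting with `t`, fixing `a`, and centralising `h ∈ fixCent` forces
`h ∈ {1, t}`. -/
theorem cent_eq (C : TitsConf G α a b c d t) {σ h : G} (hσ : σ * t = t * σ) (hσa : σ • a = a)
    (hσ1 : σ ≠ 1) (hh : h ∈ fixCent α t) (hc : σ * h = h * σ) : h = 1 ∨ h = t := by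
  obtain ⟨hab, -⟩ := C.dist
  have hy : t • (h • a) ≠ h • a := by
    rw [← mul_smul, ← hh.1, mul_smul, C.ta]
    intro e
    exact hab (smul_left_cancel h e).symm
  have hσy : σ • (h • a) = h • a := by
    rw [← mul_smul, hc, mul_smul, hσa]
  have hσb : σ • b = b := by
    rw [← C.ta, ← mul_smul, hσ, mul_smul, hσa]
  have hσty : σ • (t • (h • a)) = t • (h • a) := by
    rw [← mul_smul, hσ, mul_smul, hσy]
  by_cases hya : h • a = a
  · left
    exact C.reg_uniq hh (fixCent α t).one_mem C.ta_ne (by rw [hya, one_smul])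
  by_cases hyb : h • a = b
  · right
    exact C.reg_uniq hh C.t_mem C.ta_ne (by rw [hyb, C.ta])
  exfalso
  apply hσ1
  have hD : D4 a b (h • a) (t • (h • a)) := by
    refine ⟨hab, Ne.symm hya, ?_, Ne.symm hyb, ?_, Ne.symm hy⟩
    · intro e
      apply hyb
      have e2 : t • a = t • (t • (h • a)) := congrArg (fun z => t • z) e
      rw [C.tinv] at e2
      rw [← e2, C.ta]
    · intro e
      apply hya
      have e2 : t • b = t • (t • (h • a)) := congrArg (fun z => t • z) e
      rw [C.tinv] at e2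
      rw [← e2, C.tb]
  exact eq4 C.sharp hD (by rw [hσa, one_smul]) (by rw [hσb, one_smul])
    (by rw [hσy, one_smul]) (by rw [hσty, one_smul])

end TitsConf

/-- The map `h ↦ h⁻¹ σ h σ⁻¹`. -/
def psi (σ h : G) : G := h⁻¹ * σ * h * σ⁻¹

theorem psi_inv (σ h : G) (hσ : σ * σ = 1) : σ * psi σ h * σ⁻¹ = (psi σ h)⁻¹ := by
  have hi : σ⁻¹ = σ := inv_eq_of_mul_eq_one_right hσ
  have hσ' : ∀ z : G, σ * (σ * z) = z := fun z => by rw [← mul_assoc, hσ, one_mul]
  unfold psi
  rw [hi, eq_inv_iff_mul_eq_one]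
  simp only [mul_assoc, hσ', mul_inv_cancel_left, inv_mul_cancel_left, one_mul, hσ]

namespace TitsConf

variable {a b c d : α} {t : G}

theorem psi_mem (C : TitsConf G α a b c d t) {σ h : G} (hσ : σ * t = t * σ)
    (hh : h ∈ fixCent α t) : psi σ h ∈ fixCent α t := by
  have h1 : psi σ h = h⁻¹ * (σ * h * σ⁻¹) := by unfold psi; group
  rw [h1]
  exact (fixCent α t).mul_mem ((fixCent α t).inv_mem hh) (C.conj_mem hσ hh)

theorem psi_fiber (C : TitsConf G α a b c d t) {σ h h₀ : G} (hσ : σ * t = t * σ)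
    (hσa : σ • a = a) (hσ1 : σ ≠ 1) (hh : h ∈ fixCent α t) (hh₀ : h₀ ∈ fixCent α t)
    (e : psi σ h = psi σ h₀) : h = h₀ ∨ h = t * h₀ := by
  have hc : σ * (h * h₀⁻¹) = (h * h₀⁻¹) * σ := by
    have e1 : σ * (h * h₀⁻¹) = h * (h⁻¹ * σ * h * σ⁻¹) * σ * h₀⁻¹ := by group
    have e2 : h⁻¹ * σ * h * σ⁻¹ = h₀⁻¹ * σ * h₀ * σ⁻¹ := e
    rw [e1, e2]; group
  rcases C.cent_eq hσ hσa hσ1 ((fixCent α t).mul_mem hh ((fixCent α t).inv_mem hh₀)) hc
    with h1 | h1
  · left; exact mul_inv_eq_one.mp h1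
  · right; exact mul_inv_eq_iff_eq_mul.mp h1

theorem psi_inter (C : TitsConf G α a b c d t) {σ σ' h h' : G} (hσ : σ * t = t * σ)
    (hσ' : σ' * t = t * σ') (hσa : σ • a = a) (hσ'a : σ' • a = a) (hσσ : σ * σ = 1)
    (hσσ' : σ' * σ' = 1) (hne : σ ≠ σ') (hh : h ∈ fixCent α t)
    (e : psi σ h = psi σ' h') : psi σ h = 1 ∨ psi σ h = t := by
  have i1 := psi_inv σ h hσσ
  have i2 := psi_inv σ' h' hσσ'
  rw [← e] at i2
  obtain ⟨x, hx⟩ : ∃ x, x = psi σ h := ⟨_, rfl⟩
  rw [← hx] at i1 i2 ⊢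
  have hxm : x ∈ fixCent α t := by rw [hx]; exact C.psi_mem hσ hh
  have hc : (σ' * σ) * x = x * (σ' * σ) := by
    have e1 : σ * x = x⁻¹ * σ := by
      rw [← i1]; group
    have e2 : σ' * x⁻¹ = x * σ' := by
      have i3 : σ' * x⁻¹ * σ'⁻¹ = x := by
        have e3 : σ' * x⁻¹ * σ'⁻¹ = (σ' * x * σ'⁻¹)⁻¹ := by group
        rw [e3, i2, inv_inv]
      calc σ' * x⁻¹ = (σ' * x⁻¹ * σ'⁻¹) * σ' := by group
        _ = x * σ' := by rw [i3]
    calc σ' * σ * x = σ' * (σ * x) := by group
      _ = σ' * x⁻¹ * σ := by rw [e1]; group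
      _ = x * (σ' * σ) := by rw [e2]; group
  have hσc : Commute σ t := hσ
  have hσ'c : Commute σ' t := hσ'
  apply C.cent_eq (σ := σ' * σ) (hσ'c.mul_left hσc) (by rw [mul_smul, hσa, hσ'a]) ?_ hxm hc
  intro h1
  apply hne
  have h2 : σ' = σ⁻¹ := eq_inv_of_mul_eq_one_left h1
  rw [h2, inv_eq_of_mul_eq_one_right hσσ]

theorem card_le_two_mul (C : TitsConf G α a b c d t) [DecidableEq G] (Hf : Finset G)
    (hmem : ∀ h, h ∈ Hf ↔ h ∈ fixCent α t) {σ : G}
    (hσ : σ * t = t * σ) (hσa : σ • a = a) (hσ1 : σ ≠ 1) :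
    Hf.card ≤ 2 * (Hf.image (psi σ)).card := by
  apply Finset.card_le_mul_card_image
  intro x hx
  obtain ⟨h₀, hh₀, rfl⟩ := Finset.mem_image.mp hx
  have hsub : Hf.filter (fun h => psi σ h = psi σ h₀) ⊆ {h₀, t * h₀} := by
    intro h hh
    rw [Finset.mem_filter] at hh
    rcases C.psi_fiber hσ hσa hσ1 ((hmem h).mp hh.1) ((hmem h₀).mp hh₀) hh.2 with e | e
    · rw [e]; simp
    · rw [e]; simp
  exact (Finset.card_le_card hsub).trans Finset.card_le_two

theorem card_le_eight (C : TitsConf G α a b c d t) [Finite G] {g₁ g₂ g₃ : G}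
    (h1 : g₁ * t = t * g₁) (h2 : g₂ * t = t * g₂) (h3 : g₃ * t = t * g₃)
    (a1 : g₁ • a = a) (a2 : g₂ • a = a) (a3 : g₃ • a = a)
    (s1 : g₁ * g₁ = 1) (s2 : g₂ * g₂ = 1) (s3 : g₃ * g₃ = 1)
    (n12 : g₁ ≠ g₂) (n13 : g₁ ≠ g₃) (n23 : g₂ ≠ g₃) (n1 : g₁ ≠ 1) (n2 : g₂ ≠ 1) (n3 : g₃ ≠ 1) :
    Nat.card (fixCent α t) ≤ 8 := by
  classical
  have := Fintype.ofFinite G
  obtain ⟨Hf, hHf⟩ : ∃ Hf : Finset G, Hf = Finset.univ.filter (· ∈ fixCent α t) := ⟨_, rfl⟩
  have hmem : ∀ h, h ∈ Hf ↔ h ∈ fixCent α t := by intro h; rw [hHf]; simp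
  have hcard : Nat.card (fixCent α t) = Hf.card := Nat.subtype_card Hf hmem
  rw [hcard]
  have c1 := C.card_le_two_mul Hf hmem h1 a1 n1
  have c2 := C.card_le_two_mul Hf hmem h2 a2 n2
  have c3 := C.card_le_two_mul Hf hmem h3 a3 n3
  have hT : ∀ S : Finset G, (∀ x ∈ S, x = 1 ∨ x = t) → S.card ≤ 2 := by
    intro S hS
    have : S ⊆ {1, t} := by
      intro x hx
      rcases hS x hx with e | e
      · rw [e]; simp
      · rw [e]; simp
    exact (Finset.card_le_card this).trans Finset.card_le_two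
  have hsub : ∀ σ : G, σ * t = t * σ → Hf.image (psi σ) ⊆ Hf := by
    intro σ hσ x hx
    obtain ⟨h, hh, rfl⟩ := Finset.mem_image.mp hx
    exact (hmem _).mpr (C.psi_mem hσ ((hmem h).mp hh))
  have i12 : (Hf.image (psi g₁) ∩ Hf.image (psi g₂)).card ≤ 2 := by
    apply hT
    intro x hx
    rw [Finset.mem_inter] at hx
    obtain ⟨h, hh, rfl⟩ := Finset.mem_image.mp hx.1
    obtain ⟨h', -, e⟩ := Finset.mem_image.mp hx.2
    exact C.psi_inter h1 h2 a1 a2 s1 s2 n12 ((hmem h).mp hh) e.symm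
  have i123 : ((Hf.image (psi g₁) ∪ Hf.image (psi g₂)) ∩ Hf.image (psi g₃)).card ≤ 2 := by
    apply hT
    intro x hx
    rw [Finset.mem_inter, Finset.mem_union] at hx
    obtain ⟨h', -, e⟩ := Finset.mem_image.mp hx.2
    rcases hx.1 with hx1 | hx1
    · obtain ⟨h, hh, rfl⟩ := Finset.mem_image.mp hx1
      exact C.psi_inter h1 h3 a1 a3 s1 s3 n13 ((hmem h).mp hh) e.symm
    · obtain ⟨h, hh, rfl⟩ := Finset.mem_image.mp hx1
      exact C.psi_inter h2 h3 a2 a3 s2 s3 n23 ((hmem h).mp hh) e.symm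
  have u1 := Finset.card_union_add_card_inter (Hf.image (psi g₁)) (Hf.image (psi g₂))
  have u2 := Finset.card_union_add_card_inter (Hf.image (psi g₁) ∪ Hf.image (psi g₂))
    (Hf.image (psi g₃))
  have u3 : ((Hf.image (psi g₁) ∪ Hf.image (psi g₂)) ∪ Hf.image (psi g₃)).card ≤ Hf.card :=
    Finset.card_le_card (Finset.union_subset (Finset.union_subset (hsub g₁ h1) (hsub g₂ h2))
      (hsub g₃ h3))
  omega

theorem card_le_four (C : TitsConf G α a b c d t) [Finite G] {g₁ : G}
    (h1 : g₁ * t = t * g₁) (a1 : g₁ • a = a) (s1 : g₁ * g₁ = 1) (n1 : g₁ ≠ 1)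
    (hexp : ∀ h ∈ fixCent α t, h * h = 1) :
    Nat.card (fixCent α t) ≤ 4 := by
  classical
  have := Fintype.ofFinite G
  obtain ⟨Hf, hHf⟩ : ∃ Hf : Finset G, Hf = Finset.univ.filter (· ∈ fixCent α t) := ⟨_, rfl⟩
  have hmem : ∀ h, h ∈ Hf ↔ h ∈ fixCent α t := by intro h; rw [hHf]; simp
  have hcard : Nat.card (fixCent α t) = Hf.card := Nat.subtype_card Hf hmem
  rw [hcard]
  have c1 := C.card_le_two_mul Hf hmem h1 a1 n1
  have c2 : (Hf.image (psi g₁)).card ≤ 2 := by
    have hsub : Hf.image (psi g₁) ⊆ {1, t} := by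
      intro x hx
      obtain ⟨h, hh, rfl⟩ := Finset.mem_image.mp hx
      have hh' : h ∈ fixCent α t := (hmem h).mp hh
      have hm := C.psi_mem h1 hh'
      have i1 := psi_inv g₁ h s1
      have hxx := hexp _ hm
      have hxi : (psi g₁ h)⁻¹ = psi g₁ h := inv_eq_of_mul_eq_one_right hxx
      rw [hxi] at i1
      have hc : g₁ * psi g₁ h = psi g₁ h * g₁ := by
        calc g₁ * psi g₁ h = (g₁ * psi g₁ h * g₁⁻¹) * g₁ := by group
          _ = psi g₁ h * g₁ := by rw [i1]
      rcases C.cent_eq h1 a1 n1 hm hc with e | e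
      · rw [e]; simp
      · rw [e]; simp
    exact (Finset.card_le_card hsub).trans Finset.card_le_two
  omega

end TitsConf

/-- Fixed points of an element of prime order, modulo `p`. -/
theorem card_filter_fixed_modEq [Fintype α] [DecidableEq α] (g : G) (p : ℕ) [Fact p.Prime]
    (hg : g ^ p = 1) :
    (Finset.univ.filter (fun y : α => g • y = y)).card ≡ Fintype.card α [MOD p] := by
  have h1 : (MulAction.toPerm g : Equiv.Perm α) ^ p ^ 1 = 1 := by
    rw [pow_one, ← MulAction.toPermHom_apply, ← map_pow, hg, map_one]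
  have h := Equiv.Perm.card_compl_support_modEq h1
  have h2 : Finset.univ.filter (fun y : α => g • y = y) =
      (MulAction.toPerm g : Equiv.Perm α).supportᶜ := by
    ext y
    simp [Equiv.Perm.mem_support]
  rw [h2]
  exact h

/-- In a finite sharply 2-transitive group in which some involution has no fixed point,
every fixed-point-free element is an involution. -/
theorem fpf_sq_eq_one_of_invol {L : Type*} [Group L] [Finite L] {X : Type*} [Fintype X]
    [MulAction L X]
    (h2 : ∀ x y x' y' : X, x ≠ y → x' ≠ y' → ∃ g : L, g • x = x' ∧ g • y = y')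
    (hsharp : ∀ (g : L) (x y : X), x ≠ y → g • x = x → g • y = y → g = 1)
    (t : L) (htf : t ∈ fpf L X) (htt : t * t = 1) (x₀ : X) :
    ∀ f ∈ fpf L X, f * f = 1 := by
  classical
  have hne : Nonempty X := ⟨x₀⟩
  have hx₁ : t • x₀ ≠ x₀ := htf x₀
  have hcard2 : 2 ≤ Fintype.card X := Fintype.one_lt_card_iff.mpr ⟨_, _, hx₁⟩
  have htr : IsPretransitive L X := ⟨fun x y => by
    by_cases h : x = y
    · exact ⟨1, by rw [one_smul, h]⟩
    · obtain ⟨g, hg, -⟩ := h2 x y y x h (Ne.symm h)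
      exact ⟨g, hg⟩⟩
  have hcount := ncard_fpf_add_one htr hsharp hcard2
  have hj : ∀ y : X, y ≠ x₀ → ∃ j : L, j ∈ fpf L X ∧ j * j = 1 ∧ j • x₀ = y := by
    intro y hy
    obtain ⟨k, hk1, hk2⟩ := h2 x₀ (t • x₀) x₀ y (Ne.symm hx₁) (Ne.symm hy)
    refine ⟨k * t * k⁻¹, conj_mem_fpf htf k, ?_, ?_⟩
    · calc k * t * k⁻¹ * (k * t * k⁻¹) = k * (t * t) * k⁻¹ := by group
        _ = 1 := by rw [htt]; group
    · have h3 : k⁻¹ • x₀ = x₀ := by rw [inv_smul_eq_iff, hk1]
      rw [mul_smul, mul_smul, h3, hk2]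
  choose! j hjf hjj hjx using hj
  intro f hf
  obtain ⟨S₀, hS₀⟩ : ∃ S₀ : Set X, S₀ = {y | y ≠ x₀} := ⟨_, rfl⟩
  subst hS₀
  have hS₀m : ∀ y : ({y | y ≠ x₀} : Set X), y.1 ≠ x₀ := fun y => y.2
  let φ : ({y | y ≠ x₀} : Set X) → fpf L X := fun y => ⟨j y.1, hjf y.1 (hS₀m y)⟩
  have hφ : Function.Injective φ := by
    intro y y' h
    have h' : j y.1 • x₀ = j y'.1 • x₀ := congrArg (fun f : fpf L X => (f.1 : L) • x₀) h
    rw [hjx y.1 (hS₀m y), hjx y'.1 (hS₀m y')] at h'
    exact Subtype.ext h'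
  have hcards : Nat.card (fpf L X) ≤ Nat.card ({y | y ≠ x₀} : Set X) := by
    rw [Nat.card_coe_set_eq, Nat.card_coe_set_eq]
    have h3 : ({y | y ≠ x₀} : Set X) = Set.univ \ {x₀} := by
      ext y; simp
    have h4 : ({y | y ≠ x₀} : Set X).ncard = Fintype.card X - 1 := by
      rw [h3, Set.ncard_sdiff_singleton_of_mem (Set.mem_univ x₀), Set.ncard_univ,
        Nat.card_eq_fintype_card]
    omega
  obtain ⟨y, hy⟩ := (hφ.bijective_of_nat_card_le hcards).2 ⟨f, hf⟩
  have h4 : j y.1 = f := congrArg Subtype.val hy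
  rw [← h4]
  exact hjj y.1 (hS₀m y)

namespace TitsConf

variable {a b c d : α} {t : G}

/-- A nonidentity element commuting with `t` and fixing `a` fixes no other point moved by `t`
besides `a` and `b`. -/
theorem fix_moved (C : TitsConf G α a b c d t) {σ : G} (hσ : σ * t = t * σ) (hσa : σ • a = a)
    (hσ1 : σ ≠ 1) {y : α} (hy : t • y ≠ y) (hσy : σ • y = y) : y = a ∨ y = b := by
  obtain ⟨hab, -⟩ := C.dist
  have hσb : σ • b = b := by
    rw [← C.ta, ← mul_smul, hσ, mul_smul, hσa]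
  have hσty : σ • (t • y) = t • y := by
    rw [← mul_smul, hσ, mul_smul, hσy]
  by_contra hcon
  push Not at hcon
  apply hσ1
  have hD : D4 a b y (t • y) := by
    refine ⟨hab, Ne.symm hcon.1, ?_, Ne.symm hcon.2, ?_, Ne.symm hy⟩
    · intro e
      apply hcon.2
      have e2 : t • a = t • (t • y) := congrArg (fun z => t • z) e
      rw [C.tinv] at e2
      rw [← e2, C.ta]
    · intro e
      apply hcon.1
      have e2 : t • b = t • (t • y) := congrArg (fun z => t • z) e
      rw [C.tinv] at e2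
      rw [← e2, C.tb]
  exact eq4 C.sharp hD (by rw [hσa, one_smul]) (by rw [hσb, one_smul])
    (by rw [hσy, one_smul]) (by rw [hσty, one_smul])

/-- The involution swapping two fixed points of `t` and fixing `a, b`. -/
theorem exists_swap (C : TitsConf G α a b c d t) {p q : α} (hp : t • p = p) (hq : t • q = q)
    (hpq : p ≠ q) :
    ∃ g : G, g * t = t * g ∧ g • a = a ∧ g * g = 1 ∧ g • p = q ∧ g • q = p := by
  obtain ⟨hab, -⟩ := C.dist
  have hD : D4 p q a b := by
    refine ⟨hpq, ?_, ?_, ?_, ?_, hab⟩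
    · rintro rfl; exact C.ta_ne hp
    · rintro rfl; rw [C.tb] at hp; exact hab hp
    · rintro rfl; exact C.ta_ne hq
    · rintro rfl; rw [C.tb] at hq; exact hab hq
  have hD' : D4 q p a b := ⟨hD.1.symm, hD.2.2.2.1, hD.2.2.2.2.1, hD.2.1, hD.2.2.1, hab⟩
  obtain ⟨g, gp, gq, ga, gb⟩ := ex4 C.h4 hD hD'
  refine ⟨g, ?_, ga, ?_, gp, gq⟩
  · apply eq4 C.sharp hD
    · rw [mul_smul, mul_smul, hp, gp, hq]
    · rw [mul_smul, mul_smul, hq, gq, hp]
    · rw [mul_smul, mul_smul, C.ta, gb, ga, C.ta]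
    · rw [mul_smul, mul_smul, C.tb, ga, gb, C.tb]
  · apply eq4 C.sharp hD
    · rw [mul_smul, gp, gq, one_smul]
    · rw [mul_smul, gq, gp, one_smul]
    · rw [mul_smul, ga, ga, one_smul]
    · rw [mul_smul, gb, gb, one_smul]

theorem card_le (C : TitsConf G α a b c d t) [Finite G] [Fintype α] [DecidableEq α] :
    Fintype.card α ≤
      (Finset.univ.filter (fun y : α => t • y = y)).card + Nat.card (fixCent α t) := by
  classical
  have h1 := Finset.card_filter_add_card_filter_not (s := (Finset.univ : Finset α))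
    (fun y => t • y = y)
  rw [Finset.card_univ] at h1
  have hex : ∀ y : α, t • y ≠ y → ∃ h ∈ fixCent α t, h • a = y :=
    fun y hy => C.reg_ex C.ta_ne hy
  choose! f hfH hfa using hex
  have h2 : (Finset.univ.filter (fun y : α => ¬ t • y = y)).card ≤ Nat.card (fixCent α t) := by
    have := Fintype.ofFinite G
    rw [Nat.subtype_card (Finset.univ.filter (· ∈ fixCent α t)) (by simp)]
    apply Finset.card_le_card_of_injOn f
    · intro y hy
      simp only [Finset.coe_filter, Finset.mem_univ, true_and, Set.mem_ofPred_eq] at hy ⊢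
      exact hfH y hy
    · intro y hy y' hy' e
      simp only [Finset.coe_filter, Finset.mem_univ, true_and, Set.mem_ofPred_eq] at hy hy'
      rw [← hfa y hy, ← hfa y' hy', e]
  omega

/-- If `t` has exactly the two fixed points `c, d`, then `fixCent` has exponent two. -/
theorem exp_two (C : TitsConf G α a b c d t) [Finite G] [Finite α]
    (hSig : ∀ y : α, t • y = y → y = c ∨ y = d) : ∀ h ∈ fixCent α t, h * h = 1 := by
  classical
  obtain ⟨hab, hac, had, hbc, hbd, hcd⟩ := C.dist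
  obtain ⟨s, hs⟩ : ∃ s : Set α, s = {c, d} := ⟨_, rfl⟩
  have hmemL : ∀ g : G, g ∈ fixingSubgroup G s ↔ g • c = c ∧ g • d = d := by
    intro g; rw [mem_fixingSubgroup_iff, hs]; simp
  have hX : ∀ y : α, y ∈ SubMulAction.ofFixingSubgroup G s ↔ y ≠ c ∧ y ≠ d := by
    intro y; rw [SubMulAction.mem_ofFixingSubgroup_iff, hs]; simp
  have hfinX := Fintype.ofFinite (SubMulAction.ofFixingSubgroup G s)
  have k2 : ∀ x y x' y' : SubMulAction.ofFixingSubgroup G s, x ≠ y → x' ≠ y' →
      ∃ g : fixingSubgroup G s, g • x = x' ∧ g • y = y' := by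
    intro x y x' y' hxy hxy'
    have hx := (hX x.1).mp x.2
    have hy := (hX y.1).mp y.2
    have hx' := (hX x'.1).mp x'.2
    have hy' := (hX y'.1).mp y'.2
    obtain ⟨g, hgc, hgd, hgx, hgy⟩ := ex4 C.h4 (a := c) (b := d) (c := x.1) (d := y.1)
      (a' := c) (b' := d) (c' := x'.1) (d' := y'.1)
      ⟨hcd, hx.1.symm, hy.1.symm, hx.2.symm, hy.2.symm, fun e => hxy (Subtype.ext e)⟩
      ⟨hcd, hx'.1.symm, hy'.1.symm, hx'.2.symm, hy'.2.symm, fun e => hxy' (Subtype.ext e)⟩
    exact ⟨⟨g, (hmemL g).mpr ⟨hgc, hgd⟩⟩, Subtype.ext hgx, Subtype.ext hgy⟩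
  have ksharp : ∀ (g : fixingSubgroup G s) (x y : SubMulAction.ofFixingSubgroup G s), x ≠ y →
      g • x = x → g • y = y → g = 1 := by
    intro g x y hxy hgx hgy
    have hx := (hX x.1).mp x.2
    have hy := (hX y.1).mp y.2
    have hg := (hmemL g.1).mp g.2
    have h1 : g.1 = 1 := eq4 C.sharp (a := c) (b := d) (c := x.1) (d := y.1)
      ⟨hcd, hx.1.symm, hy.1.symm, hx.2.symm, hy.2.symm, fun e => hxy (Subtype.ext e)⟩
      (by rw [hg.1, one_smul]) (by rw [hg.2, one_smul])
      (by rw [one_smul]; exact congrArg Subtype.val hgx)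
      (by rw [one_smul]; exact congrArg Subtype.val hgy)
    exact Subtype.ext h1
  have ktf : (⟨t, (hmemL t).mpr ⟨C.tc, C.td⟩⟩ : fixingSubgroup G s) ∈
      fpf (fixingSubgroup G s) (SubMulAction.ofFixingSubgroup G s) := by
    intro x hx
    have hx' : t • x.1 = x.1 := congrArg Subtype.val hx
    have hxm := (hX x.1).mp x.2
    rcases hSig _ hx' with e' | e'
    · exact hxm.1 e'
    · exact hxm.2 e'
  have key := fpf_sq_eq_one_of_invol k2 ksharp _ ktf (Subtype.ext C.tt)
    ⟨a, (hX a).mpr ⟨hac, had⟩⟩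
  intro h hh
  by_cases h1 : h = 1
  · rw [h1, one_mul]
  have hhL : h ∈ fixingSubgroup G s := (hmemL h).mpr ⟨hh.2 c C.tc, hh.2 d C.td⟩
  have h5 := key ⟨h, hhL⟩ (by
    intro x hx
    have hx' : h • x.1 = x.1 := congrArg Subtype.val hx
    have hxm := (hX x.1).mp x.2
    have htx : t • x.1 ≠ x.1 := fun e => by
      rcases hSig _ e with e' | e'
      · exact hxm.1 e'
      · exact hxm.2 e'
    exact h1 (C.reg_uniq hh (fixCent α t).one_mem htx (by rw [hx', one_smul])))
  exact congrArg Subtype.val h5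

end TitsConf

/-- Jordan: a finite sharply 4-transitive group has degree 4, 5, 6 or 11. -/
theorem sharp4_card {G : Type*} [Group G] {α : Type*} [MulAction G α] [Fintype α]
    (h4 : IsMultiplyPretransitive G α 4) (hsharp : ∀ x : Fin 4 ↪ α, stabilizer G x = ⊥)
    (hn : 4 ≤ Fintype.card α) :
    Fintype.card α = 4 ∨ Fintype.card α = 5 ∨ Fintype.card α = 6 ∨ Fintype.card α = 11 := by
  classical
  obtain ⟨e⟩ : Nonempty (Fin 4 ↪ α) := Function.Embedding.nonempty_of_card_le (by simpa using hn)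
  have hfinG : Finite G := by
    apply Finite.of_injective (fun g : G => g • e)
    intro g g' h
    apply sharpK_eq hsharp e e.injective
    intro i
    have h' := congrArg (fun x : Fin 4 ↪ α => x i) h
    simpa using h'
  have hD : D4 (e 0) (e 1) (e 2) (e 3) := by
    refine ⟨?_, ?_, ?_, ?_, ?_, ?_⟩ <;>
    · intro h
      have := e.injective h
      revert this
      decide
  obtain ⟨a, ha⟩ : ∃ a, a = e 0 := ⟨_, rfl⟩
  obtain ⟨b, hb⟩ : ∃ b, b = e 1 := ⟨_, rfl⟩
  obtain ⟨c, hc⟩ : ∃ c, c = e 2 := ⟨_, rfl⟩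
  obtain ⟨d, hd⟩ : ∃ d, d = e 3 := ⟨_, rfl⟩
  rw [← ha, ← hb, ← hc, ← hd] at hD
  obtain ⟨hab, hac, had, hbc, hbd, hcd⟩ := hD
  obtain ⟨t, hta, htb, htc, htd⟩ := ex4 h4 (a := a) (b := b) (c := c) (d := d)
    (a' := b) (b' := a) (c' := c) (d' := d) ⟨hab, hac, had, hbc, hbd, hcd⟩
    ⟨hab.symm, hbc, hbd, hac, had, hcd⟩
  have C : TitsConf G α a b c d t := ⟨h4, hsharp, ⟨hab, hac, had, hbc, hbd, hcd⟩, hta, htb, htc, htd⟩
  have hpar := card_filter_fixed_modEq (α := α) t 2 (by rw [pow_two]; exact C.tt)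
  have hle := C.card_le
  obtain ⟨g₁, g1t, g1a, g1s, g1c, g1d⟩ := C.exists_swap htc htd hcd
  have g1n : g₁ ≠ 1 := by
    rintro rfl
    rw [one_smul] at g1c
    exact hcd g1c
  by_cases hSig : ∀ y : α, t • y = y → y = c ∨ y = d
  · have hexp := C.exp_two hSig
    have h4' := C.card_le_four g1t g1a g1s g1n hexp
    have hFx : (Finset.univ.filter (fun y : α => t • y = y)).card = 2 := by
      have h5 : Finset.univ.filter (fun y : α => t • y = y) = {c, d} := by
        ext y
        simp only [Finset.mem_filter, Finset.mem_univ, true_and, Finset.mem_insert,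
          Finset.mem_singleton]
        constructor
        · exact hSig y
        · rintro (rfl | rfl)
          · exact htc
          · exact htd
      rw [h5, Finset.card_pair hcd]
    rw [hFx] at hpar hle
    have h6 : Fintype.card α % 2 = 0 := by
      have h7 := hpar
      unfold Nat.ModEq at h7
      omega
    omega
  · push Not at hSig
    obtain ⟨e', hte, hec, hed⟩ := hSig
    have hFx : (Finset.univ.filter (fun y : α => t • y = y)).card = 3 := by
      have h5 : Finset.univ.filter (fun y : α => t • y = y) = {c, d, e'} := by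
        ext y
        simp only [Finset.mem_filter, Finset.mem_univ, true_and, Finset.mem_insert,
          Finset.mem_singleton]
        constructor
        · intro hy
          by_cases h1 : y = c
          · exact Or.inl h1
          by_cases h2 : y = d
          · exact Or.inr (Or.inl h2)
          exact Or.inr (Or.inr (C.fix_unique hy hte h1 h2 hec hed))
        · rintro (rfl | rfl | rfl)
          · exact htc
          · exact htd
          · exact hte
      rw [h5, Finset.card_insert_of_notMem, Finset.card_pair (Ne.symm hed)]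
      simp only [Finset.mem_insert, Finset.mem_singleton, not_or]
      exact ⟨hcd, Ne.symm hec⟩
    obtain ⟨g₂, g2t, g2a, g2s, g2d, g2e⟩ := C.exists_swap htd hte (Ne.symm hed)
    obtain ⟨g₃, g3t, g3a, g3s, g3c, g3e⟩ := C.exists_swap htc hte (Ne.symm hec)
    have g2n : g₂ ≠ 1 := by
      rintro rfl
      rw [one_smul] at g2d
      exact hed g2d.symm
    have g3n : g₃ ≠ 1 := by
      rintro rfl
      rw [one_smul] at g3c
      exact hec g3c.symm
    have n12 : g₁ ≠ g₂ := by
      intro h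
      rw [h, g2d] at g1d
      exact hec g1d
    have n13 : g₁ ≠ g₃ := by
      intro h
      rw [h, g3c] at g1c
      exact hed g1c
    have n23 : g₂ ≠ g₃ := by
      intro h
      rw [h, g3e] at g2e
      exact hcd g2e
    have h8 := C.card_le_eight g1t g2t g3t g1a g2a g3a g1s g2s g3s n12 n13 n23 g1n g2n g3n
    -- the element of order three
    have hea : e' ≠ a := by rintro rfl; exact C.ta_ne hte
    have heb : e' ≠ b := by
      rintro rfl
      rw [htb] at hte
      exact hab hte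
    obtain ⟨δ, δc, δd, δa, δb⟩ := ex4 h4 (a := c) (b := d) (c := a) (d := b)
      (a' := d) (b' := e') (c' := a) (d' := b)
      ⟨hcd, hac.symm, hbc.symm, had.symm, hbd.symm, hab⟩
      ⟨Ne.symm hed, had.symm, hbd.symm, hea, heb, hab⟩
    have δt : δ * t = t * δ := by
      apply eq4 hsharp (a := c) (b := d) (c := a) (d := b)
        ⟨hcd, hac.symm, hbc.symm, had.symm, hbd.symm, hab⟩
      · rw [mul_smul, mul_smul, htc, δc, htd]
      · rw [mul_smul, mul_smul, htd, δd, hte]
      · rw [mul_smul, mul_smul, hta, δb, δa, hta]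
      · rw [mul_smul, mul_smul, htb, δa, δb, htb]
    have δe : δ • e' = c := by
      by_contra hne
      have h1 : t • (δ • e') = δ • e' := by
        rw [← mul_smul, ← δt, mul_smul, hte]
      have h2 : δ • e' ≠ d := by
        intro h
        rw [← δc] at h
        exact hec (smul_left_cancel δ h)
      have h3 : δ • e' = e' := C.fix_unique h1 hte hne h2 hec hed
      have h4 : δ • e' = δ • d := by rw [h3, δd]
      exact hed (smul_left_cancel δ h4)
    have δ3 : δ ^ 3 = 1 := by
      apply eq4 hsharp (a := c) (b := d) (c := a) (d := b)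
        ⟨hcd, hac.symm, hbc.symm, had.symm, hbd.symm, hab⟩
      · rw [pow_succ, pow_two, mul_smul, mul_smul, δc, δd, δe, one_smul]
      · rw [pow_succ, pow_two, mul_smul, mul_smul, δd, δe, δc, one_smul]
      · rw [pow_succ, pow_two, mul_smul, mul_smul, δa, δa, δa, one_smul]
      · rw [pow_succ, pow_two, mul_smul, mul_smul, δb, δb, δb, one_smul]
    have δn : δ ≠ 1 := by
      rintro rfl
      rw [one_smul] at δc
      exact hcd δc
    have hmod3 := card_filter_fixed_modEq (α := α) δ 3 δ3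
    have hFδ : (Finset.univ.filter (fun y : α => δ • y = y)).card = 2 := by
      have h5 : Finset.univ.filter (fun y : α => δ • y = y) = {a, b} := by
        ext y
        simp only [Finset.mem_filter, Finset.mem_univ, true_and, Finset.mem_insert,
          Finset.mem_singleton]
        constructor
        · intro hy
          by_cases hty : t • y = y
          · exfalso
            have h1 : y = c ∨ y = d ∨ y = e' := by
              by_cases h1 : y = c
              · exact Or.inl h1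
              by_cases h2 : y = d
              · exact Or.inr (Or.inl h2)
              exact Or.inr (Or.inr (C.fix_unique hty hte h1 h2 hec hed))
            rcases h1 with rfl | rfl | rfl
            · rw [δc] at hy; exact hcd hy.symm
            · rw [δd] at hy; exact hed hy
            · rw [δe] at hy; exact hec hy.symm
          · exact C.fix_moved δt δa δn hty hy
        · rintro (rfl | rfl)
          · exact δa
          · exact δb
      rw [h5, Finset.card_pair hab]
    rw [hFx] at hpar hle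
    rw [hFδ] at hmod3
    have h6 : Fintype.card α % 2 = 1 := by
      have h7 := hpar
      unfold Nat.ModEq at h7
      omega
    have h9 : Fintype.card α % 3 = 2 := by
      have h7 := hmod3
      unfold Nat.ModEq at h7
      omega
    omega

end SharpK

end Cfsg.Agent.Helper12
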