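import Mathlib
import Cfsg.Agent.Helper12.SharpK

set_option autoImplicit false

namespace Cfsg.Agent.Helper12

open MulAction

section SharpK2

universe u v

/-- The point stabiliser of a sharply `(k+1)`-transitive group is sharply `k`-transitive on the
remaining points. -/
theorem sharp_ofStabilizer {G : Type u} [Group G] {α : Type v} [MulAction G α] {k : ℕ}
    [IsPretransitive G α]
    (hk : IsMultiplyPretransitive G α (k + 1))
    (hsharp : ∀ x : Fin (k + 1) ↪ α, stabilizer G x = ⊥) (a : α) :
    IsMultiplyPretransitive (stabilizer G a) (SubMulAction.ofStabilizer G a) k ∧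
    ∀ x : Fin k ↪ SubMulAction.ofStabilizer G a, stabilizer (stabilizer G a) x = ⊥ := by
  refine ⟨SubMulAction.ofStabilizer.isMultiplyPretransitive.mp hk, fun x => ?_⟩
  rw [eq_bot_iff]
  intro g hg
  rw [Subgroup.mem_bot]
  rw [mem_stabilizer_iff] at hg
  have h1 : g.1 ∈ stabilizer G (SubMulAction.ofStabilizer.snoc x) := by
    rw [mem_stabilizer_iff]
    ext i
    rw [Function.Embedding.smul_apply]
    rcases Fin.eq_castSucc_or_eq_last i with ⟨i, rfl⟩ | rfl
    · rw [SubMulAction.ofStabilizer.snoc_castSucc]
      have h2 := congrArg (fun e : Fin k ↪ SubMulAction.ofStabilizer G a => ((e i).1 : α)) hg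
      exact h2
    · rw [SubMulAction.ofStabilizer.snoc_last]
      exact g.2
  rw [hsharp, Subgroup.mem_bot] at h1
  exact Subtype.ext h1

/-- Transitivity from `k`-transitivity, `k ≥ 1`. -/
theorem isPretransitive_of_multTrans {G : Type u} [Group G] {α : Type v} [MulAction G α]
    [Finite α] {k : ℕ} (hk1 : 1 ≤ k) (hkn : k ≤ Nat.card α)
    (hk : IsMultiplyPretransitive G α k) : IsPretransitive G α :=
  is_one_pretransitive_iff.mp (isMultiplyPretransitive_of_le (n := k) hk1 hkn)

/-- Jordan: a finite sharply 5-transitive group has degree 5, 6, 7 or 12. -/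
theorem sharp5_card {G : Type u} [Group G] {α : Type v} [MulAction G α] [Fintype α]
    (h5 : IsMultiplyPretransitive G α 5) (hsharp : ∀ x : Fin 5 ↪ α, stabilizer G x = ⊥)
    (hn : 5 ≤ Fintype.card α) :
    Fintype.card α = 5 ∨ Fintype.card α = 6 ∨ Fintype.card α = 7 ∨ Fintype.card α = 12 := by
  classical
  have hcard : Nat.card α = Fintype.card α := Nat.card_eq_fintype_card
  have htr : IsPretransitive G α := isPretransitive_of_multTrans (k := 5) (by norm_num)
    (by omega) h5
  have hne : Nonempty α := Fintype.card_pos_iff.mp (by omega)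
  obtain ⟨a⟩ := hne
  obtain ⟨h4, hs4⟩ := sharp_ofStabilizer (k := 4) h5 hsharp a
  have hfin := Fintype.ofFinite (SubMulAction.ofStabilizer G a)
  have hc := SubMulAction.nat_card_ofStabilizer_eq G a
  rw [Nat.card_eq_fintype_card, hcard] at hc
  have := sharp4_card h4 hs4 (by omega)
  omega

end SharpK2

end Cfsg.Agent.Helper12
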