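import Mathlib
import Cfsg.Agent.Helper12.SharpK2

set_option autoImplicit false

namespace Cfsg.Agent.Helper12

open MulAction

section Sharp3

universe u v

theorem descFactorial_two' (n : ℕ) : n.descFactorial 2 = n * (n - 1) := by
  have h2 : n.descFactorial 2 = (n - 1) * n.descFactorial 1 := Nat.descFactorial_succ n 1
  have h1 : n.descFactorial 1 = n := Nat.descFactorial_one n
  rw [h2, h1]; ring

theorem descFactorial_three' (n : ℕ) : n.descFactorial 3 = n * (n - 1) * (n - 2) := by
  have h3 : n.descFactorial 3 = (n - 2) * n.descFactorial 2 := Nat.descFactorial_succ n 2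
  rw [h3, descFactorial_two']; ring

/-- A sharply `k`-transitive group on a finite set is finite. -/
theorem sharp_finite {G : Type u} [Group G] {α : Type v} [MulAction G α] [Fintype α] {k : ℕ}
    (hsharp : ∀ x : Fin k ↪ α, stabilizer G x = ⊥) (hkn : k ≤ Fintype.card α) : Finite G := by
  classical
  obtain ⟨e⟩ : Nonempty (Fin k ↪ α) := Function.Embedding.nonempty_of_card_le (by simpa using hkn)
  apply Finite.of_injective (fun g : G => g • e)
  intro g g' h
  apply sharpK_eq hsharp e e.injective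
  intro i
  have h' := congrArg (fun x : Fin k ↪ α => x i) h
  simpa using h'

/-- The order of a sharply `k`-transitive group. -/
theorem sharp_card {G : Type u} [Group G] {α : Type v} [MulAction G α] [Fintype α] {k : ℕ}
    (hk : IsMultiplyPretransitive G α k) (hsharp : ∀ x : Fin k ↪ α, stabilizer G x = ⊥)
    (hkn : k ≤ Fintype.card α) : Nat.card G = (Fintype.card α).descFactorial k := by
  classical
  obtain ⟨e⟩ : Nonempty (Fin k ↪ α) := Function.Embedding.nonempty_of_card_le (by simpa using hkn)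
  have hbij : Function.Bijective (fun g : G => g • e) := by
    refine ⟨?_, fun x => hk.exists_smul_eq e x⟩
    intro g g' h
    apply sharpK_eq hsharp e e.injective
    intro i
    have h' := congrArg (fun x : Fin k ↪ α => x i) h
    simpa using h'
  rw [Nat.card_congr (Equiv.ofBijective _ hbij), Nat.card_eq_fintype_card,
    Fintype.card_embedding_eq, Fintype.card_fin]

/-- In a sharply 3-transitive action, an element fixing three distinct points is trivial. -/
theorem sharp3_eq_one {G : Type u} [Group G] {α : Type v} [MulAction G α]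
    (hsharp : ∀ x : Fin 3 ↪ α, stabilizer G x = ⊥) {g : G} {a b c : α}
    (hab : a ≠ b) (hac : a ≠ c) (hbc : b ≠ c) (ha : g • a = a) (hb : g • b = b)
    (hc : g • c = c) : g = 1 := by
  have hinj : Function.Injective ![a, b, c] := by
    intro i j hij
    fin_cases i <;> fin_cases j <;> simp_all
  apply sharpK_eq hsharp ![a, b, c] hinj
  intro i
  fin_cases i
  · show g • a = (1 : G) • a
    rw [one_smul]; exact ha
  · show g • b = (1 : G) • b
    rw [one_smul]; exact hb
  · show g • c = (1 : G) • c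
    rw [one_smul]; exact hc

/-- Point stabilisers of a sharply 3-transitive group of odd degree: the degree is `2 ^ f + 1`
and the stabiliser of `a` has a normal elementary abelian 2-subgroup `N`, semiregular off `a`,
containing every 2-subgroup fixing `a` and every element whose only fixed point is `a`. -/
theorem sharp3_stab {G : Type u} [Group G] {α : Type v} [MulAction G α] [Fintype α]
    (h3 : IsMultiplyPretransitive G α 3) (hsharp : ∀ x : Fin 3 ↪ α, stabilizer G x = ⊥)
    (hodd : Odd (Fintype.card α)) (hm : 3 ≤ Fintype.card α) (a : α) :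
    ∃ (f : ℕ) (N : Subgroup G), 1 ≤ f ∧ Fintype.card α = 2 ^ f + 1 ∧
      (∀ x ∈ N, x • a = a) ∧ (∀ x ∈ N, ∀ y ∈ N, x * y = y * x) ∧ (∀ x ∈ N, x ^ 2 = 1) ∧
      (∀ x ∈ N, x ≠ 1 → ∀ b, x • b = b → b = a) ∧
      (∀ g : G, g • a = a → (∀ b, g • b = b → b = a) → g ∈ N) ∧
      (∀ Q : Subgroup G, IsPGroup 2 Q → (∀ g ∈ Q, g • a = a) → Q ≤ N) := by
  classical
  have hfinG : Finite G := sharp_finite hsharp hm
  have htr : IsPretransitive G α :=
    isPretransitive_of_multTrans (k := 3) (by norm_num)
      (by rw [Nat.card_eq_fintype_card]; exact hm) h3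
  obtain ⟨h2H, hsharpH⟩ := sharp_ofStabilizer (k := 2) h3 hsharp a
  have hfinβ : Fintype (SubMulAction.ofStabilizer G a) := Fintype.ofFinite _
  have hcardβ : Fintype.card (SubMulAction.ofStabilizer G a) = Fintype.card α - 1 := by
    rw [← Nat.card_eq_fintype_card, SubMulAction.nat_card_ofStabilizer_eq G a,
      Nat.card_eq_fintype_card]
  have htrH : IsPretransitive (stabilizer G a) (SubMulAction.ofStabilizer G a) :=
    isPretransitive_of_multTrans (k := 2) (by norm_num)
      (by rw [Nat.card_eq_fintype_card, hcardβ]; omega) h2H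
  have hcardH : Nat.card (stabilizer G a) = Fintype.card (SubMulAction.ofStabilizer G a) *
      (Fintype.card (SubMulAction.ofStabilizer G a) - 1) := by
    rw [sharp_card h2H hsharpH (by rw [hcardβ]; omega), descFactorial_two']
  have hsh2 : ∀ (g : stabilizer G a) (b c : SubMulAction.ofStabilizer G a), b ≠ c →
      g • b = b → g • c = c → g = 1 := by
    intro g b c hbc hb hc
    have hinj : Function.Injective ![b, c] := by
      intro i j hij
      fin_cases i <;> fin_cases j <;> simp_all
    apply sharpK_eq hsharpH ![b, c] hinj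
    intro i
    fin_cases i
    · show g • b = (1 : stabilizer G a) • b
      rw [one_smul]; exact hb
    · show g • c = (1 : stabilizer G a) • c
      rw [one_smul]; exact hc
  obtain ⟨p, j, N, hp, hj, hpj, hNn, hNc, hNe, hNt, hNs, hNm, hNQ, hNp⟩ :=
    sharp2_main htrH hsh2 (by rw [hcardβ]; omega) hcardH
  have hp2 : p = 2 := by
    have heven : 2 ∣ p ^ j := by
      rw [← hpj, hcardβ]
      obtain ⟨r, hr⟩ := hodd
      omega
    exact ((Nat.prime_dvd_prime_iff_eq Nat.prime_two hp).mp
      (Nat.prime_two.dvd_of_dvd_pow heven)).symm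
  subst hp2
  refine ⟨j, N.map (stabilizer G a).subtype, hj, by omega, ?_, ?_, ?_, ?_, ?_, ?_⟩
  · rintro _ ⟨x, -, rfl⟩
    exact x.2
  · rintro _ ⟨x, hx, rfl⟩ _ ⟨y, hy, rfl⟩
    exact congrArg (fun z : stabilizer G a => (z : G)) (hNc x hx y hy)
  · rintro _ ⟨x, hx, rfl⟩
    exact congrArg (fun z : stabilizer G a => (z : G)) (hNe x hx)
  · rintro _ ⟨x, hx, rfl⟩ hx1 b hb
    by_contra hba
    have hbmem : b ∈ SubMulAction.ofStabilizer G a := by
      rw [SubMulAction.mem_ofStabilizer_iff]; exact hba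
    have h1 := hNs x hx ⟨b, hbmem⟩ (Subtype.ext hb)
    exact hx1 (by rw [h1]; rfl)
  · intro g hga hgb
    refine ⟨⟨g, hga⟩, ?_, rfl⟩
    rw [SetLike.mem_coe, hNm]
    right
    intro b hb
    have h1 := hgb b.1 (congrArg Subtype.val hb)
    exact (SubMulAction.mem_ofStabilizer_iff (G := G) a).mp b.2 h1
  · intro Q hQ hQa g hg
    have hQ' : IsPGroup 2 (Q.subgroupOf (stabilizer G a)) := hQ.comap_subtype
    have h1 := hNQ _ hQ' (show (⟨g, hQa g hg⟩ : stabilizer G a) ∈ Q.subgroupOf (stabilizer G a)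
      from hg)
    exact ⟨⟨g, hQa g hg⟩, h1, rfl⟩

/-- Global structure of a sharply 3-transitive group of odd degree. -/
theorem sharp3_odd {G : Type u} [Group G] {α : Type v} [MulAction G α] [Fintype α]
    (h3 : IsMultiplyPretransitive G α 3) (hsharp : ∀ x : Fin 3 ↪ α, stabilizer G x = ⊥)
    (hodd : Odd (Fintype.card α)) (hm : 3 ≤ Fintype.card α) :
    ∃ f : ℕ, 1 ≤ f ∧ Fintype.card α = 2 ^ f + 1 ∧
      Nat.card G = (2 ^ f + 1) * 2 ^ f * (2 ^ f - 1) ∧
      (∀ T : Sylow 2 G, Nat.card T = 2 ^ f ∧ (∀ g ∈ T, g ^ 2 = 1) ∧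
        ¬ (T : Subgroup G).Normal) ∧
      (∀ t : G, orderOf t = 2 → ∀ c ∈ Subgroup.centralizer ({t} : Set G),
         c ^ 2 = 1 ∧ ∀ d ∈ Subgroup.centralizer ({t} : Set G), c * d = d * c) := by
  classical
  have hfinG : Finite G := sharp_finite hsharp hm
  have htr : IsPretransitive G α :=
    isPretransitive_of_multTrans (k := 3) (by norm_num)
      (by rw [Nat.card_eq_fintype_card]; exact hm) h3
  obtain ⟨e⟩ : Nonempty (Fin 3 ↪ α) := Function.Embedding.nonempty_of_card_le (by simpa using hm)
  obtain ⟨f, -, hf, hcard, -⟩ := sharp3_stab h3 hsharp hodd hm (e 0)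
  have hG : Nat.card G = (2 ^ f + 1) * 2 ^ f * (2 ^ f - 1) := by
    rw [sharp_card h3 hsharp hm, hcard, descFactorial_three']
    have h1 : 2 ^ f + 1 - 1 = 2 ^ f := by omega
    have h2 : 2 ^ f + 1 - 2 = 2 ^ f - 1 := by omega
    rw [h1, h2]
  have hnd : ¬ 2 ∣ Nat.card α := by
    rw [Nat.card_eq_fintype_card]; exact hodd.not_two_dvd_nat
  have h2grp : ∀ Q : Subgroup G, IsPGroup 2 Q →
      ∃ a : α, (∀ g ∈ Q, g • a = a) ∧ (∀ g ∈ Q, g ^ 2 = 1) := by
    intro Q hQ
    obtain ⟨a, ha⟩ := hQ.nonempty_fixed_point_of_prime_not_dvd_card α hnd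
    have hQa : ∀ g ∈ Q, g • a = a := fun g hg => ha ⟨g, hg⟩
    obtain ⟨f', N, -, -, -, -, hNe, -, -, hNQ⟩ := sharp3_stab h3 hsharp hodd hm a
    exact ⟨a, hQa, fun g hg => hNe g (hNQ Q hQ hQa hg)⟩
  have h2f : 2 ≤ 2 ^ f := by
    calc 2 = 2 ^ 1 := rfl
      _ ≤ 2 ^ f := Nat.pow_le_pow_right (by norm_num) hf
  have hd2 : 2 ∣ 2 ^ f := dvd_pow_self 2 (by omega)
  refine ⟨f, hf, hcard, hG, ?_, ?_⟩
  · intro T
    obtain ⟨a, hTa, hTe⟩ := h2grp T T.isPGroup'
    have hTcard : Nat.card T = 2 ^ f := by
      rw [Sylow.card_eq_multiplicity, hG]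
      congr 1
      have ho1 : ¬ 2 ∣ 2 ^ f + 1 := by omega
      have ho2 : ¬ 2 ∣ 2 ^ f - 1 := by omega
      have hne1 : 2 ^ f + 1 ≠ 0 := by omega
      have hne2 : (2 : ℕ) ^ f ≠ 0 := by omega
      have hne3 : 2 ^ f - 1 ≠ 0 := by omega
      rw [Nat.factorization_mul (mul_ne_zero hne1 hne2) hne3, Nat.factorization_mul hne1 hne2,
        Finsupp.add_apply, Finsupp.add_apply, Nat.factorization_eq_zero_of_not_dvd ho1,
        Nat.factorization_eq_zero_of_not_dvd ho2, Nat.Prime.factorization_pow Nat.prime_two,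
        Finsupp.single_eq_same]
      omega
    refine ⟨hTcard, hTe, ?_⟩
    intro hnorm
    have hfix : ∀ g ∈ T, ∀ b : α, g • b = b := by
      intro g hg b
      obtain ⟨h, rfl⟩ := htr.exists_smul_eq a b
      have h1 : h⁻¹ * g * h ∈ (T : Subgroup G) := by
        have := hnorm.conj_mem g hg h⁻¹
        rwa [inv_inv] at this
      have h2 := hTa _ h1
      rw [mul_smul, mul_smul, inv_smul_eq_iff] at h2
      exact h2
    have hT1 : ∀ g ∈ (T : Subgroup G), g = 1 := by
      intro g hg
      apply sharpK_eq hsharp e e.injective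
      intro i
      rw [hfix g hg, one_smul]
    have hbot : (T : Subgroup G) = ⊥ := (Subgroup.eq_bot_iff_forall _).mpr hT1
    have hc1 : Nat.card (T : Subgroup G) = 1 := by rw [hbot]; exact Subgroup.card_bot
    have hc2 : Nat.card (T : Subgroup G) = 2 ^ f := hTcard
    omega
  · intro t ht
    have ht1 : t ≠ 1 := by
      rintro rfl
      rw [orderOf_one] at ht
      omega
    have hzp : IsPGroup 2 (Subgroup.zpowers t) := by
      apply IsPGroup.of_card (n := 1)
      rw [Nat.card_zpowers, ht, pow_one]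
    obtain ⟨a, ha⟩ := hzp.nonempty_fixed_point_of_prime_not_dvd_card α hnd
    have hta : t • a = a := ha ⟨t, Subgroup.mem_zpowers t⟩
    obtain ⟨f', N, -, -, hNa, hNc, hNe, hNs, hNm, hNQ⟩ := sharp3_stab h3 hsharp hodd hm a
    have htN : t ∈ N := hNQ _ hzp (fun g hg => ha ⟨g, hg⟩) (Subgroup.mem_zpowers t)
    have hCN : ∀ c ∈ Subgroup.centralizer ({t} : Set G), c ∈ N := by
      intro c hc
      have hct : t * c = c * t := Subgroup.mem_centralizer_iff.mp hc t rfl
      have hca : c • a = a := by
        apply hNs t htN ht1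
        rw [← mul_smul, hct, mul_smul, hta]
      by_cases hc1 : c = 1
      · rw [hc1]; exact N.one_mem
      apply hNm c hca
      intro b hb
      by_contra hba
      have htb : t • b ≠ b := fun h => hba (hNs t htN ht1 b h)
      have htba : t • b ≠ a := by
        intro h
        apply hba
        have h' : t • b = t • a := by rw [h, hta]
        exact smul_left_cancel t h'
      have hctb : c • (t • b) = t • b := by
        rw [← mul_smul, ← hct, mul_smul, hb]
      exact hc1 (sharp3_eq_one hsharp (Ne.symm hba) htba.symm htb.symm hca hb hctb)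
    intro c hc
    exact ⟨hNe c (hCN c hc), fun d hd => hNc c (hCN c hc) d (hCN d hd)⟩

end Sharp3

end Cfsg.Agent.Helper12
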